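import Mathlib
import Groth.Prelude.Def_AlgSt2
import Groth.Agent.Lib.Helper2.FibCat.EquivCrit
import Groth.Agent.Lib.Helper2.FibCat.ReprInv
import Groth.Agent.Lib.Helper2.FibCat.FpMap
import Groth.Agent.Lib.Helper2.FibCat.Paste

/-!
# Representability by algebraic spaces with a property: formal invariance (helper2)
-/

set_option autoImplicit false
open CategoryTheory CategoryTheory.Functor CategoryTheory.Limits AlgebraicGeometry Opposite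

universe w₃ v₃ w₂ v₂ w' v' w v u

namespace Groth.Agent.Helper2.AlgStLib

open Groth.Agent.Helper2 Groth.Agent.Helper2.FibCatLib

theorem over_hom_eq_of_left_eqToHom {T : Type*} [Category T] {U X : T} {A A' : Over U}
    (hA : A.left = X) (hA' : A'.left = X) (m : A ⟶ A')
    (hm : m.left = eqToHom hA ≫ 𝟙 X ≫ eqToHom hA'.symm) :
    eqToHom hA.symm ≫ A.hom = eqToHom hA'.symm ≫ A'.hom := by
  have h := Over.w m
  rw [← h, hm]
  simp

variable {S : Scheme.{u}}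

/-- The structure morphism read off from a functor to a slice depends only on its 2-isomorphism
class. -/
theorem secHom_congr {F : AlgSp.Sp S} {U : Over S} {Φ Φ' : AlgSt.ofSp F ⥤ᵇ FibCat.overCat U}
    (α : Φ ⟶ Φ') (a : (AlgSt.ofSp F).obj) : AlgSt.secHom Φ a = AlgSt.secHom Φ' a := by
  have h1 : (FibCat.overCat U).p.IsHomLift (𝟙 a.base) (α.toNatTrans.app a) := α.isHomLift' a
  have h2 : (α.toNatTrans.app a).left = eqToHom (Φ.w_obj a) ≫ 𝟙 a.base ≫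
      eqToHom (Φ'.w_obj a).symm :=
    IsHomLift.fac' (FibCat.overCat U).p (𝟙 a.base) (α.toNatTrans.app a)
  exact over_hom_eq_of_left_eqToHom (Φ.w_obj a) (Φ'.w_obj a) (α.toNatTrans.app a) h2

theorem spMapOfOver_congr {F : AlgSp.Sp S} {U : Over S} {Φ Φ' : AlgSt.ofSp F ⥤ᵇ FibCat.overCat U}
    (α : Φ ⟶ Φ') : AlgSt.spMapOfOver Φ = AlgSt.spMapOfOver Φ' := by
  apply ObjectProperty.hom_ext
  ext T x
  change (⟨AlgSt.secHom Φ ⟨T.unop, x⟩⟩ : ULift _) = ⟨AlgSt.secHom Φ' ⟨T.unop, x⟩⟩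
  rw [secHom_congr α]

/-- A category over `(Sch/S)` with a functor to a slice `(Sch/U)` is represented by an algebraic
space whose morphism to `U` has `P`. -/
def RepOver (P : MorphismProperty (AlgSp.Sp S)) {U : Over S} (𝒜 : BasedCategory.{v, w} (Over S))
    (π : 𝒜 ⥤ᵇ FibCat.overCat U) : Prop :=
  ∃ (F : AlgSp.Space S) (e : AlgSt.ofSp F.obj ⥤ᵇ 𝒜),
    FibCat.IsEquivOver e ∧ P (AlgSt.spMapOfOver (BasedFunctor.comp e π))

theorem repByAlgSpWith_iff (P : MorphismProperty (AlgSp.Sp S)) {𝒳 : BasedCategory.{v, w} (Over S)}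
    {𝒴 : BasedCategory.{v', w'} (Over S)} (f : 𝒳 ⥤ᵇ 𝒴) :
    AlgSt.RepByAlgSpWith P f ↔
      ∀ (U : Over S) (y : FibCat.overCat U ⥤ᵇ 𝒴), RepOver P (FibCat.fp y f) (FibCat.fpFst y f) :=
  Iff.rfl

theorem repOver_of_equiv (P : MorphismProperty (AlgSp.Sp S)) {U : Over S}
    {𝒜 : BasedCategory.{v, w} (Over S)} {𝒜' : BasedCategory.{v', w'} (Over S)}
    (π : 𝒜 ⥤ᵇ FibCat.overCat U) (π' : 𝒜' ⥤ᵇ FibCat.overCat U) (Ψ : 𝒜 ⥤ᵇ 𝒜')
    (hΨ : FibCat.IsEquivOver Ψ) (θ : BasedFunctor.comp Ψ π' ⟶ π) (h : RepOver P 𝒜 π) :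
    RepOver P 𝒜' π' := by
  obtain ⟨F, e, he, hP⟩ := h
  refine ⟨F, BasedFunctor.comp e Ψ, ReprInv.isEquivOver_comp he hΨ, ?_⟩
  have h1 : AlgSt.spMapOfOver (BasedFunctor.comp (BasedFunctor.comp e Ψ) π') =
      AlgSt.spMapOfOver (BasedFunctor.comp e π) :=
    spMapOfOver_congr (BasedCategory.whiskerLeft e θ)
  rw [h1]
  exact hP

theorem repOver_iff_of_equiv (P : MorphismProperty (AlgSp.Sp S)) {U : Over S}
    {𝒜 : BasedCategory.{v, w} (Over S)} {𝒜' : BasedCategory.{v', w'} (Over S)}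
    (π : 𝒜 ⥤ᵇ FibCat.overCat U) (π' : 𝒜' ⥤ᵇ FibCat.overCat U) (Ψ : 𝒜 ⥤ᵇ 𝒜')
    (hΨ : FibCat.IsEquivOver Ψ) (θ : BasedFunctor.comp Ψ π' ≅ π) :
    RepOver P 𝒜 π ↔ RepOver P 𝒜' π' := by
  constructor
  · exact repOver_of_equiv P π π' Ψ hΨ θ.hom
  · intro h
    obtain ⟨Ψ', hΨ', ⟨η⟩, ⟨ε⟩⟩ := isEquivOver_inverse hΨ
    -- `Ψ' ⋙ π ≅ Ψ' ⋙ Ψ ⋙ π' ≅ π'`
    let θ' : BasedFunctor.comp Ψ' π ⟶ π' :=
      BasedCategory.whiskerLeft Ψ' θ.inv ≫ BasedCategory.whiskerRight ε.hom π'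
    exact repOver_of_equiv P π' π Ψ' hΨ' θ' h

end Groth.Agent.Helper2.AlgStLib
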