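import Mathlib
import Groth.Prelude.Def_AlgSt2
import Groth.Agent.Lib.Helper2.AlgSt.Basic
import Groth.Agent.Lib.Helper2.FibCat.FpInv

/-!
# Representability by algebraic spaces with a property: invariance under equivalences (helper2)
-/

set_option autoImplicit false
open CategoryTheory CategoryTheory.Functor CategoryTheory.Limits AlgebraicGeometry Opposite

universe w₄ v₄ w₃ v₃ w₂ v₂ w' v' w v u

namespace Groth.Agent.Helper2.AlgStLib

open Groth.Agent.Helper2 Groth.Agent.Helper2.FibCatLib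

variable {S : Scheme.{u}}

section Congr

variable {𝒲 : BasedCategory.{v, w} (Over S)} {𝒳 : BasedCategory.{v', w'} (Over S)}
  {𝒴 : BasedCategory.{v₂, w₂} (Over S)}

/-- 2-isomorphic functors on the left give equivalent 2-fibre products, compatibly with the first
projections. -/
theorem exists_equiv_fp_congr_fst (Gs Gs' : 𝒲 ⥤ᵇ 𝒴) (f : 𝒳 ⥤ᵇ 𝒴) (θ : Gs ≅ Gs') :
    ∃ Φ : FibCat.fp Gs f ⥤ᵇ FibCat.fp Gs' f, FibCat.IsEquivOver Φ ∧
      BasedFunctor.comp Φ (FibCat.fpFst Gs' f) = FibCat.fpFst Gs f := by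
  let eF : Gs.toFunctor ⋙ (BasedFunctor.id 𝒴).toFunctor ≅
      (BasedFunctor.id 𝒲).toFunctor ⋙ Gs'.toFunctor := (BasedNatTrans.forgetful _ _).mapIso θ
  let eG : f.toFunctor ⋙ (BasedFunctor.id 𝒴).toFunctor ≅
      (BasedFunctor.id 𝒳).toFunctor ⋙ f.toFunctor := Iso.refl _
  have heF : ∀ w, 𝒴.p.IsHomLift (𝟙 (𝒲.p.obj w)) (eF.hom.app w) := fun w =>
    BasedNatTrans.isHomLift θ.hom rfl
  have heG : ∀ x, 𝒴.p.IsHomLift (𝟙 (𝒳.p.obj x)) (eG.hom.app x) := fun x =>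
    FpInv.isHomLift_id' 𝒴 (f.obj x) (f.w_obj x)
  refine ⟨FpMap.fpMap Gs f Gs' f (BasedFunctor.id 𝒲) (BasedFunctor.id 𝒳) (BasedFunctor.id 𝒴)
    eF eG heF heG, ?_, rfl⟩
  have : (BasedFunctor.id 𝒴).toFunctor.Full := inferInstanceAs (𝟭 _).Full
  have : (BasedFunctor.id 𝒴).toFunctor.Faithful := inferInstanceAs (𝟭 _).Faithful
  exact FpMap.fpMap_isEquivOver Gs f Gs' f _ _ _ eF eG heF heG ReprInv.isEquivOver_id
    ReprInv.isEquivOver_id

variable {𝒳' : BasedCategory.{v₃, w₃} (Over S)} {𝒴' : BasedCategory.{v₄, w₄} (Over S)}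

/-- Invariance of the 2-fibre product under a 2-commutative square with equivalences, compatibly
with the first projections. -/
theorem exists_equiv_fp_square_fst (f : 𝒳 ⥤ᵇ 𝒴) (f' : 𝒳' ⥤ᵇ 𝒴') (a : 𝒳' ⥤ᵇ 𝒳) (b : 𝒴' ⥤ᵇ 𝒴)
    (ha : FibCat.IsEquivOver a) (hb : FibCat.IsEquivOver b)
    (e : BasedFunctor.comp f' b ≅ BasedFunctor.comp a f) (G' : 𝒲 ⥤ᵇ 𝒴') :
    ∃ Φ : FibCat.fp G' f' ⥤ᵇ FibCat.fp (BasedFunctor.comp G' b) f, FibCat.IsEquivOver Φ ∧
      BasedFunctor.comp Φ (FibCat.fpFst (BasedFunctor.comp G' b) f) = FibCat.fpFst G' f' := by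
  have := isEquivalence_of_isEquivOver hb
  let eF : G'.toFunctor ⋙ b.toFunctor ≅
      (BasedFunctor.id 𝒲).toFunctor ⋙ (BasedFunctor.comp G' b).toFunctor := Iso.refl _
  let eG : f'.toFunctor ⋙ b.toFunctor ≅ a.toFunctor ⋙ f.toFunctor :=
    (BasedNatTrans.forgetful _ _).mapIso e
  have heF : ∀ w, 𝒴.p.IsHomLift (𝟙 (𝒲.p.obj w)) (eF.hom.app w) := fun w =>
    FpInv.isHomLift_id' 𝒴 (b.obj (G'.obj w)) ((BasedFunctor.comp G' b).w_obj w)
  have heG : ∀ x, 𝒴.p.IsHomLift (𝟙 (𝒳'.p.obj x)) (eG.hom.app x) := fun x =>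
    BasedNatTrans.isHomLift e.hom rfl
  exact ⟨FpMap.fpMap G' f' (BasedFunctor.comp G' b) f (BasedFunctor.id 𝒲) a b eF eG heF heG,
    FpMap.fpMap_isEquivOver G' f' (BasedFunctor.comp G' b) f _ a b eF eG heF heG
      ReprInv.isEquivOver_id ha, rfl⟩

end Congr

section Main

variable {𝒳 : BasedCategory.{v, w} (Over S)} {𝒴 : BasedCategory.{v', w'} (Over S)}
  {𝒳' : BasedCategory.{v₂, w₂} (Over S)} {𝒴' : BasedCategory.{v₃, w₃} (Over S)}

theorem repByAlgSpWith_of_square (P : MorphismProperty (AlgSp.Sp S)) (f : 𝒳 ⥤ᵇ 𝒴)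
    (f' : 𝒳' ⥤ᵇ 𝒴') (a : 𝒳' ⥤ᵇ 𝒳) (b : 𝒴' ⥤ᵇ 𝒴) (ha : FibCat.IsEquivOver a)
    (hb : FibCat.IsEquivOver b) (e : BasedFunctor.comp f' b ≅ BasedFunctor.comp a f) :
    AlgSt.RepByAlgSpWith P f ↔ AlgSt.RepByAlgSpWith P f' := by
  constructor
  · intro hf U y'
    obtain ⟨Φ, hΦ, hΦfst⟩ := exists_equiv_fp_square_fst f f' a b ha hb e y'
    have h1 := hf U (BasedFunctor.comp y' b)
    exact (repOver_iff_of_equiv P (FibCat.fpFst y' f')
      (FibCat.fpFst (BasedFunctor.comp y' b) f) Φ hΦ (eqToIso hΦfst)).2 h1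
  · intro hf' U y
    obtain ⟨b', hb', ⟨η⟩, ⟨ε⟩⟩ := isEquivOver_inverse hb
    let y' := BasedFunctor.comp y b'
    obtain ⟨Φ, hΦ, hΦfst⟩ := exists_equiv_fp_square_fst f f' a b ha hb e y'
    have h1 := hf' U y'
    have h2 := (repOver_iff_of_equiv P (FibCat.fpFst y' f')
      (FibCat.fpFst (BasedFunctor.comp y' b) f) Φ hΦ (eqToIso hΦfst)).1 h1
    -- `y' ⋙ b = y ⋙ b' ⋙ b ≅ y`
    let θ : BasedFunctor.comp y' b ≅ y :=
      { hom := BasedCategory.whiskerLeft y ε.hom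
        inv := BasedCategory.whiskerLeft y ε.inv
        hom_inv_id := by
          apply BasedNatTrans.homCategory.ext
          ext A
          have := congrArg (fun ρ : BasedFunctor.comp b' b ⟶ BasedFunctor.comp b' b =>
            ρ.toNatTrans.app (y.obj A)) ε.hom_inv_id
          exact this
        inv_hom_id := by
          apply BasedNatTrans.homCategory.ext
          ext A
          have := congrArg (fun ρ : BasedFunctor.id 𝒴 ⟶ BasedFunctor.id 𝒴 =>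
            ρ.toNatTrans.app (y.obj A)) ε.inv_hom_id
          exact this }
    obtain ⟨Ψ, hΨ, hΨfst⟩ := exists_equiv_fp_congr_fst (BasedFunctor.comp y' b) y f θ
    exact (repOver_iff_of_equiv P (FibCat.fpFst (BasedFunctor.comp y' b) f)
      (FibCat.fpFst y f) Ψ hΨ (eqToIso hΨfst)).1 h2

end Main

end Groth.Agent.Helper2.AlgStLib
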