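import Mathlib
import Groth.Prelude.Def_AlgSt2
import Groth.Prelude.Def_AlgSpRep
import Groth.Agent.Lib.Helper2.AlgSt.Basic
import Groth.Agent.Lib.Helper2.AlgSt.Square
import Groth.Agent.Lib.Helper2.Stk.OfPshFun
import Groth.Agent.Lib.Helper2.Stk.OfPshFp

/-!
# Dictionary between presheaves and their categories over `(Sch/S)` (helper2)
-/

set_option autoImplicit false
open CategoryTheory CategoryTheory.Functor CategoryTheory.Limits AlgebraicGeometry Opposite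

universe w₄ v₄ w₃ v₃ w₂ v₂ w' v' w v u

namespace Groth.Agent.Helper2.AlgStLib

open Groth.Agent.Helper2 Groth.Agent.Helper2.FibCatLib Groth.Agent.Helper2.StkLib

variable {S : Scheme.{u}}

section OverCat

variable (U : Over S)

/-- `toOverCat` followed by `ofOverCat` is the identity. -/
def toOfIso : BasedFunctor.comp (AlgSt.toOverCat U) (AlgSt.ofOverCat U) ≅
    BasedFunctor.id (AlgSt.ofSch U) :=
  BasedNatIso.mkNatIso
    (NatIso.ofComponents (fun a => Iso.refl a)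
      (by
        intro a b m
        exact (Category.comp_id _).trans (Category.id_comp _).symm))
    (fun a => IsHomLift.id rfl)

/-- `ofOverCat` followed by `toOverCat` is the identity. -/
def ofToIso : BasedFunctor.comp (AlgSt.ofOverCat U) (AlgSt.toOverCat U) ≅
    BasedFunctor.id (FibCat.overCat U) :=
  BasedNatIso.mkNatIso
    (NatIso.ofComponents (fun a => Iso.refl a)
      (by
        intro a b m
        exact (Category.comp_id _).trans (Category.id_comp _).symm))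
    (fun a => IsHomLift.id rfl)

theorem toOverCat_isEquivOver : FibCat.IsEquivOver (AlgSt.toOverCat U) :=
  ⟨AlgSt.ofOverCat U, ⟨toOfIso U⟩, ⟨ofToIso U⟩⟩

theorem ofOverCat_isEquivOver : FibCat.IsEquivOver (AlgSt.ofOverCat U) :=
  ⟨AlgSt.toOverCat U, ⟨ofToIso U⟩, ⟨toOfIso U⟩⟩

end OverCat

section SpMap

variable {U : Over S}

theorem spMapOfOver_hom {F : AlgSp.Sp S} (Φ : AlgSt.ofSp F ⥤ᵇ FibCat.overCat U) :
    (AlgSt.spMapOfOver Φ).hom = mapOfFunctor (BasedFunctor.comp Φ (AlgSt.ofOverCat U)) := by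
  ext T x
  rfl

theorem spMapOfOver_comp {F F' : AlgSp.Sp S} (Ψ : AlgSt.ofSp F ⥤ᵇ AlgSt.ofSp F')
    (Φ : AlgSt.ofSp F' ⥤ᵇ FibCat.overCat U) :
    AlgSt.spMapOfOver (BasedFunctor.comp Ψ Φ) =
      (ObjectProperty.homMk (mapOfFunctor Ψ) : F ⟶ F') ≫ AlgSt.spMapOfOver Φ := by
  apply ObjectProperty.hom_ext
  change (AlgSt.spMapOfOver (BasedFunctor.comp Ψ Φ)).hom =
    mapOfFunctor Ψ ≫ (AlgSt.spMapOfOver Φ).hom
  rw [spMapOfOver_hom, spMapOfOver_hom]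
  exact mapOfFunctor_comp Ψ (BasedFunctor.comp Φ (AlgSt.ofOverCat U))

theorem spMapOfOver_ofPshMap_toOverCat {F : AlgSp.Sp S}
    (b : F ⟶ (AlgSp.yon S).obj U) :
    AlgSt.spMapOfOver (BasedFunctor.comp (AlgSt.ofSpMap b) (AlgSt.toOverCat U)) = b := by
  apply ObjectProperty.hom_ext
  rw [spMapOfOver_hom]
  have h : mapOfFunctor (BasedFunctor.comp (BasedFunctor.comp (AlgSt.ofSpMap b)
      (AlgSt.toOverCat U)) (AlgSt.ofOverCat U)) = mapOfFunctor (AlgSt.ofSpMap b) :=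
    mapOfFunctor_congr (BasedCategory.whiskerLeft (AlgSt.ofSpMap b) (toOfIso U).hom)
  rw [h]
  exact mapOfFunctor_ofPshMap b.hom

end SpMap

section RepOverIff

variable {U : Over S}

theorem isIso_homMk_of_isIso {F F' : AlgSp.Sp S} (c : F.obj ⟶ F'.obj) [IsIso c] :
    IsIso (ObjectProperty.homMk c : F ⟶ F') := by
  have : IsIso ((sheafToPresheaf (AlgSp.J S) (Type (u + 1))).map
      (ObjectProperty.homMk c : F ⟶ F')) := by
    change IsIso c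
    infer_instance
  exact isIso_of_fully_faithful (sheafToPresheaf (AlgSp.J S) (Type (u + 1))) _

/-- `Q` respects precomposition with isomorphisms between algebraic spaces. -/
def RespectsIsoSp (Q : MorphismProperty (AlgSp.Sp S)) : Prop :=
  ∀ ⦃X₁ X₂ Y : AlgSp.Sp S⦄, AlgSp.IsAlgSpace X₁ → AlgSp.IsAlgSpace X₂ → AlgSp.IsAlgSpace Y →
    ∀ (c : X₂ ⟶ X₁) [IsIso c] (a : X₁ ⟶ Y), Q a → Q (c ≫ a)

theorem respectsIsoSp_of_respectsIso (Q : MorphismProperty (AlgSp.Sp S)) [Q.RespectsIso] :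
    RespectsIsoSp Q := by
  intro X₁ X₂ Y _ _ _ c _ a ha
  exact (Q.cancel_left_of_respectsIso c a).2 ha

/-- For a property respecting isomorphisms of algebraic spaces, `RepOver` can be tested on any one
representing space. -/
theorem repOver_iff_of_rep' (Q : MorphismProperty (AlgSp.Sp S)) (hQ : RespectsIsoSp Q)
    {𝒜 : BasedCategory.{v, w} (Over S)} (π : 𝒜 ⥤ᵇ FibCat.overCat U) (F' : AlgSp.Space S)
    (e₂ : AlgSt.ofSp F'.obj ⥤ᵇ 𝒜) (he₂ : FibCat.IsEquivOver e₂) :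
    RepOver Q 𝒜 π ↔ Q (AlgSt.spMapOfOver (BasedFunctor.comp e₂ π)) := by
  constructor
  · rintro ⟨F₁, e₁, he₁, h⟩
    obtain ⟨e₂', he₂', ⟨η⟩, ⟨ε⟩⟩ := isEquivOver_inverse he₂
    let Ψ : AlgSt.ofSp F₁.obj ⥤ᵇ AlgSt.ofSp F'.obj := BasedFunctor.comp e₁ e₂'
    have hΨ : FibCat.IsEquivOver Ψ := ReprInv.isEquivOver_comp he₁ he₂'
    have hc : IsIso (mapOfFunctor Ψ) := isIso_mapOfFunctor_of_isEquivOver Ψ hΨ
    have hc' : IsIso (ObjectProperty.homMk (mapOfFunctor Ψ) : F₁.obj ⟶ F'.obj) :=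
      isIso_homMk_of_isIso _
    let α : BasedFunctor.comp e₁ π ⟶ BasedFunctor.comp Ψ (BasedFunctor.comp e₂ π) :=
      BasedCategory.whiskerLeft e₁ (BasedCategory.whiskerRight ε.inv π)
    have h1 : AlgSt.spMapOfOver (BasedFunctor.comp e₁ π) =
        AlgSt.spMapOfOver (BasedFunctor.comp Ψ (BasedFunctor.comp e₂ π)) := spMapOfOver_congr α
    rw [h1, spMapOfOver_comp] at h
    have h2 := hQ F₁.property F'.property (AlgSp.IsAlgSpace.yon_obj U)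
      (inv (ObjectProperty.homMk (mapOfFunctor Ψ) : F₁.obj ⟶ F'.obj)) _ h
    rwa [IsIso.inv_hom_id_assoc] at h2
  · intro h
    exact ⟨F', e₂, he₂, h⟩

theorem repOver_iff_of_rep (Q : MorphismProperty (AlgSp.Sp S)) [Q.RespectsIso]
    {𝒜 : BasedCategory.{v, w} (Over S)} (π : 𝒜 ⥤ᵇ FibCat.overCat U) (F' : AlgSp.Space S)
    (e₂ : AlgSt.ofSp F'.obj ⥤ᵇ 𝒜) (he₂ : FibCat.IsEquivOver e₂) :
    RepOver Q 𝒜 π ↔ Q (AlgSt.spMapOfOver (BasedFunctor.comp e₂ π)) :=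
  repOver_iff_of_rep' Q (respectsIsoSp_of_respectsIso Q) π F' e₂ he₂

end RepOverIff

section FpLeft

variable {𝒲' : BasedCategory.{v, w} (Over S)} {𝒲 : BasedCategory.{v', w'} (Over S)}
  {𝒳 : BasedCategory.{v₂, w₂} (Over S)} {𝒴 : BasedCategory.{v₃, w₃} (Over S)}

/-- Changing the left factor of a 2-fibre product along an equivalence. -/
theorem exists_equiv_fp_left (Gs' : 𝒲' ⥤ᵇ 𝒴) (Gs : 𝒲 ⥤ᵇ 𝒴) (f : 𝒳 ⥤ᵇ 𝒴) (α : 𝒲' ⥤ᵇ 𝒲)
    (hα : FibCat.IsEquivOver α) (θ : Gs' ≅ BasedFunctor.comp α Gs) :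
    ∃ Φ : FibCat.fp Gs' f ⥤ᵇ FibCat.fp Gs f, FibCat.IsEquivOver Φ ∧
      BasedFunctor.comp Φ (FibCat.fpFst Gs f) = BasedFunctor.comp (FibCat.fpFst Gs' f) α ∧
      BasedFunctor.comp Φ (FibCat.fpSnd Gs f) = FibCat.fpSnd Gs' f := by
  let eF : Gs'.toFunctor ⋙ (BasedFunctor.id 𝒴).toFunctor ≅ α.toFunctor ⋙ Gs.toFunctor :=
    (BasedNatTrans.forgetful _ _).mapIso θ
  let eG : f.toFunctor ⋙ (BasedFunctor.id 𝒴).toFunctor ≅
      (BasedFunctor.id 𝒳).toFunctor ⋙ f.toFunctor := Iso.refl _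
  have heF : ∀ w, 𝒴.p.IsHomLift (𝟙 (𝒲'.p.obj w)) (eF.hom.app w) := fun w =>
    BasedNatTrans.isHomLift θ.hom rfl
  have heG : ∀ x, 𝒴.p.IsHomLift (𝟙 (𝒳.p.obj x)) (eG.hom.app x) := fun x =>
    FpInv.isHomLift_id' 𝒴 (f.obj x) (f.w_obj x)
  refine ⟨FpMap.fpMap Gs' f Gs f α (BasedFunctor.id 𝒳) (BasedFunctor.id 𝒴) eF eG heF heG, ?_,
    rfl, rfl⟩
  have : (BasedFunctor.id 𝒴).toFunctor.Full := inferInstanceAs (𝟭 _).Full
  have : (BasedFunctor.id 𝒴).toFunctor.Faithful := inferInstanceAs (𝟭 _).Faithful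
  exact FpMap.fpMap_isEquivOver Gs' f Gs f _ _ _ eF eG heF heG hα ReprInv.isEquivOver_id

end FpLeft

section Main

variable {F G W : AlgSp.PSp S} {U : Over S}

/-- The category of a fibre product `h_U ×_G F` is the 2-fibre product `(Sch/U) ×_G F`. -/
theorem exists_equiv_ofPsh_fp (a : F ⟶ G) (y : FibCat.overCat U ⥤ᵇ Stk.ofPsh G)
    (ξ : ((AlgSp.yon S).obj U).obj ⟶ G)
    (θ : Stk.ofPshMap ξ ≅ BasedFunctor.comp (AlgSt.toOverCat U) y)
    {fst : W ⟶ ((AlgSp.yon S).obj U).obj} {snd : W ⟶ F} (sq : IsPullback fst snd ξ a) :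
    ∃ E : Stk.ofPsh W ⥤ᵇ FibCat.fp y (Stk.ofPshMap a), FibCat.IsEquivOver E ∧
      BasedFunctor.comp E (FibCat.fpFst y (Stk.ofPshMap a)) =
        BasedFunctor.comp (Stk.ofPshMap fst) (AlgSt.toOverCat U) := by
  obtain ⟨Φ, hΦ, hΦ1, -⟩ := exists_equiv_fp_left (Stk.ofPshMap ξ) y (Stk.ofPshMap a)
    (AlgSt.toOverCat U) (toOverCat_isEquivOver U) θ
  refine ⟨BasedFunctor.comp (fpCmp ξ a fst snd sq.w) Φ,
    ReprInv.isEquivOver_comp (fpCmp_isEquivOver sq) hΦ, ?_⟩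
  change BasedFunctor.comp (fpCmp ξ a fst snd sq.w)
    (BasedFunctor.comp Φ (FibCat.fpFst y (Stk.ofPshMap a))) = _
  rw [hΦ1]
  rfl

/-- The section of `G` over `U` attached to a functor `(Sch/U) ⟶ G`. -/
def secMap (y : FibCat.overCat U ⥤ᵇ Stk.ofPsh G) : ((AlgSp.yon S).obj U).obj ⟶ G :=
  mapOfFunctor (BasedFunctor.comp (AlgSt.toOverCat U) y)

theorem secMap_iso (y : FibCat.overCat U ⥤ᵇ Stk.ofPsh G) :
    Nonempty (Stk.ofPshMap (secMap y) ≅ BasedFunctor.comp (AlgSt.toOverCat U) y) :=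
  ofPshMap_mapOfFunctor_iso _

/-- The functor `(Sch/U) ⟶ G` attached to a section. -/
def ofSecMap (ξ : ((AlgSp.yon S).obj U).obj ⟶ G) : FibCat.overCat U ⥤ᵇ Stk.ofPsh G :=
  BasedFunctor.comp (AlgSt.ofOverCat U) (Stk.ofPshMap ξ)

/-- `toOverCat ⋙ ofSecMap ξ ≅ ofPshMap ξ`. -/
def ofSecMapIso (ξ : ((AlgSp.yon S).obj U).obj ⟶ G) :
    Stk.ofPshMap ξ ≅ BasedFunctor.comp (AlgSt.toOverCat U) (ofSecMap ξ) where
  hom := BasedCategory.whiskerRight (toOfIso U).inv (Stk.ofPshMap ξ)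
  inv := BasedCategory.whiskerRight (toOfIso U).hom (Stk.ofPshMap ξ)
  hom_inv_id := Subsingleton.elim _ _
  inv_hom_id := Subsingleton.elim _ _

theorem repBySp_iff_repByAlgSp1_ofPshMap (a : F ⟶ G) :
    AlgSp.RepBySp a ↔ AlgSt.RepByAlgSp1 (Stk.ofPshMap a) := by
  constructor
  · intro ha U y
    obtain ⟨θ⟩ := secMap_iso y
    have sq := IsPullback.of_hasPullback (secMap y) a
    obtain ⟨hW, hWalg⟩ := ha (secMap y) _ _ sq.flip
    obtain ⟨E, hE, -⟩ := exists_equiv_ofPsh_fp a y (secMap y) θ sq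
    exact ⟨⟨⟨_, hW⟩, hWalg⟩, E, hE⟩
  · intro h U ξ F' fst snd sq
    obtain ⟨F₁, e₁, he₁⟩ := h U (ofSecMap ξ)
    obtain ⟨E, hE, -⟩ := exists_equiv_ofPsh_fp a (ofSecMap ξ) ξ (ofSecMapIso ξ) sq.flip
    obtain ⟨E', hE', -, -⟩ := isEquivOver_inverse hE
    have hΨ : FibCat.IsEquivOver (BasedFunctor.comp e₁ E') := ReprInv.isEquivOver_comp he₁ hE'
    have hc := isIso_mapOfFunctor_of_isEquivOver _ hΨ
    exact ((AlgSp.isAlgSpaceP_obj_iff F₁.obj).2 F₁.property).of_iso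
      (asIso (mapOfFunctor (BasedFunctor.comp e₁ E')))

theorem repBySpWith_iff_repByAlgSpWith_ofPshMap' (Q : MorphismProperty (AlgSp.Sp S))
    (hQ' : RespectsIsoSp Q) (a : F ⟶ G) (ha : AlgSp.RepBySp a) :
    AlgSp.RepBySpWith Q a ↔ AlgSt.RepByAlgSpWith Q (Stk.ofPshMap a) := by
  constructor
  · intro hQ U y
    obtain ⟨θ⟩ := secMap_iso y
    have sq := IsPullback.of_hasPullback (secMap y) a
    obtain ⟨hW, hWalg, hq⟩ := hQ (secMap y) _ _ sq.flip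
    obtain ⟨E, hE, hE1⟩ := exists_equiv_ofPsh_fp a y (secMap y) θ sq
    refine ⟨⟨⟨_, hW⟩, hWalg⟩, E, hE, ?_⟩
    rw [hE1]
    have := spMapOfOver_ofPshMap_toOverCat (F := ⟨_, hW⟩) (U := U)
      (ObjectProperty.homMk (pullback.fst (secMap y) a))
    rw [← this] at hq
    exact hq
  · intro h U ξ F' fst snd sq
    obtain ⟨hW, hWalg⟩ := ha ξ fst snd sq
    refine ⟨hW, hWalg, ?_⟩
    obtain ⟨E, hE, hE1⟩ := exists_equiv_ofPsh_fp a (ofSecMap ξ) ξ (ofSecMapIso ξ) sq.flip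
    have h1 := (repOver_iff_of_rep' Q hQ' (FibCat.fpFst (ofSecMap ξ) (Stk.ofPshMap a))
      ⟨⟨F', hW⟩, hWalg⟩ E hE).1 (h U (ofSecMap ξ))
    rw [hE1] at h1
    have := spMapOfOver_ofPshMap_toOverCat (F := ⟨F', hW⟩) (U := U) (ObjectProperty.homMk snd)
    rw [← this]
    exact h1

theorem repBySpWith_iff_repByAlgSpWith_ofPshMap (Q : MorphismProperty (AlgSp.Sp S))
    [Q.RespectsIso] (a : F ⟶ G) (ha : AlgSp.RepBySp a) :
    AlgSp.RepBySpWith Q a ↔ AlgSt.RepByAlgSpWith Q (Stk.ofPshMap a) :=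
  repBySpWith_iff_repByAlgSpWith_ofPshMap' Q (respectsIsoSp_of_respectsIso Q) a ha

end Main

end Groth.Agent.Helper2.AlgStLib
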