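import Mathlib
import Groth.Prelude.Def_AlgSt2
import Groth.Agent.Lib.Helper2.AlgSt.Basic
import Groth.Agent.Lib.Helper2.Stk.Basic
import Groth.Agent.Lib.Helper2.Stk.OfPsh
import Groth.Agent.Lib.Helper2.Stk.LocAut
import Groth.Agent.Lib.Helper2.FibProd

/-!
# Categories representable by algebraic spaces are fibred in setoids; representable morphisms are
faithful (helper2)
-/

set_option autoImplicit false
open CategoryTheory CategoryTheory.Functor CategoryTheory.Limits AlgebraicGeometry Opposite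

universe w₂ v₂ w' v' w v u

namespace Groth.Agent.Helper2.AlgStLib

open Groth.Agent.Helper2 Groth.Agent.Helper2.FibCatLib Groth.Agent.Helper2.StkLib

/-- The category over `C` of a presheaf is fibred in setoids. -/
theorem isFibSetoid_ofPsh {C : Type u} [Category.{v} C] (P : Cᵒᵖ ⥤ Type w) :
    FibCat.IsFibSetoid (Stk.ofPsh P).p := by
  refine ⟨Stk.isFibGrpd_ofPsh P, fun U A B => ⟨fun m m' => ?_⟩⟩
  apply Subtype.ext
  exact PshSec.hom_eq_of_isHomLift_id m.1 m'.1 m.2 m'.2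

variable {S : Scheme.{u}}

theorem isFibSetoid_of_repByAlgSp {𝒳 : BasedCategory.{v, w} (Over S)} (hr : AlgSt.RepByAlgSp 𝒳) :
    FibCat.IsFibSetoid 𝒳.p := by
  obtain ⟨F, e, he⟩ := hr
  exact (isFibSetoid_iff_of_isEquivOver e he).1 (isFibSetoid_ofPsh F.obj.obj)

/-- A morphism representable by algebraic spaces between categories fibred in groupoids is
faithful. -/
theorem faithful_of_repByAlgSp1 {𝒳 : BasedCategory.{v, w} (Over S)}
    {𝒴 : BasedCategory.{v', w'} (Over S)} (h𝒳 : FibCat.IsFibGrpd 𝒳.p) (h𝒴 : FibCat.IsFibGrpd 𝒴.p)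
    (f : 𝒳 ⥤ᵇ 𝒴) (hf : AlgSt.RepByAlgSp1 f) : f.toFunctor.Faithful := by
  apply faithful_of_fiber h𝒳 h𝒴 f
  intro U a b m m' hm hm' hmm
  have ha : 𝒳.p.obj a = U := IsHomLift.domain_eq 𝒳.p (𝟙 U) m
  have hb : 𝒳.p.obj b = U := IsHomLift.codomain_eq 𝒳.p (𝟙 U) m
  have hfb : 𝒴.p.obj (f.obj b) = U := (f.w_obj b).trans hb
  obtain ⟨y, e, he⟩ := exists_functor_of_obj h𝒴 (f.obj b) hfb
  have hset : FibCat.IsFibSetoid (FibCat.fp y f).p := isFibSetoid_of_repByAlgSp (hf U y)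
  -- two objects of the fibre product
  have hm'i : IsIso m' := IsFibGrpd.isIso_of_isHomLift_id 𝒳.p h𝒳 (S := U) m'
  have hfm' : 𝒴.p.IsHomLift (𝟙 U) (f.map m') := BasedFunctor.preserves_isHomLift f _ _
  have hfm'i : IsIso (f.map m') := IsFibGrpd.isIso_of_isHomLift_id 𝒴.p h𝒴 (S := U) _
  let θa : y.obj (Over.mk (𝟙 U)) ≅ f.obj a := e ≪≫ (@asIso _ _ _ _ (f.map m') hfm'i).symm
  have hθa : 𝒴.p.IsHomLift (𝟙 U) θa.hom := by
    have h1 : 𝒴.p.IsHomLift (𝟙 U) (inv (f.map m')) := IsHomLift.lift_id_inv_isIso _ _ _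
    have h2 : 𝒴.p.IsHomLift (𝟙 U ≫ 𝟙 U) (e.hom ≫ inv (f.map m')) := inferInstance
    have h3 : 𝒴.p.IsHomLift (𝟙 U) (e.hom ≫ inv (f.map m')) := by simpa using h2
    exact h3
  let Za : (FibCat.fp y f).obj := fpMkObj y f (Over.mk (𝟙 U)) a θa hθa
  let Zb : (FibCat.fp y f).obj := fpMkObj y f (Over.mk (𝟙 U)) b e he
  let E₁ : Za ⟶ Zb := fpMkHom y f (𝟙 _) m (by
    change y.map (𝟙 _) ≫ e.hom = (e.hom ≫ inv (f.map m')) ≫ f.map m
    rw [CategoryTheory.Functor.map_id, Category.id_comp, hmm, Category.assoc, IsIso.inv_hom_id,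
      Category.comp_id])
  let E₂ : Za ⟶ Zb := fpMkHom y f (𝟙 _) m' (by
    change y.map (𝟙 _) ≫ e.hom = (e.hom ≫ inv (f.map m')) ≫ f.map m'
    rw [CategoryTheory.Functor.map_id, Category.id_comp, Category.assoc, IsIso.inv_hom_id,
      Category.comp_id])
  have hE1 : (FibCat.fp y f).p.IsHomLift (𝟙 U) E₁ := by
    apply fp_isHomLift_of_fst y f (𝟙 U) E₁
    change (FibCat.overCat U).p.IsHomLift (𝟙 U) (𝟙 (Over.mk (𝟙 U)))
    exact IsHomLift.id rfl
  have hE2 : (FibCat.fp y f).p.IsHomLift (𝟙 U) E₂ := by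
    apply fp_isHomLift_of_fst y f (𝟙 U) E₂
    change (FibCat.overCat U).p.IsHomLift (𝟙 U) (𝟙 (Over.mk (𝟙 U)))
    exact IsHomLift.id rfl
  have hE : E₁ = E₂ := eq_of_isThin_fiber (FibCat.fp y f).p (hset.2 U) _ _
  exact congrArg (fun k : Za ⟶ Zb => k.hom.snd) hE

end Groth.Agent.Helper2.AlgStLib
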