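import Mathlib
import Groth.Prelude.Def_AlgSt2
import Groth.Agent.Lib.Helper2.AlgSt.Basic
import Groth.Agent.Lib.Helper2.AlgSt.Square
import Groth.Agent.Lib.Helper2.Stk.Basic
import Groth.Agent.Lib.Helper2.Stk.LocAut

/-!
# Algebraic stacks: invariance under equivalences over the base (helper2)
-/

set_option autoImplicit false
open CategoryTheory CategoryTheory.Functor CategoryTheory.Limits AlgebraicGeometry Opposite

universe w₄ v₄ w₃ v₃ w₂ v₂ w' v' w v u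

namespace Groth.Agent.Helper2.AlgStLib

open Groth.Agent.Helper2 Groth.Agent.Helper2.FibCatLib Groth.Agent.Helper2.StkLib

section Prod

variable {C : Type u} [Category.{v} C]
variable {𝒳₁ : BasedCategory.{v₂, w₂} C} {𝒳₂ : BasedCategory.{v₃, w₃} C}
  {𝒴₁ : BasedCategory.{v₄, w₄} C} {𝒴₂ : BasedCategory.{v', w'} C}

/-- The structure isomorphism `𝒳.p ≅ e ⋙ 𝒴.p` of a functor over the base. -/
def wIso (e : 𝒳₁ ⥤ᵇ 𝒴₁) :
    (FibCat.toSelf 𝒳₁).toFunctor ⋙ (BasedFunctor.id (FibCat.selfOver C)).toFunctor ≅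
      e.toFunctor ⋙ (FibCat.toSelf 𝒴₁).toFunctor :=
  eqToIso (by
    change 𝒳₁.p ⋙ 𝟭 C = e.toFunctor ⋙ 𝒴₁.p
    rw [e.w]
    rfl)

theorem wIso_hom_app (e : 𝒳₁ ⥤ᵇ 𝒴₁) (x : 𝒳₁.obj) :
    (wIso e).hom.app x = eqToHom (e.w_obj x).symm := by
  unfold wIso
  rw [eqToIso.hom, eqToHom_app]
  rfl

theorem wIso_isHomLift (e : 𝒳₁ ⥤ᵇ 𝒴₁) (x : 𝒳₁.obj) :
    (FibCat.selfOver C).p.IsHomLift (𝟙 (𝒳₁.p.obj x)) ((wIso e).hom.app x) := by
  rw [wIso_hom_app]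
  have h : (𝟭 C).IsHomLift (𝟙 (𝒳₁.p.obj x)) (eqToHom (e.w_obj x).symm) :=
    IsHomLift.eqToHom_codomain_lift_id (p := 𝟭 C) (a := 𝒳₁.p.obj x)
      (b := 𝒴₁.p.obj (e.obj x)) (e.w_obj x).symm (e.w_obj x)
  exact h

/-- The functor induced on products over the base. -/
def prodMap (e₁ : 𝒳₁ ⥤ᵇ 𝒴₁) (e₂ : 𝒳₂ ⥤ᵇ 𝒴₂) :
    FibCat.fp (FibCat.toSelf 𝒳₁) (FibCat.toSelf 𝒳₂) ⥤ᵇ
      FibCat.fp (FibCat.toSelf 𝒴₁) (FibCat.toSelf 𝒴₂) :=
  FpMap.fpMap (FibCat.toSelf 𝒳₁) (FibCat.toSelf 𝒳₂) (FibCat.toSelf 𝒴₁) (FibCat.toSelf 𝒴₂) e₁ e₂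
    (BasedFunctor.id (FibCat.selfOver C)) (wIso e₁) (wIso e₂) (wIso_isHomLift e₁)
    (wIso_isHomLift e₂)

theorem prodMap_isEquivOver (e₁ : 𝒳₁ ⥤ᵇ 𝒴₁) (e₂ : 𝒳₂ ⥤ᵇ 𝒴₂) (h₁ : FibCat.IsEquivOver e₁)
    (h₂ : FibCat.IsEquivOver e₂) : FibCat.IsEquivOver (prodMap e₁ e₂) := by
  have : (BasedFunctor.id (FibCat.selfOver C)).toFunctor.Full := inferInstanceAs (𝟭 _).Full
  have : (BasedFunctor.id (FibCat.selfOver C)).toFunctor.Faithful :=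
    inferInstanceAs (𝟭 _).Faithful
  exact FpMap.fpMap_isEquivOver _ _ _ _ e₁ e₂ _ (wIso e₁) (wIso e₂) (wIso_isHomLift e₁)
    (wIso_isHomLift e₂) h₁ h₂

/-- The diagonal commutes with the functor induced on products. -/
def diagSquareIso (e : 𝒳₁ ⥤ᵇ 𝒴₁) :
    BasedFunctor.comp (FibCat.diag (FibCat.toSelf 𝒳₁)) (prodMap e e) ≅
      BasedFunctor.comp e (FibCat.diag (FibCat.toSelf 𝒴₁)) :=
  BasedNatIso.mkNatIso
    (NatIso.ofComponents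
      (fun x => ObjectProperty.isoMk _ (CategoricalPullback.mkIso (Iso.refl _) (Iso.refl _) (by
        change (𝒴₁.p.map (𝟙 (e.obj x))) ≫ 𝟙 _ =
          ((wIso e).inv.app x ≫ 𝟙 _ ≫ (wIso e).hom.app x) ≫ 𝒴₁.p.map (𝟙 (e.obj x))
        simp)))
      (by
        intro x x' φ
        apply ObjectProperty.hom_ext
        apply CategoricalPullback.hom_ext
        · exact (Category.comp_id _).trans (Category.id_comp _).symm
        · exact (Category.comp_id _).trans (Category.id_comp _).symm))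
    (by
      intro x
      apply fp_isHomLift_of_fst
      have h : 𝒴₁.p.IsHomLift (𝟙 (𝒳₁.p.obj x)) (𝟙 (e.obj x)) := IsHomLift.id (e.w_obj x)
      exact h)

end Prod

variable {S : Scheme.{u}}

theorem repByAlgSp1_iff_top {𝒳 : BasedCategory.{v, w} (Over S)}
    {𝒴 : BasedCategory.{v', w'} (Over S)} (f : 𝒳 ⥤ᵇ 𝒴) :
    AlgSt.RepByAlgSp1 f ↔ AlgSt.RepByAlgSpWith ⊤ f := by
  constructor
  · intro h U y
    obtain ⟨F, e, he⟩ := h U y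
    exact ⟨F, e, he, trivial⟩
  · intro h U y
    obtain ⟨F, e, he, -⟩ := h U y
    exact ⟨F, e, he⟩

section Inv

variable {𝒳 : BasedCategory.{v, w} (Over S)} {𝒴 : BasedCategory.{v', w'} (Over S)}

theorem repByAlgSpWith_comp_equiv (P : MorphismProperty (AlgSp.Sp S))
    {𝒲 : BasedCategory.{v₂, w₂} (Over S)} (x : 𝒲 ⥤ᵇ 𝒳) (e : 𝒳 ⥤ᵇ 𝒴) (he : FibCat.IsEquivOver e) :
    AlgSt.RepByAlgSpWith P (BasedFunctor.comp x e) ↔ AlgSt.RepByAlgSpWith P x :=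
  repByAlgSpWith_of_square P (BasedFunctor.comp x e) x (BasedFunctor.id 𝒲) e
    ReprInv.isEquivOver_id he (Iso.refl _)

theorem hasAtlas_of_isEquivOver (P : MorphismProperty (AlgSp.Sp S)) (e : 𝒳 ⥤ᵇ 𝒴)
    (he : FibCat.IsEquivOver e) (h : AlgSt.HasAtlas P 𝒳) : AlgSt.HasAtlas P 𝒴 := by
  obtain ⟨U, x, h1, h2⟩ := h
  exact ⟨U, BasedFunctor.comp x e, (repByAlgSpWith_comp_equiv P x e he).2 h1,
    (repByAlgSpWith_comp_equiv _ x e he).2 h2⟩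

theorem repByAlgSp1_diag_of_isEquivOver (e : 𝒳 ⥤ᵇ 𝒴) (he : FibCat.IsEquivOver e)
    (h : AlgSt.RepByAlgSp1 (FibCat.diag (FibCat.toSelf 𝒳))) :
    AlgSt.RepByAlgSp1 (FibCat.diag (FibCat.toSelf 𝒴)) := by
  rw [repByAlgSp1_iff_top] at h ⊢
  exact (repByAlgSpWith_of_square ⊤ (FibCat.diag (FibCat.toSelf 𝒴))
    (FibCat.diag (FibCat.toSelf 𝒳)) e (prodMap e e) he (prodMap_isEquivOver e e he he)
    (diagSquareIso e)).2 h

theorem isAlgStack_of_isEquivOver (K : Precoverage Scheme.{u}) (e : 𝒳 ⥤ᵇ 𝒴)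
    (he : FibCat.IsEquivOver e) (h : AlgSt.IsAlgStack K 𝒳) : AlgSt.IsAlgStack K 𝒴 where
  isStack := (isStack_iff_of_isEquivOver _ e he).1 h.isStack
  diag := repByAlgSp1_diag_of_isEquivOver e he h.diag
  atlas := hasAtlas_of_isEquivOver _ e he h.atlas

theorem isAlgStack_iff_of_isEquivOver (K : Precoverage Scheme.{u}) (e : 𝒳 ⥤ᵇ 𝒴)
    (he : FibCat.IsEquivOver e) : AlgSt.IsAlgStack K 𝒳 ↔ AlgSt.IsAlgStack K 𝒴 := by
  constructor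
  · exact isAlgStack_of_isEquivOver K e he
  · obtain ⟨e', he', -, -⟩ := isEquivOver_inverse he
    exact isAlgStack_of_isEquivOver K e' he'

theorem isDM_iff_of_isEquivOver (K : Precoverage Scheme.{u}) (e : 𝒳 ⥤ᵇ 𝒴)
    (he : FibCat.IsEquivOver e) : AlgSt.IsDM K 𝒳 ↔ AlgSt.IsDM K 𝒴 := by
  obtain ⟨e', he', -, -⟩ := isEquivOver_inverse he
  constructor
  · rintro ⟨h1, h2⟩
    exact ⟨isAlgStack_of_isEquivOver K e he h1, hasAtlas_of_isEquivOver _ e he h2⟩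
  · rintro ⟨h1, h2⟩
    exact ⟨isAlgStack_of_isEquivOver K e' he' h1, hasAtlas_of_isEquivOver _ e' he' h2⟩

end Inv

end Groth.Agent.Helper2.AlgStLib
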