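import Mathlib
import Groth.Prelude.Def_AlgSt2
import Groth.Prelude.Def_AlgSpRep
import Groth.Agent.Lib.Helper2.AlgSt.Dict
import Groth.Agent.Lib.Helper2.AlgSt.Equiv
import Groth.Agent.Lib.Helper2.AlgSp.BootPsh2

/-!
# Morphisms between categories representable by algebraic spaces (helper2)
-/

set_option autoImplicit false
open CategoryTheory CategoryTheory.Functor CategoryTheory.Limits AlgebraicGeometry Opposite

universe w₄ v₄ w₃ v₃ w₂ v₂ w' v' w v u

namespace Groth.Agent.Helper2.AlgStLib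

open Groth.Agent.Helper2 Groth.Agent.Helper2.FibCatLib Groth.Agent.Helper2.StkLib
open Groth.Agent.Helper2.AlgSpBasic

variable {S : Scheme.{u}}

section Congr

variable {𝒳 : BasedCategory.{v, w} (Over S)} {𝒴 : BasedCategory.{v', w'} (Over S)}

/-- 2-isomorphic functors are simultaneously representable by algebraic spaces with `P`. -/
theorem repByAlgSpWith_congr (P : MorphismProperty (AlgSp.Sp S)) {f f' : 𝒳 ⥤ᵇ 𝒴} (e : f' ≅ f) :
    AlgSt.RepByAlgSpWith P f ↔ AlgSt.RepByAlgSpWith P f' := by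
  have e' : BasedFunctor.comp f' (BasedFunctor.id 𝒴) ≅ BasedFunctor.comp (BasedFunctor.id 𝒳) f :=
    e
  exact repByAlgSpWith_of_square P f f' (BasedFunctor.id 𝒳) (BasedFunctor.id 𝒴)
    ReprInv.isEquivOver_id ReprInv.isEquivOver_id e'

theorem repByAlgSp1_congr {f f' : 𝒳 ⥤ᵇ 𝒴} (e : f' ≅ f) :
    AlgSt.RepByAlgSp1 f ↔ AlgSt.RepByAlgSp1 f' := by
  rw [repByAlgSp1_iff_top, repByAlgSp1_iff_top]
  exact repByAlgSpWith_congr ⊤ e

end Congr

section Both

variable {𝒳 : BasedCategory.{v, w} (Over S)} {𝒴 : BasedCategory.{v', w'} (Over S)}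

/-- Transport of a functor between categories representable by sheaves to a map of sheaves. -/
theorem exists_map_of_equiv {FX FY : AlgSp.Sp S} (eX : AlgSt.ofSp FX ⥤ᵇ 𝒳)
    (eY : AlgSt.ofSp FY ⥤ᵇ 𝒴) (heY : FibCat.IsEquivOver eY) (f : 𝒳 ⥤ᵇ 𝒴) :
    ∃ a : FX ⟶ FY, Nonempty (BasedFunctor.comp (AlgSt.ofSpMap a) eY ≅ BasedFunctor.comp eX f) := by
  obtain ⟨eY', heY', ⟨η⟩, ⟨ε⟩⟩ := isEquivOver_inverse heY
  let f' : AlgSt.ofSp FX ⥤ᵇ AlgSt.ofSp FY := BasedFunctor.comp (BasedFunctor.comp eX f) eY'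
  obtain ⟨θ⟩ := ofPshMap_mapOfFunctor_iso f'
  refine ⟨ObjectProperty.homMk (mapOfFunctor f'), ⟨?_⟩⟩
  -- `ofPshMap a ⋙ eY ≅ f' ⋙ eY = eX ⋙ f ⋙ eY' ⋙ eY ≅ eX ⋙ f`
  let i1 : BasedFunctor.comp (Stk.ofPshMap (mapOfFunctor f')) eY ≅ BasedFunctor.comp f' eY :=
    { hom := BasedCategory.whiskerRight θ.hom eY
      inv := BasedCategory.whiskerRight θ.inv eY
      hom_inv_id := by
        apply BasedNatTrans.homCategory.ext
        ext A
        have := congrArg (fun ρ : Stk.ofPshMap (mapOfFunctor f') ⟶ Stk.ofPshMap (mapOfFunctor f') =>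
          eY.map (ρ.toNatTrans.app A)) θ.hom_inv_id
        change eY.map (θ.hom.toNatTrans.app A ≫ θ.inv.toNatTrans.app A) = eY.map (𝟙 _) at this
        rw [eY.toFunctor.map_comp, eY.toFunctor.map_id] at this
        exact this
      inv_hom_id := by
        apply BasedNatTrans.homCategory.ext
        ext A
        have := congrArg (fun ρ : f' ⟶ f' => eY.map (ρ.toNatTrans.app A)) θ.inv_hom_id
        change eY.map (θ.inv.toNatTrans.app A ≫ θ.hom.toNatTrans.app A) = eY.map (𝟙 _) at this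
        rw [eY.toFunctor.map_comp, eY.toFunctor.map_id] at this
        exact this }
  let i2 : BasedFunctor.comp f' eY ≅ BasedFunctor.comp eX f :=
    { hom := BasedCategory.whiskerLeft (BasedFunctor.comp eX f) ε.hom
      inv := BasedCategory.whiskerLeft (BasedFunctor.comp eX f) ε.inv
      hom_inv_id := by
        apply BasedNatTrans.homCategory.ext
        ext A
        have := congrArg (fun ρ : BasedFunctor.comp eY' eY ⟶ BasedFunctor.comp eY' eY =>
          ρ.toNatTrans.app ((BasedFunctor.comp eX f).obj A)) ε.hom_inv_id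
        exact this
      inv_hom_id := by
        apply BasedNatTrans.homCategory.ext
        ext A
        have := congrArg (fun ρ : BasedFunctor.id 𝒴 ⟶ BasedFunctor.id 𝒴 =>
          ρ.toNatTrans.app ((BasedFunctor.comp eX f).obj A)) ε.inv_hom_id
        exact this }
  exact i1 ≪≫ i2

theorem repByAlgSp1_ofSpMap_of_isAlgSpace {FX FY : AlgSp.Sp S} (hX : AlgSp.IsAlgSpace FX)
    (hY : AlgSp.Representable (Limits.diag FY)) (a : FX ⟶ FY) :
    AlgSt.RepByAlgSp1 (AlgSt.ofSpMap a) :=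
  (repBySp_iff_repByAlgSp1_ofPshMap a.hom).1
    ((repBySh_iff a).1 (repBySh_of_isAlgSpace a hX hY))

theorem repByAlgSp1_of_repByAlgSp (hX : AlgSt.RepByAlgSp 𝒳) (hY : AlgSt.RepByAlgSp 𝒴)
    (f : 𝒳 ⥤ᵇ 𝒴) : AlgSt.RepByAlgSp1 f := by
  obtain ⟨FX, eX, heX⟩ := hX
  obtain ⟨FY, eY, heY⟩ := hY
  obtain ⟨a, ⟨e⟩⟩ := exists_map_of_equiv eX eY heY f
  have h1 : AlgSt.RepByAlgSp1 (AlgSt.ofSpMap a) :=
    repByAlgSp1_ofSpMap_of_isAlgSpace FX.property FY.property.diag a
  rw [repByAlgSp1_iff_top] at h1 ⊢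
  exact (repByAlgSpWith_of_square ⊤ f (AlgSt.ofSpMap a) eX eY heX heY e).2 h1

end Both

end Groth.Agent.Helper2.AlgStLib
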