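import Mathlib
import Groth.Prelude.Def_AlgSt2
import Groth.Prelude.Def_AlgSpRep
import Groth.Agent.Lib.Helper2.AlgSt.Rep
import Groth.Agent.Lib.Helper2.Stk.OfPshProd
import Groth.Agent.Lib.Helper2.Stk.OfPshSheaf
import Groth.Agent.Lib.Helper2.AlgSp.Mor
import Groth.Agent.Lib.Helper2.AlgSp.Mor2
import Groth.Agent.Lib.Helper2.AlgSp.LocP
import Groth.Agent.Lib.Helper2.EtaleLocalSmooth

/-!
# Categories representable by algebraic spaces are Deligne-Mumford stacks (helper2)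
-/

set_option autoImplicit false
open CategoryTheory CategoryTheory.Functor CategoryTheory.Limits AlgebraicGeometry Opposite

universe w₄ v₄ w₃ v₃ w₂ v₂ w' v' w v u

namespace Groth.Agent.Helper2.AlgStLib

open Groth.Agent.Helper2 Groth.Agent.Helper2.FibCatLib Groth.Agent.Helper2.StkLib
open Groth.Agent.Helper2.AlgSpBasic Groth.Agent.Helper2.EtaleLocal

variable {S : Scheme.{u}}

/-- The category of a sheaf is a stack. -/
theorem isStack_ofSp (F : AlgSp.Sp S) :
    Stk.IsStack (QuotSh.J Scheme.fppfPrecoverage S) (AlgSt.ofSp F) := by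
  refine ⟨Stk.isFibGrpd_ofPsh F.obj, fun U R hR => ?_⟩
  rw [isStackFor_ofPsh_iff]
  have h := (isSheaf_iff_isSheaf_of_type _ _).1 F.property
  exact h R hR

theorem repByAlgSp_ofSp (F : AlgSp.Space S) : AlgSt.RepByAlgSp (AlgSt.ofSp F.obj) :=
  ⟨F, BasedFunctor.id _, ReprInv.isEquivOver_id⟩

/-- The product over the base of the categories of two algebraic spaces is representable by an
algebraic space. -/
theorem repByAlgSp_prod_ofSp (F G : AlgSp.Space S) :
    AlgSt.RepByAlgSp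
      (FibCat.fp (FibCat.toSelf (AlgSt.ofSp F.obj)) (FibCat.toSelf (AlgSt.ofSp G.obj))) := by
  let W : AlgSp.Sp S := F.obj ⨯ G.obj
  have hW : AlgSp.IsAlgSpace W := isAlgSpace_prod F.property G.property
  have hlim : IsLimit (BinaryFan.mk (prod.fst : W ⟶ F.obj).hom (prod.snd : W ⟶ G.obj).hom) :=
    (isLimitMapConeBinaryFanEquiv (sheafToPresheaf (AlgSp.J S) (Type (u + 1)))
      (prod.fst : W ⟶ F.obj) (prod.snd : W ⟶ G.obj))
      (isLimitOfPreserves _ (prodIsProd F.obj G.obj))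
  exact ⟨⟨W, hW⟩, prodCmp _ _, prodCmp_isEquivOver (isProdSec_of_isLimit hlim)⟩

theorem repByAlgSp1_diag_ofSp (F : AlgSp.Space S) :
    AlgSt.RepByAlgSp1 (FibCat.diag (FibCat.toSelf (AlgSt.ofSp F.obj))) :=
  repByAlgSp1_of_repByAlgSp (repByAlgSp_ofSp F) (repByAlgSp_prod_ofSp F F) _

section Atlas

variable {F : AlgSp.Sp S} {U : Over S}

/-- A representable map from a scheme whose base changes have `Q` is representable by algebraic
spaces with `Q` as a functor. -/
theorem repByAlgSpWith_ofSpMap_of_representable (p : (AlgSp.yon S).obj U ⟶ F)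
    (hp : AlgSp.Representable p) (Q : MorphismProperty (AlgSp.Sp S))
    (hQ : ∀ ⦃T V : Over S⦄ (g : V ⟶ T) (ξ : (AlgSp.yon S).obj T ⟶ F)
      (fst : (AlgSp.yon S).obj V ⟶ (AlgSp.yon S).obj U),
      IsPullback fst ((AlgSp.yon S).map g) p ξ → Q ((AlgSp.yon S).map g)) :
    AlgSt.RepByAlgSpWith Q (AlgSt.ofSpMap p) := by
  intro T y
  obtain ⟨θ⟩ := secMap_iso y
  let ξ₀ : (AlgSp.yon S).obj T ⟶ F := ObjectProperty.homMk (secMap y)
  obtain ⟨V, g, fst, sq⟩ := hp ξ₀
  have sq' : IsPullback ((AlgSp.yon S).map g).hom fst.hom (secMap y) p.hom :=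
    (sq.map (sheafToPresheaf (AlgSp.J S) (Type (u + 1)))).flip
  obtain ⟨E, hE, hE1⟩ := exists_equiv_ofPsh_fp p.hom y (secMap y) θ sq'
  refine ⟨⟨(AlgSp.yon S).obj V, AlgSp.IsAlgSpace.yon_obj V⟩, E, hE, ?_⟩
  rw [hE1]
  have := spMapOfOver_ofPshMap_toOverCat (F := (AlgSp.yon S).obj V) (U := T)
    ((AlgSp.yon S).map g)
  rw [this]
  exact hQ g ξ₀ fst sq

theorem repByAlgSpWith_ofSecMap_of_representable (p : (AlgSp.yon S).obj U ⟶ F)
    (hp : AlgSp.Representable p) (Q : MorphismProperty (AlgSp.Sp S))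
    (hQ : ∀ ⦃T V : Over S⦄ (g : V ⟶ T) (ξ : (AlgSp.yon S).obj T ⟶ F)
      (fst : (AlgSp.yon S).obj V ⟶ (AlgSp.yon S).obj U),
      IsPullback fst ((AlgSp.yon S).map g) p ξ → Q ((AlgSp.yon S).map g)) :
    AlgSt.RepByAlgSpWith Q (ofSecMap p.hom) := by
  have h1 := repByAlgSpWith_ofSpMap_of_representable p hp Q hQ
  have e : BasedFunctor.comp (AlgSt.ofSpMap p) (BasedFunctor.id (AlgSt.ofSp F)) ≅
      BasedFunctor.comp (AlgSt.toOverCat U) (ofSecMap p.hom) := ofSecMapIso p.hom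
  exact (repByAlgSpWith_of_square Q (ofSecMap p.hom) (AlgSt.ofSpMap p) (AlgSt.toOverCat U)
    (BasedFunctor.id (AlgSt.ofSp F)) (toOverCat_isEquivOver U) ReprInv.isEquivOver_id e).2 h1

/-- An algebraic space has an étale (in particular smooth) surjective atlas, as a category. -/
theorem hasAtlas_ofSp (F : AlgSp.Space S) :
    AlgSt.HasAtlas AlgSp.IsEtaleMor (AlgSt.ofSp F.obj) ∧
      AlgSt.HasAtlas (AlgSp.LocP @Smooth) (AlgSt.ofSp F.obj) := by
  obtain ⟨U, p, hpe, hps⟩ := F.property.atlas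
  have hsurj : AlgSt.RepByAlgSpWith AlgSp.IsSurjectiveMor (ofSecMap p.hom) := by
    apply repByAlgSpWith_ofSecMap_of_representable p hpe.rep
    intro T V g ξ fst sq
    rw [surjectiveMor_yon_map_iff]
    exact (hps.property ξ fst g sq).surj
  constructor
  · refine ⟨U, ofSecMap p.hom, ?_, hsurj⟩
    apply repByAlgSpWith_ofSecMap_of_representable p hpe.rep
    intro T V g ξ fst sq
    rw [AlgSp.isEtaleMor_yon_map_iff]
    exact hpe.property ξ fst g sq
  · refine ⟨U, ofSecMap p.hom, ?_, hsurj⟩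
    apply repByAlgSpWith_ofSecMap_of_representable p hpe.rep
    intro T V g ξ fst sq
    have he : Etale g.left := hpe.property ξ fst g sq
    have hs : Smooth g.left := inferInstance
    exact locP_of_repWith @Smooth (AlgSp.IsAlgSpace.yon_obj V).diag _
      ((AlgSp.repWith_yon_map_iff @Smooth g).2 hs)

end Atlas

theorem isDM_ofSp (F : AlgSp.Space S) :
    AlgSt.IsDM Scheme.fppfPrecoverage (AlgSt.ofSp F.obj) :=
  ⟨{ isStack := isStack_ofSp F.obj
     diag := repByAlgSp1_diag_ofSp F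
     atlas := (hasAtlas_ofSp F).2 }, (hasAtlas_ofSp F).1⟩

theorem isDM_of_repByAlgSp {𝒳 : BasedCategory.{v, w} (Over S)} (hr : AlgSt.RepByAlgSp 𝒳) :
    AlgSt.IsDM Scheme.fppfPrecoverage 𝒳 := by
  obtain ⟨F, e, he⟩ := hr
  exact (isDM_iff_of_isEquivOver Scheme.fppfPrecoverage e he).1 (isDM_ofSp F)

end Groth.Agent.Helper2.AlgStLib
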