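import Mathlib
import Groth.Prelude.Def_AlgSt2
import Groth.Prelude.Def_AlgSpRep
import Groth.Prelude.Def_AlgSpCov
import Groth.Agent.Lib.Helper2.AlgSt.Space
import Groth.Agent.Lib.Helper2.AlgSt.Setoid
import Groth.Agent.Lib.Helper2.Stk.FibSetPsh
import Groth.Agent.Lib.Helper2.FibProd
import Groth.Agent.Lib.Helper2.AlgSp.PointsMor
import Groth.Agent.Lib.Helper2.FibCat.FpSwap
import Groth.Agent.Lib.Helper2.FibCat.Yoneda

/-!
# Base change of morphisms representable by algebraic spaces to algebraic spaces (helper2)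
-/

set_option autoImplicit false
open CategoryTheory CategoryTheory.Functor CategoryTheory.Limits AlgebraicGeometry Opposite

universe w₄ v₄ w₃ v₃ w₂ v₂ w' v' w v u

namespace Groth.Agent.Helper2.AlgStLib

open Groth.Agent.Helper2 Groth.Agent.Helper2.FibCatLib Groth.Agent.Helper2.StkLib
open Groth.Agent.Helper2.AlgSpBasic Groth.Agent.Helper2.EtaleLocal

variable {S : Scheme.{u}}

section BaseChange

variable {𝒳 : BasedCategory.{v, w} (Over S)} {𝒴 : BasedCategory.{v', w'} (Over S)}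
  {𝒵 : BasedCategory.{v₂, w₂} (Over S)}

/-- Base change of a morphism representable by algebraic spaces with `P`. -/
theorem repByAlgSpWith_fpFst (P : MorphismProperty (AlgSp.Sp S)) (f : 𝒳 ⥤ᵇ 𝒴) (g : 𝒵 ⥤ᵇ 𝒴)
    (hf : AlgSt.RepByAlgSpWith P f) : AlgSt.RepByAlgSpWith P (FibCat.fpFst g f) := by
  intro U y
  have h1 := hf U (BasedFunctor.comp y g)
  exact (repOver_iff_of_equiv P (FibCat.fpFst y (FibCat.fpFst g f))
    (FibCat.fpFst (BasedFunctor.comp y g) f) (Paste.pasteB y g f)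
    (Paste.pasteB_isEquivOver y g f) (Iso.refl _)).2 h1

theorem repByAlgSp1_fpFst (f : 𝒳 ⥤ᵇ 𝒴) (g : 𝒵 ⥤ᵇ 𝒴) (hf : AlgSt.RepByAlgSp1 f) :
    AlgSt.RepByAlgSp1 (FibCat.fpFst g f) := by
  rw [repByAlgSp1_iff_top] at hf ⊢
  exact repByAlgSpWith_fpFst ⊤ f g hf

end BaseChange

section K

variable {𝒳 𝒴 : BasedCategory.{u, u + 1} (Over S)}

/-- Data produced by base change of `f` along a functor from the category of an algebraic
space. -/
theorem exists_psh_of_fp (h𝒳 : FibCat.IsFibGrpd 𝒳.p) (h𝒴 : FibCat.IsFibGrpd 𝒴.p) (f : 𝒳 ⥤ᵇ 𝒴)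
    (hf : AlgSt.RepByAlgSp1 f) (G : AlgSp.Sp S) (w : AlgSt.ofSp G ⥤ᵇ 𝒴) :
    ∃ (P : AlgSp.PSp S) (e : Stk.ofPsh P ⥤ᵇ FibCat.fp w f), FibCat.IsEquivOver e := by
  have h𝒲 : FibCat.IsFibGrpd (FibCat.fp w f).p :=
    isFibGrpd_fp w f (Stk.isFibGrpd_ofPsh _) h𝒳 h𝒴
  have hπ : AlgSt.RepByAlgSp1 (FibCat.fpFst w f) := repByAlgSp1_fpFst f w hf
  have hfaith : (FibCat.fpFst w f).toFunctor.Faithful :=
    faithful_of_repByAlgSp1 h𝒲 (Stk.isFibGrpd_ofPsh _) _ hπ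
  have hset : FibCat.IsFibSetoid (FibCat.fp w f).p :=
    isFibSetoid_of_faithful (FibCat.fpFst w f) h𝒲 (isFibSetoid_ofPsh _)
  exact FibSetPsh.exists_equiv_ofPsh_of_isFibSetoid _ hset

/-- Base change of `f`, representable by algebraic spaces with `P`, along a functor from the
category of a sheaf `G`, in terms of presheaves. -/
theorem exists_map_of_fp (P : MorphismProperty (AlgSp.Sp S)) (f : 𝒳 ⥤ᵇ 𝒴)
    (hf : AlgSt.RepByAlgSpWith P f) (G : AlgSp.Sp S) (w : AlgSt.ofSp G ⥤ᵇ 𝒴) (F : AlgSp.PSp S)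
    (e : Stk.ofPsh F ⥤ᵇ FibCat.fp w f) (he : FibCat.IsEquivOver e) :
    AlgSt.RepByAlgSpWith P
      (Stk.ofPshMap (mapOfFunctor (BasedFunctor.comp e (FibCat.fpFst w f)))) := by
  have hπ : AlgSt.RepByAlgSpWith P (FibCat.fpFst w f) := repByAlgSpWith_fpFst P f w hf
  obtain ⟨θ⟩ := ofPshMap_mapOfFunctor_iso (BasedFunctor.comp e (FibCat.fpFst w f))
  have e' : BasedFunctor.comp (BasedFunctor.comp e (FibCat.fpFst w f))
      (BasedFunctor.id (AlgSt.ofSp G)) ≅ BasedFunctor.comp e (FibCat.fpFst w f) := Iso.refl _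
  have h1 : AlgSt.RepByAlgSpWith P (BasedFunctor.comp e (FibCat.fpFst w f)) :=
    (repByAlgSpWith_of_square P (FibCat.fpFst w f) (BasedFunctor.comp e (FibCat.fpFst w f)) e
      (BasedFunctor.id (AlgSt.ofSp G)) he ReprInv.isEquivOver_id e').1 hπ
  exact (repByAlgSpWith_congr P θ).1 h1

/-- **Key lemma**: the base change of a morphism representable by algebraic spaces along a
functor from the category of an algebraic space is representable by an algebraic space. -/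
theorem repByAlgSp_fp_of_space (h𝒳 : FibCat.IsFibGrpd 𝒳.p) (h𝒴 : FibCat.IsFibGrpd 𝒴.p)
    (f : 𝒳 ⥤ᵇ 𝒴) (hf : AlgSt.RepByAlgSp1 f) (G : AlgSp.Space S) (w : AlgSt.ofSp G.obj ⥤ᵇ 𝒴) :
    AlgSt.RepByAlgSp (FibCat.fp w f) := by
  obtain ⟨F, e, he⟩ := exists_psh_of_fp h𝒳 h𝒴 f hf G.obj w
  have hf' := hf
  rw [repByAlgSp1_iff_top] at hf'
  have h2 := exists_map_of_fp ⊤ f hf' G.obj w F e he
  rw [← repByAlgSp1_iff_top] at h2
  have h3 := (repBySp_iff_repByAlgSp1_ofPshMap _).2 h2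
  obtain ⟨hF, hFalg⟩ := isAlgSpaceP_of_repBySp _ h3 ((AlgSp.isAlgSpaceP_obj_iff G.obj).2 G.property)
  exact ⟨⟨⟨F, hF⟩, hFalg⟩, e, he⟩

end K

end Groth.Agent.Helper2.AlgStLib

namespace Groth.Agent.Helper2.AlgStLib

open Groth.Agent.Helper2 Groth.Agent.Helper2.FibCatLib Groth.Agent.Helper2.StkLib
open Groth.Agent.Helper2.AlgSpBasic Groth.Agent.Helper2.EtaleLocal

variable {S : Scheme.{u}}

theorem repByAlgSp_of_isEquivOver {𝒜 : BasedCategory.{v, w} (Over S)}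
    {𝒜' : BasedCategory.{v', w'} (Over S)} (Φ : 𝒜 ⥤ᵇ 𝒜') (hΦ : FibCat.IsEquivOver Φ)
    (h : AlgSt.RepByAlgSp 𝒜) : AlgSt.RepByAlgSp 𝒜' := by
  obtain ⟨F, e, he⟩ := h
  exact ⟨F, BasedFunctor.comp e Φ, ReprInv.isEquivOver_comp he hΦ⟩

theorem repByAlgSp_overCat (U : Over S) : AlgSt.RepByAlgSp (FibCat.overCat U) :=
  ⟨⟨(AlgSp.yon S).obj U, AlgSp.IsAlgSpace.yon_obj U⟩, AlgSt.toOverCat U, toOverCat_isEquivOver U⟩

section FromSpace

variable {𝒳 𝒰 : BasedCategory.{u, u + 1} (Over S)}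

/-- If every functor from a scheme to `𝒳` is representable by algebraic spaces, so is every
functor from a category representable by an algebraic space. -/
theorem repByAlgSp1_of_forall_from_scheme (h𝒳 : FibCat.IsFibGrpd 𝒳.p)
    (H : ∀ (U : Over S) (x : FibCat.overCat U ⥤ᵇ 𝒳), AlgSt.RepByAlgSp1 x)
    (hr : AlgSt.RepByAlgSp 𝒰) (x : 𝒰 ⥤ᵇ 𝒳) : AlgSt.RepByAlgSp1 x := by
  intro T y
  obtain ⟨G, eG, heG⟩ := hr
  let w : AlgSt.ofSp G.obj ⥤ᵇ 𝒳 := BasedFunctor.comp eG x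
  have h1 : AlgSt.RepByAlgSp (FibCat.fp w y) :=
    repByAlgSp_fp_of_space (isFibGrpd_overCat T) h𝒳 y (H T y) G w
  obtain ⟨Φ, hΦ, -, -⟩ := exists_equiv_fp_left w x y eG heG (Iso.refl _)
  have h2 : AlgSt.RepByAlgSp (FibCat.fp x y) := repByAlgSp_of_isEquivOver Φ hΦ h1
  exact repByAlgSp_of_isEquivOver (FpSwap.fpSwap x y) (FpSwap.fpSwap_isEquivOver x y) h2

end FromSpace

end Groth.Agent.Helper2.AlgStLib

namespace Groth.Agent.Helper2.AlgStLib

open Groth.Agent.Helper2 Groth.Agent.Helper2.FibCatLib Groth.Agent.Helper2.StkLib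
open Groth.Agent.Helper2.AlgSpBasic Groth.Agent.Helper2.EtaleLocal

variable {S : Scheme.{u}}

/-- Stability under base change among algebraic spaces, as hypothesised in the statements. -/
def StableBC (P : MorphismProperty (AlgSp.Sp S)) : Prop :=
  ∀ ⦃X₁ Y₁ X₂ Y₂ : AlgSp.Sp S⦄, AlgSp.IsAlgSpace X₁ → AlgSp.IsAlgSpace Y₁ → AlgSp.IsAlgSpace X₂ →
    AlgSp.IsAlgSpace Y₂ → ∀ (a : X₁ ⟶ Y₁) (b : Y₂ ⟶ Y₁) (a' : X₂ ⟶ Y₂) (b' : X₂ ⟶ X₁),
    IsPullback b' a' a b → P a → P a'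

theorem respectsIsoSp_of_stableBC {P : MorphismProperty (AlgSp.Sp S)} (hPb : StableBC P) :
    RespectsIsoSp P := by
  intro X₁ X₂ Y h1 h2 hY c _ a ha
  have sq : IsPullback c (c ≫ a) a (𝟙 Y) := IsPullback.of_horiz_isIso ⟨by simp⟩
  exact hPb h1 hY h2 hY a (𝟙 Y) (c ≫ a) c sq ha

/-- An étale atlas is an fppf covering. -/
theorem isFppfCover_atlas {G : AlgSp.Sp S} {V : Over S} (p : (AlgSp.yon S).obj V ⟶ G)
    (hpe : AlgSp.RepWith @Etale p) (hps : AlgSp.RepWith @Surjective p) :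
    AlgSp.IsFppfCover (fun _ : PUnit.{u + 1} => (AlgSp.yon S).obj V) (fun _ => p) := by
  refine ⟨fun _ => ⟨?_, ?_⟩, fun x => ⟨PUnit.unit, ?_⟩⟩
  · exact locP_of_repWith @Flat (AlgSp.IsAlgSpace.yon_obj V).diag p (repWith_flat_of_etale hpe)
  · exact locP_of_repWith @LocallyOfFinitePresentation (AlgSp.IsAlgSpace.yon_obj V).diag p
      (repWith_lfp_of_etale hpe)
  · exact isSurjectiveMor_of_repWith_surjective p hps x

section K'

variable {𝒳 𝒴 : BasedCategory.{u, u + 1} (Over S)}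

/-- **Key lemma with a property**: base change of a morphism representable by algebraic spaces
with `P` along a functor from the category of an algebraic space. -/
theorem exists_rep_fp_of_space (h𝒳 : FibCat.IsFibGrpd 𝒳.p) (h𝒴 : FibCat.IsFibGrpd 𝒴.p)
    (P : MorphismProperty (AlgSp.Sp S)) (hPb : StableBC P)
    (hP : AlgSp.IsLocalOnBase AlgSp.IsFppfCover P) (f : 𝒳 ⥤ᵇ 𝒴)
    (hf : AlgSt.RepByAlgSpWith P f) (G : AlgSp.Space S) (w : AlgSt.ofSp G.obj ⥤ᵇ 𝒴) :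
    ∃ (F : AlgSp.Space S) (e : AlgSt.ofSp F.obj ⥤ᵇ FibCat.fp w f), FibCat.IsEquivOver e ∧
      P (ObjectProperty.homMk (mapOfFunctor (BasedFunctor.comp e (FibCat.fpFst w f))) :
        F.obj ⟶ G.obj) := by
  have hf1 : AlgSt.RepByAlgSp1 f := fun U y => by
    obtain ⟨F, e, he, -⟩ := hf U y
    exact ⟨F, e, he⟩
  obtain ⟨F, e, he⟩ := exists_psh_of_fp h𝒳 h𝒴 f hf1 G.obj w
  have hW := exists_map_of_fp P f hf G.obj w F e he
  have hW1 : AlgSt.RepByAlgSp1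
      (Stk.ofPshMap (mapOfFunctor (BasedFunctor.comp e (FibCat.fpFst w f)))) := fun U y => by
    obtain ⟨F, e, he, -⟩ := hW U y
    exact ⟨F, e, he⟩
  have hrep := (repBySp_iff_repByAlgSp1_ofPshMap _).2 hW1
  obtain ⟨hF, hFalg⟩ := isAlgSpaceP_of_repBySp _ hrep
    ((AlgSp.isAlgSpaceP_obj_iff G.obj).2 G.property)
  have hwith := (repBySpWith_iff_repByAlgSpWith_ofPshMap' P (respectsIsoSp_of_stableBC hPb) _
    hrep).2 hW
  refine ⟨⟨⟨F, hF⟩, hFalg⟩, e, he, ?_⟩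
  let a₀ : (⟨F, hF⟩ : AlgSp.Sp S) ⟶ G.obj :=
    ObjectProperty.homMk (mapOfFunctor (BasedFunctor.comp e (FibCat.fpFst w f)))
  have hwith' := (AlgSp.repBySpWith_hom_iff P a₀).1 hwith
  obtain ⟨V, p, hpe, hps⟩ := G.property.atlas
  have sq := IsPullback.of_hasPullback a₀ p
  obtain ⟨hX₁, hPsnd⟩ := hwith' p _ _ sq
  exact (hP (fun _ : PUnit.{u + 1} => (AlgSp.yon S).obj V) (fun _ => p) G.property
    (fun _ => AlgSp.IsAlgSpace.yon_obj V) (isFppfCover_atlas p hpe hps) a₀ hFalg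
    (fun _ => pullback a₀ p) (fun _ => pullback.snd a₀ p) (fun _ => pullback.fst a₀ p)
    (fun _ => hX₁) (fun _ => sq)).2 (fun _ => hPsnd)

end K'

end Groth.Agent.Helper2.AlgStLib
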