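import Mathlib
import Groth.Prelude.Def_AlgSt2
import Groth.Agent.Lib.Helper2.AlgSt.FromSpace

/-!
# Composition of morphisms representable by algebraic spaces with a property (helper2)
-/

set_option autoImplicit false
open CategoryTheory CategoryTheory.Functor CategoryTheory.Limits AlgebraicGeometry Opposite

universe u

namespace Groth.Agent.Helper2.AlgStLib

open Groth.Agent.Helper2 Groth.Agent.Helper2.FibCatLib Groth.Agent.Helper2.StkLib
open Groth.Agent.Helper2.AlgSpBasic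

variable {S : Scheme.{u}}

/-- Stability under composition among algebraic spaces, as hypothesised in the statements. -/
def StableComp (P : MorphismProperty (AlgSp.Sp S)) : Prop :=
  ∀ ⦃X Y Z : AlgSp.Sp S⦄, AlgSp.IsAlgSpace X → AlgSp.IsAlgSpace Y → AlgSp.IsAlgSpace Z →
    ∀ (a : X ⟶ Y) (b : Y ⟶ Z), P a → P b → P (a ≫ b)

variable {𝒳 𝒴 𝒵 : BasedCategory.{u, u + 1} (Over S)}

theorem repByAlgSpWith_comp (h𝒳 : FibCat.IsFibGrpd 𝒳.p) (h𝒴 : FibCat.IsFibGrpd 𝒴.p)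
    (P : MorphismProperty (AlgSp.Sp S)) (hPb : StableBC P) (hPc : StableComp P)
    (hP : AlgSp.IsLocalOnBase AlgSp.IsFppfCover P) (f : 𝒳 ⥤ᵇ 𝒴) (g : 𝒴 ⥤ᵇ 𝒵)
    (hf : AlgSt.RepByAlgSpWith P f) (hg : AlgSt.RepByAlgSpWith P g) :
    AlgSt.RepByAlgSpWith P (BasedFunctor.comp f g) := by
  intro U z
  obtain ⟨G, eG, heG, hPG⟩ := hg U z
  let w : AlgSt.ofSp G.obj ⥤ᵇ 𝒴 := BasedFunctor.comp eG (FibCat.fpSnd z g)
  obtain ⟨F, eF, heF, hPF⟩ := exists_rep_fp_of_space h𝒳 h𝒴 P hPb hP f hf G w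
  obtain ⟨Φ, hΦ, hΦ1, -⟩ := exists_equiv_fp_left w (FibCat.fpSnd z g) f eG heG (Iso.refl _)
  let E : AlgSt.ofSp F.obj ⥤ᵇ FibCat.fp z (BasedFunctor.comp f g) :=
    BasedFunctor.comp (BasedFunctor.comp eF Φ) (Paste.pasteA z g f)
  refine ⟨F, E, ReprInv.isEquivOver_comp (ReprInv.isEquivOver_comp heF hΦ)
    (Paste.pasteA_isEquivOver z g f), ?_⟩
  have h1 : BasedFunctor.comp E (FibCat.fpFst z (BasedFunctor.comp f g)) =
      BasedFunctor.comp (BasedFunctor.comp eF (FibCat.fpFst w f))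
        (BasedFunctor.comp eG (FibCat.fpFst z g)) := by
    change BasedFunctor.comp eF (BasedFunctor.comp
      (BasedFunctor.comp Φ (FibCat.fpFst (FibCat.fpSnd z g) f)) (FibCat.fpFst z g)) = _
    rw [hΦ1]
    rfl
  rw [h1, spMapOfOver_comp]
  exact hPc F.property G.property (AlgSp.IsAlgSpace.yon_obj U) _ _ hPF hPG

end Groth.Agent.Helper2.AlgStLib
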