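import Mathlib
import Groth.Prelude.Def_AlgSt3
import Groth.Agent.Lib.Helper2.AlgSt.Square
import Groth.Agent.Lib.Helper2.AlgSt.Comp
import Groth.Agent.Lib.Helper2.AlgSt.Rep
import Groth.Agent.Lib.Helper2.FibCat.Magic
import Groth.Agent.Lib.Helper2.FibCat.DiagBC
import Groth.Agent.Lib.Helper2.FibCat.Section
import Groth.Agent.Lib.Helper2.FibCat.FpId
import Groth.Agent.Lib.Helper2.FibCat.FpSwap
import Groth.Agent.Lib.Helper2.FibCat.ReprInv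

/-!
# Relative diagonals of functors over `(Sch/S)`: base change and composition (helper2)
-/

set_option autoImplicit false
open CategoryTheory CategoryTheory.Functor CategoryTheory.Limits AlgebraicGeometry Opposite

universe w₄ v₄ w₃ v₃ w₂ v₂ w' v' w v u

namespace Groth.Agent.Helper2.AlgStLib

open Groth.Agent.Helper2 Groth.Agent.Helper2.FibCatLib Groth.Agent.Helper2.StkLib

variable {S : Scheme.{u}}

section General

variable {𝒳 : BasedCategory.{v, w} (Over S)} {𝒴 : BasedCategory.{v', w'} (Over S)}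
  {𝒵 : BasedCategory.{v₂, w₂} (Over S)} {𝒜 : BasedCategory.{v₃, w₃} (Over S)}
  {ℬ : BasedCategory.{v₄, w₄} (Over S)}

/-- The diagonal of a base change is a base change of the diagonal. -/
theorem repByAlgSpWith_diag_fpFst (P : MorphismProperty (AlgSp.Sp S)) (f : 𝒳 ⥤ᵇ 𝒴) (g : 𝒵 ⥤ᵇ 𝒴)
    (hf : AlgSt.RepByAlgSpWith P (FibCat.diag f)) :
    AlgSt.RepByAlgSpWith P (FibCat.diag (FibCat.fpFst g f)) := by
  have h1 : AlgSt.RepByAlgSpWith P (FibCat.fpFst (DiagBC.K f g) (FibCat.diag f)) :=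
    repByAlgSpWith_fpFst P (FibCat.diag f) (DiagBC.K f g) hf
  exact (repByAlgSpWith_of_square P (FibCat.fpFst (DiagBC.K f g) (FibCat.diag f))
    (FibCat.diag (FibCat.fpFst g f)) (DiagBC.Ψ f g) (BasedFunctor.id _)
    (DiagBC.Ψ_isEquivOver f g) ReprInv.isEquivOver_id (Iso.refl _)).1 h1

/-- The canonical functor `𝒜 ×_𝒴 ℬ ⟶ 𝒜 ×_𝒵 ℬ` is a base change of the diagonal of `𝒴 ⟶ 𝒵`. -/
theorem repByAlgSpWith_canon (P : MorphismProperty (AlgSp.Sp S)) (a : 𝒜 ⥤ᵇ 𝒴) (b : ℬ ⥤ᵇ 𝒴)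
    (g : 𝒴 ⥤ᵇ 𝒵) (hg : AlgSt.RepByAlgSpWith P (FibCat.diag g)) :
    AlgSt.RepByAlgSpWith P (Magic.canon a b g) := by
  have h1 : AlgSt.RepByAlgSpWith P (FibCat.fpFst (Magic.Hc a b g) (FibCat.diag g)) :=
    repByAlgSpWith_fpFst P (FibCat.diag g) (Magic.Hc a b g) hg
  exact (repByAlgSpWith_of_square P (FibCat.fpFst (Magic.Hc a b g) (FibCat.diag g))
    (Magic.canon a b g) (Magic.Ψ a b g) (BasedFunctor.id _)
    (Magic.Ψ_isEquivOver a b g) ReprInv.isEquivOver_id (Iso.refl _)).1 h1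

/-- A section of `f` is a base change of the diagonal of `f`. -/
theorem repByAlgSpWith_section (P : MorphismProperty (AlgSp.Sp S)) (f : 𝒳 ⥤ᵇ 𝒴) (s : 𝒴 ⥤ᵇ 𝒳)
    (e : BasedFunctor.comp s f ≅ BasedFunctor.id 𝒴)
    (hf : AlgSt.RepByAlgSpWith P (FibCat.diag f)) : AlgSt.RepByAlgSpWith P s := by
  have h1 : AlgSt.RepByAlgSpWith P (FibCat.fpFst (Section.H f s e) (FibCat.diag f)) :=
    repByAlgSpWith_fpFst P (FibCat.diag f) (Section.H f s e) hf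
  exact (repByAlgSpWith_of_square P (FibCat.fpFst (Section.H f s e) (FibCat.diag f))
    s (Section.Sg f s e) (BasedFunctor.id _)
    (Section.Sg_isEquivOver f s e) ReprInv.isEquivOver_id (Iso.refl _)).1 h1

/-- The second projection of a 2-fibre product is a base change of the first functor. -/
theorem repByAlgSpWith_fpSnd (P : MorphismProperty (AlgSp.Sp S)) (f : 𝒳 ⥤ᵇ 𝒴) (g : 𝒵 ⥤ᵇ 𝒴)
    (hf : AlgSt.RepByAlgSpWith P f) : AlgSt.RepByAlgSpWith P (FibCat.fpSnd f g) := by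
  have h1 : AlgSt.RepByAlgSpWith P (FibCat.fpFst g f) := repByAlgSpWith_fpFst P f g hf
  exact (repByAlgSpWith_of_square P (FibCat.fpFst g f) (FibCat.fpSnd f g) (FpSwap.fpSwap f g)
    (BasedFunctor.id _) (FpSwap.fpSwap_isEquivOver f g) ReprInv.isEquivOver_id (Iso.refl _)).1 h1

/-- The graph of `f : 𝒳 ⟶ 𝒴` over `𝒵`, as a functor `𝒳 ⟶ 𝒳 ×_𝒵 𝒴`. -/
def graphOver (f : 𝒳 ⥤ᵇ 𝒴) (g : 𝒴 ⥤ᵇ 𝒵) : 𝒳 ⥤ᵇ FibCat.fp (BasedFunctor.comp f g) g :=
  BasedFunctor.comp (FpId.graphE f) (Magic.canon f (BasedFunctor.id 𝒴) g)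

theorem graphOver_snd (f : 𝒳 ⥤ᵇ 𝒴) (g : 𝒴 ⥤ᵇ 𝒵) :
    BasedFunctor.comp (graphOver f g) (FibCat.fpSnd (BasedFunctor.comp f g) g) = f := rfl

/-- The graph is a base change of the diagonal. -/
theorem repByAlgSpWith_graphOver (P : MorphismProperty (AlgSp.Sp S)) (f : 𝒳 ⥤ᵇ 𝒴) (g : 𝒴 ⥤ᵇ 𝒵)
    (hg : AlgSt.RepByAlgSpWith P (FibCat.diag g)) : AlgSt.RepByAlgSpWith P (graphOver f g) := by
  have h1 : AlgSt.RepByAlgSpWith P (Magic.canon f (BasedFunctor.id 𝒴) g) :=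
    repByAlgSpWith_canon P f (BasedFunctor.id 𝒴) g hg
  exact (repByAlgSpWith_of_square P (Magic.canon f (BasedFunctor.id 𝒴) g) (graphOver f g)
    (FpId.graphE f) (BasedFunctor.id _) (FpId.graphE_isEquivOver f) ReprInv.isEquivOver_id
    (Iso.refl _)).1 h1

end General

section Comp

variable {𝒳 𝒴 𝒵 : BasedCategory.{u, u + 1} (Over S)}

/-- The diagonal of a composite has `P` as soon as the diagonals of both functors have `P`. -/
theorem repByAlgSpWith_diag_comp (h𝒳 : FibCat.IsFibGrpd 𝒳.p) (h𝒴 : FibCat.IsFibGrpd 𝒴.p)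
    (P : MorphismProperty (AlgSp.Sp S)) (hPb : StableBC P) (hPc : StableComp P)
    (hP : AlgSp.IsLocalOnBase AlgSp.IsFppfCover P) (f : 𝒳 ⥤ᵇ 𝒴) (g : 𝒴 ⥤ᵇ 𝒵)
    (hf : AlgSt.RepByAlgSpWith P (FibCat.diag f)) (hg : AlgSt.RepByAlgSpWith P (FibCat.diag g)) :
    AlgSt.RepByAlgSpWith P (FibCat.diag (BasedFunctor.comp f g)) := by
  have hc : AlgSt.RepByAlgSpWith P (Magic.canon f f g) := repByAlgSpWith_canon P f f g hg
  have hff : FibCat.IsFibGrpd (FibCat.fp f f).p := isFibGrpd_fp f f h𝒳 h𝒳 h𝒴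
  have h1 := repByAlgSpWith_comp h𝒳 hff P hPb hPc hP (FibCat.diag f) (Magic.canon f f g) hf hc
  exact (repByAlgSpWith_congr P (Magic.diagCompIso f g)).1 h1

/-- Cancellation: if `f ⋙ g` and the diagonal of `g` have `P`, so has `f`. -/
theorem repByAlgSpWith_of_comp_of_diag (h𝒳 : FibCat.IsFibGrpd 𝒳.p) (h𝒴 : FibCat.IsFibGrpd 𝒴.p)
    (h𝒵 : FibCat.IsFibGrpd 𝒵.p)
    (P : MorphismProperty (AlgSp.Sp S)) (hPb : StableBC P) (hPc : StableComp P)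
    (hP : AlgSp.IsLocalOnBase AlgSp.IsFppfCover P) (f : 𝒳 ⥤ᵇ 𝒴) (g : 𝒴 ⥤ᵇ 𝒵)
    (hgf : AlgSt.RepByAlgSpWith P (BasedFunctor.comp f g))
    (hΔ : AlgSt.RepByAlgSpWith P (FibCat.diag g)) : AlgSt.RepByAlgSpWith P f := by
  have h1 : AlgSt.RepByAlgSpWith P (graphOver f g) := repByAlgSpWith_graphOver P f g hΔ
  have h2 : AlgSt.RepByAlgSpWith P (FibCat.fpSnd (BasedFunctor.comp f g) g) :=
    repByAlgSpWith_fpSnd P (BasedFunctor.comp f g) g hgf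
  have hfp : FibCat.IsFibGrpd (FibCat.fp (BasedFunctor.comp f g) g).p :=
    isFibGrpd_fp (BasedFunctor.comp f g) g h𝒳 h𝒴 h𝒵
  exact repByAlgSpWith_comp h𝒳 hfp P hPb hPc hP (graphOver f g)
    (FibCat.fpSnd (BasedFunctor.comp f g) g) h1 h2

end Comp

end Groth.Agent.Helper2.AlgStLib
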