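import Mathlib
import Groth.Prelude.Def_AlgSt3
import Groth.Agent.Lib.Helper2.AlgSt.RelDiag
import Groth.Agent.Lib.Helper2.AlgSt.Dict
import Groth.Agent.Lib.Helper2.AlgSt.Rep
import Groth.Agent.Lib.Helper2.AlgSt.FromSpace

/-!
# Cancellation for functors representable by algebraic spaces with a property (helper2)
-/

set_option autoImplicit false
open CategoryTheory CategoryTheory.Functor CategoryTheory.Limits AlgebraicGeometry Opposite

universe w₃ v₃ w₂ v₂ w' v' w v u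

namespace Groth.Agent.Helper2.AlgStLib

open Groth.Agent.Helper2 Groth.Agent.Helper2.FibCatLib Groth.Agent.Helper2.StkLib
open Groth.Agent.Helper2.AlgSpBasic

variable {S : Scheme.{u}}

/-- Cancellation among algebraic spaces: `P (a ≫ b)` and `P' b` imply `P a`. -/
def CancelSp (P P' : MorphismProperty (AlgSp.Sp S)) : Prop :=
  ∀ ⦃X Y Z : AlgSp.Sp S⦄, AlgSp.IsAlgSpace X → AlgSp.IsAlgSpace Y → AlgSp.IsAlgSpace Z →
    ∀ (a : X ⟶ Y) (b : Y ⟶ Z), P (a ≫ b) → P' b → P a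

/-- A map of algebraic spaces with `P` induces a functor representable by algebraic spaces with
`P`. -/
theorem repByAlgSpWith_ofSpMap_of_prop (P : MorphismProperty (AlgSp.Sp S)) (hPb : StableBC P)
    {FX FY : AlgSp.Sp S} (hX : AlgSp.IsAlgSpace FX) (hY : AlgSp.IsAlgSpace FY) (a : FX ⟶ FY)
    (ha : P a) : AlgSt.RepByAlgSpWith P (AlgSt.ofSpMap a) := by
  have hrep : AlgSp.RepBySp a.hom := (repBySh_iff a).1 (repBySh_of_isAlgSpace a hX hY.diag)
  refine (repBySpWith_iff_repByAlgSpWith_ofPshMap' P (respectsIsoSp_of_stableBC hPb) a.hom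
    hrep).1 ((AlgSp.repBySpWith_hom_iff P a).2 ?_)
  intro U ξ F' fst snd sq
  have hA : AlgSp.IsAlgSpace F' :=
    isAlgSpace_of_isPullback hY.diag hX (AlgSp.IsAlgSpace.yon_obj U) a ξ fst snd sq
  exact ⟨hA, hPb hX hY hA (AlgSp.IsAlgSpace.yon_obj U) a ξ snd fst sq ha⟩

section Both

variable {𝒳 : BasedCategory.{v, w} (Over S)} {𝒴 : BasedCategory.{v', w'} (Over S)}

/-- A functor between categories representable by algebraic spaces has `P` as soon as the
corresponding map of algebraic spaces has `P`. -/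
theorem repByAlgSpWith_of_both (P : MorphismProperty (AlgSp.Sp S)) (hPb : StableBC P)
    (FX FY : AlgSp.Space S) (eX : AlgSt.ofSp FX.obj ⥤ᵇ 𝒳) (heX : FibCat.IsEquivOver eX)
    (eY : AlgSt.ofSp FY.obj ⥤ᵇ 𝒴) (heY : FibCat.IsEquivOver eY) (f : 𝒳 ⥤ᵇ 𝒴)
    (a : FX.obj ⟶ FY.obj)
    (θ : BasedFunctor.comp (AlgSt.ofSpMap a) eY ≅ BasedFunctor.comp eX f) (ha : P a) :
    AlgSt.RepByAlgSpWith P f :=
  (repByAlgSpWith_of_square P f (AlgSt.ofSpMap a) eX eY heX heY θ).2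
    (repByAlgSpWith_ofSpMap_of_prop P hPb FX.property FY.property a ha)

end Both

section Cancel

variable {𝒲 : BasedCategory.{v, w} (Over S)} {𝒳 : BasedCategory.{v', w'} (Over S)}
  {𝒴 : BasedCategory.{v₂, w₂} (Over S)}

theorem spMapOfOver_ofSpMap_comp {F F' : AlgSp.Sp S} {U : Over S} (b : F ⟶ F')
    (Φ : AlgSt.ofSp F' ⥤ᵇ FibCat.overCat U) :
    AlgSt.spMapOfOver (BasedFunctor.comp (AlgSt.ofSpMap b) Φ) = b ≫ AlgSt.spMapOfOver Φ := by
  rw [spMapOfOver_comp]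
  congr 1
  apply ObjectProperty.hom_ext
  exact mapOfFunctor_ofPshMap b.hom

/-- **Cancellation.** If `x ⋙ j` has `P`, `j` has `P'`, and `P`, `P'` satisfy cancellation among
algebraic spaces, then `x` has `P`. -/
theorem repByAlgSpWith_of_comp_cancel (P P' : MorphismProperty (AlgSp.Sp S)) (hPb : StableBC P)
    (hc : CancelSp P P') (x : 𝒲 ⥤ᵇ 𝒳) (j : 𝒳 ⥤ᵇ 𝒴)
    (hxj : AlgSt.RepByAlgSpWith P (BasedFunctor.comp x j)) (hj : AlgSt.RepByAlgSpWith P' j) :
    AlgSt.RepByAlgSpWith P x := by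
  intro T y
  let yj : FibCat.overCat T ⥤ᵇ 𝒴 := BasedFunctor.comp y j
  obtain ⟨G, eG, heG, hG⟩ := hj T yj
  obtain ⟨B, eB, heB, hB⟩ := hxj T yj
  let π' : FibCat.fp yj j ⥤ᵇ 𝒳 := FibCat.fpSnd yj j
  let pT' : FibCat.fp yj j ⥤ᵇ FibCat.overCat T := FibCat.fpFst yj j
  let σ : FibCat.overCat T ⥤ᵇ FibCat.fp yj j :=
    FibCat.fpLift (BasedFunctor.id (FibCat.overCat T)) y (Iso.refl _)
  let pℬ : FibCat.fp π' x ⥤ᵇ FibCat.fp yj j := FibCat.fpFst π' x
  obtain ⟨Ψ, hΨ, ⟨η⟩, ⟨ε⟩⟩ := isEquivOver_inverse (Paste.pasteA_isEquivOver yj j x)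
  let eB' : AlgSt.ofSp B.obj ⥤ᵇ FibCat.fp π' x := BasedFunctor.comp eB Ψ
  have heB' : FibCat.IsEquivOver eB' := ReprInv.isEquivOver_comp heB hΨ
  obtain ⟨b, ⟨θ⟩⟩ := exists_map_of_equiv eB' eG heG pℬ
  have key : b ≫ AlgSt.spMapOfOver (BasedFunctor.comp eG pT') =
      AlgSt.spMapOfOver (BasedFunctor.comp eB (FibCat.fpFst yj (BasedFunctor.comp x j))) := by
    rw [← spMapOfOver_ofSpMap_comp]
    have α1 : BasedFunctor.comp (AlgSt.ofSpMap b) (BasedFunctor.comp eG pT') ⟶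
        BasedFunctor.comp (BasedFunctor.comp eB' pℬ) pT' :=
      BasedCategory.whiskerRight θ.hom pT'
    have α2 : BasedFunctor.comp (BasedFunctor.comp eB' pℬ) pT' ⟶
        BasedFunctor.comp eB (FibCat.fpFst yj (BasedFunctor.comp x j)) :=
      BasedCategory.whiskerLeft eB
        (BasedCategory.whiskerRight ε.hom (FibCat.fpFst yj (BasedFunctor.comp x j)))
    exact (spMapOfOver_congr α1).trans (spMapOfOver_congr α2)
  have hb : P b := hc B.property G.property (AlgSp.IsAlgSpace.yon_obj T) b _ (key ▸ hB) hG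
  have hpℬ : AlgSt.RepByAlgSpWith P pℬ :=
    repByAlgSpWith_of_both P hPb B G eB' heB' eG heG pℬ b θ hb
  have h1 := hpℬ T σ
  exact (repOver_iff_of_equiv P (FibCat.fpFst σ (FibCat.fpFst π' x))
    (FibCat.fpFst (BasedFunctor.comp σ π') x) (Paste.pasteB σ π' x)
    (Paste.pasteB_isEquivOver σ π' x) (Iso.refl _)).1 h1

end Cancel

end Groth.Agent.Helper2.AlgStLib
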