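import Mathlib
import Groth.Prelude.Def_AlgSt2
import Groth.Agent.Lib.Helper2.AlgSt.Comp
import Groth.Agent.Lib.Helper2.AlgSp.Mono
import Groth.Agent.Lib.Helper2.AlgSp.FpqcCover2
import Groth.Agent.Lib.Helper2.EtaleLocalSmooth

/-!
# Permanence of smoothness and surjectivity of morphisms of algebraic spaces (helper2)

The hypotheses of the statements on properties of morphisms representable by algebraic spaces,
for the two properties in the definition of an algebraic stack.
-/

set_option autoImplicit false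
open CategoryTheory CategoryTheory.Functor CategoryTheory.Limits AlgebraicGeometry Opposite

universe u

namespace Groth.Agent.Helper2.AlgStLib

open Groth.Agent.Helper2 Groth.Agent.Helper2.AlgSpBasic Groth.Agent.Helper2.EtaleLocal AlgSp

variable {S : Scheme.{u}}

theorem isLocalOnBase_fppf_of_fpqc {P : MorphismProperty (Sp S)}
    (h : IsLocalOnBase (IsFpqcCover (S := S)) P) : IsLocalOnBase (IsFppfCover (S := S)) P := by
  intro ι Y Yi g hY hYi hcov X f hX Xi p q hXi sq
  exact h Yi g hY hYi (isFpqcCover_of_isFppfCover hY Yi hYi g hcov) f hX Xi p q hXi sq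

theorem stableBC_locP (Q : MorphismProperty Scheme.{u}) [IsEtaleLocalST Q] :
    StableBC (S := S) (LocP Q) := by
  intro X₁ Y₁ X₂ Y₂ h1 h2 h3 h4 a b a' b' sq ha
  exact locP_of_isPullback Q h1 h2 h4 h3 a b b' a' sq ha

theorem stableComp_locP (Q : MorphismProperty Scheme.{u}) [IsEtaleLocalST Q] :
    StableComp (S := S) (LocP Q) := by
  intro X Y Z hX hY hZ a b ha hb
  exact locP_comp Q hX hY hZ a b ha hb

theorem isLocalOnBase_fppf_locP_smooth :
    IsLocalOnBase (IsFppfCover (S := S)) (LocP @Smooth) :=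
  isLocalOnBase_fppf_of_fpqc (isLocalOnBase_fpqc_locP @Smooth)

theorem stableBC_isSurjectiveMor : StableBC (S := S) IsSurjectiveMor := by
  intro X₁ Y₁ X₂ Y₂ _ _ _ _ a b a' b' sq ha
  exact isSurjectiveMor_of_isPullback a b b' a' sq ha

theorem stableComp_isSurjectiveMor : StableComp (S := S) IsSurjectiveMor := by
  intro X Y Z _ _ _ a b ha hb z
  obtain ⟨y, hy⟩ := hb z
  obtain ⟨x, hx⟩ := ha y
  exact ⟨x, by rw [Points.map_comp, hx, hy]⟩

theorem isLocalOnBase_fppf_isSurjectiveMor :
    IsLocalOnBase (IsFppfCover (S := S)) IsSurjectiveMor :=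
  isLocalOnBase_fppf_of_fpqc isLocalOnBase_fpqc_isSurjectiveMor

end Groth.Agent.Helper2.AlgStLib
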