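import Mathlib
import Groth.Prelude.Def_AlgSt3
import Groth.Agent.Lib.Helper2.AlgSt.PFacts
import Groth.Agent.Lib.Helper2.AlgSp.QFDescent

/-!
# Facts on the properties of morphisms of algebraic spaces used for the separation conditions
(helper2)
-/

set_option autoImplicit false
open CategoryTheory CategoryTheory.Functor CategoryTheory.Limits AlgebraicGeometry Opposite

universe u

namespace Groth.Agent.Helper2.AlgStLib

open Groth.Agent.Helper2 Groth.Agent.Helper2.AlgSpBasic Groth.Agent.Helper2.EtaleLocal AlgSp

variable {S : Scheme.{u}}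

theorem isLocalOnBase_fppf_locP_unramified :
    IsLocalOnBase (IsFppfCover (S := S)) (LocP (@LocallyOfFiniteType ⊓ @FormallyUnramified)) :=
  isLocalOnBase_fppf_of_fpqc (isLocalOnBase_fpqc_locP _)

theorem isLocalOnBase_fppf_locP_lqf :
    IsLocalOnBase (IsFppfCover (S := S)) (LocP (@LocallyQuasiFinite ⊓ @LocallyOfFiniteType)) :=
  isLocalOnBase_fppf_of_fpqc (isLocalOnBase_fpqc_locP _)

end Groth.Agent.Helper2.AlgStLib
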