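import Mathlib
import Groth.Prelude.Def_AlgSt3
import Groth.Agent.Lib.Helper2.AlgSt.PFacts2
import Groth.Agent.Lib.Helper2.AlgSp.Fpqc2
import Groth.Agent.Lib.Helper2.AlgSp.QC
import Groth.Agent.Lib.Helper2.AlgSp.Mor2
import Groth.Agent.Lib.Helper2.AlgSp.Descent

/-!
# Base change, composition and locality for proper and for quasi-compact quasi-separated
morphisms of algebraic spaces (helper2)
-/

set_option autoImplicit false
open CategoryTheory CategoryTheory.Functor CategoryTheory.Limits AlgebraicGeometry Opposite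

universe u

namespace Groth.Agent.Helper2.AlgStLib

open Groth.Agent.Helper2 Groth.Agent.Helper2.AlgSpBasic Groth.Agent.Helper2.EtaleLocal AlgSp

variable {S : Scheme.{u}}

/-! ### Universal properties -/

theorem univSp_of_isPullback (Q : MorphismProperty (Sp S)) {X Y X' Y' : Sp S} {f : X ⟶ Y}
    {g : Y' ⟶ Y} {fst : X' ⟶ X} {f' : X' ⟶ Y'} (sq : IsPullback fst f' f g)
    (hf : UnivSp Q f) : UnivSp Q f' := by
  intro Z Z' hZ h a b sqZ
  exact hf hZ (h ≫ g) (a ≫ fst) b (sqZ.paste_horiz sq)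

theorem isUnivClosedMor_comp {X Y Z : Sp S} (hY : IsAlgSpace Y) (hZ : IsAlgSpace Z)
    (f : X ⟶ Y) (g : Y ⟶ Z) (hf : IsUnivClosedMor f) (hg : IsUnivClosedMor g) :
    IsUnivClosedMor (f ≫ g) := by
  intro T T' hT h a b sqT
  have hYT : IsAlgSpace (pullback g h) :=
    isAlgSpace_of_isPullback hZ.diag hY hT g h _ _ (IsPullback.of_hasPullback g h)
  have sqY := IsPullback.of_hasPullback g h
  have hw : (a ≫ f) ≫ g = b ≫ h := by rw [Category.assoc]; exact sqT.w
  let c : T' ⟶ pullback g h := sqY.lift (a ≫ f) b hw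
  have hc1 : c ≫ pullback.fst g h = a ≫ f := sqY.lift_fst _ _ hw
  have hc2 : c ≫ pullback.snd g h = b := sqY.lift_snd _ _ hw
  have sqc : IsPullback a c f (pullback.fst g h) := by
    refine IsPullback.of_bot ?_ hc1.symm sqY
    rw [hc2]
    exact sqT
  have h1 : IsClosedMap (Points.map c) := hf hYT (pullback.fst g h) a c sqc
  have h2 : IsClosedMap (Points.map (pullback.snd g h)) := hg hT h _ _ sqY
  show IsClosedMap (Points.map b)
  rw [← hc2]
  have : Points.map (c ≫ pullback.snd g h) = Points.map (pullback.snd g h) ∘ Points.map c := by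
    funext x
    exact Points.map_comp _ _ x
  rw [this]
  exact h2.comp h1

/-! ### Properties of the diagonal -/

theorem repWith_diagonal_comp (P₀ : MorphismProperty Scheme.{u}) [P₀.IsStableUnderBaseChange]
    [P₀.IsMultiplicative] {X Y Z : Sp S} (f : X ⟶ Y) (g : Y ⟶ Z)
    (hf : RepWith P₀ (pullback.diagonal f)) (hg : RepWith P₀ (pullback.diagonal g)) :
    RepWith P₀ (pullback.diagonal (f ≫ g)) :=
  (RepWith (S := S) P₀).diagonal.comp_mem f g hf hg

/-! ### Quasi-compact and quasi-separated -/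

theorem stableBC_qcqs : StableBC (S := S) (IsQuasiCompactMor ⊓ IsQuasiSeparatedMor) := by
  intro X₁ Y₁ X₂ Y₂ h1 h2 h3 h4 a b a' b' sq ha
  exact ⟨isQuasiCompactMor_of_isPullback sq ha.1,
    repWith_diagonal_of_isPullback @QuasiCompact sq ha.2⟩

theorem stableComp_qcqs : StableComp (S := S) (IsQuasiCompactMor ⊓ IsQuasiSeparatedMor) := by
  intro X Y Z hX hY hZ a b ha hb
  exact ⟨isQuasiCompactMor_comp hY hZ.diag a b ha.1 hb.1,
    repWith_diagonal_comp @QuasiCompact a b ha.2 hb.2⟩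

theorem isLocalOnBase_fppf_qcqs :
    IsLocalOnBase (IsFppfCover (S := S)) (IsQuasiCompactMor ⊓ IsQuasiSeparatedMor) :=
  haveI := Groth.Agent.S0079.result.{u}
  isLocalOnBase_fppf_of_fpqc
    (isLocalOnBase_and isLocalOnBase_fpqc_isQuasiCompactMor
      (isLocalOnBase_fpqc_diagonal @QuasiCompact))

/-! ### Proper -/

theorem stableBC_isProperMor : StableBC (S := S) IsProperMor := by
  intro X₁ Y₁ X₂ Y₂ h1 h2 h3 h4 a b a' b' sq ha
  obtain ⟨hs, ⟨hl, hq⟩, hu⟩ := ha
  exact ⟨repWith_diagonal_of_isPullback @IsClosedImmersion sq hs,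
    ⟨locP_of_isPullback _ h1 h2 h4 h3 a b b' a' sq hl, isQuasiCompactMor_of_isPullback sq hq⟩,
    univSp_of_isPullback _ sq hu⟩

theorem stableComp_isProperMor : StableComp (S := S) IsProperMor := by
  intro X Y Z hX hY hZ a b ha hb
  obtain ⟨hs, ⟨hl, hq⟩, hu⟩ := ha
  obtain ⟨hs', ⟨hl', hq'⟩, hu'⟩ := hb
  exact ⟨repWith_diagonal_comp @IsClosedImmersion a b hs hs',
    ⟨locP_comp _ hX hY hZ a b hl hl', isQuasiCompactMor_comp hY hZ.diag a b hq hq'⟩,
    isUnivClosedMor_comp hY hZ a b hu hu'⟩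

theorem isLocalOnBase_fppf_isProperMor :
    IsLocalOnBase (IsFppfCover (S := S)) IsProperMor :=
  haveI := Groth.Agent.S0083.result.{u}
  isLocalOnBase_fppf_of_fpqc
    (isLocalOnBase_and (isLocalOnBase_fpqc_diagonal @IsClosedImmersion)
      (isLocalOnBase_and
        (isLocalOnBase_and (isLocalOnBase_fpqc_locP @LocallyOfFiniteType)
          isLocalOnBase_fpqc_isQuasiCompactMor)
        isLocalOnBase_fpqc_isUnivClosedMor))

end Groth.Agent.Helper2.AlgStLib
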