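import Mathlib
import Groth.Prelude.Def_AlgSt3
import Groth.Agent.Lib.Helper2.AlgSt.PFacts3
import Groth.Agent.Lib.Helper2.AlgSt.CancelP
import Groth.Agent.Lib.Helper2.AlgSp.UnivTop

/-!
# Cancellation for proper and quasi-compact quasi-separated morphisms of algebraic spaces
(helper2)
-/

set_option autoImplicit false
open CategoryTheory CategoryTheory.Functor CategoryTheory.Limits AlgebraicGeometry Opposite

universe u

namespace Groth.Agent.Helper2.AlgStLib

open Groth.Agent.Helper2 Groth.Agent.Helper2.AlgSpBasic Groth.Agent.Helper2.EtaleLocal AlgSp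

variable {S : Scheme.{u}}

section Cat

variable {C : Type*} [Category C] [HasPullbacks C]

theorem diagonal_comp_mapDesc {X Y Z : C} (a : X ⟶ Y) (b : Y ⟶ Z) :
    pullback.diagonal (a ≫ b) = pullback.diagonal a ≫ pullback.mapDesc a a b := by
  apply pullback.hom_ext
  · rw [pullback.diagonal_fst, Category.assoc, pullback.lift_fst, ← Category.assoc,
      pullback.diagonal_fst, Category.id_comp]
  · rw [pullback.diagonal_snd, Category.assoc, pullback.lift_snd, ← Category.assoc,
      pullback.diagonal_snd, Category.id_comp]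

theorem mono_mapDesc {X Y T T' : C} (f : X ⟶ T) (g : Y ⟶ T) (i : T ⟶ T') :
    Mono (pullback.mapDesc f g i) :=
  (MorphismProperty.monomorphisms C).of_isPullback (pullback_map_diagonal_isPullback f g i)
    (inferInstanceAs (Mono (pullback.diagonal i)))

end Cat

/-- If the diagonal of `a ≫ b` has `P₀`, so has the diagonal of `a`. -/
theorem repWith_diagonal_of_comp (P₀ : MorphismProperty Scheme.{u}) [P₀.IsStableUnderBaseChange]
    [P₀.IsMultiplicative] [P₀.RespectsIso] {X Y Z : Sp S} (a : X ⟶ Y) (b : Y ⟶ Z)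
    (h : RepWith P₀ (pullback.diagonal (a ≫ b))) : RepWith P₀ (pullback.diagonal a) := by
  rw [diagonal_comp_mapDesc] at h
  have := mono_mapDesc a a b
  have : IsIso (pullback.diagonal (pullback.mapDesc a a b)) :=
    (pullback.isIso_diagonal_iff _).mpr inferInstance
  exact repWith_of_comp_of_diagonal P₀ _ _ h (repWith_of_isIso P₀ _)

theorem cancelSp_qcqs :
    CancelSp (S := S) (IsQuasiCompactMor ⊓ IsQuasiSeparatedMor) IsQuasiSeparatedMor := by
  intro X Y Z hX hY hZ a b hab hb
  exact ⟨isQuasiCompactMor_of_comp_of_isQuasiSeparatedMor hX hY hZ a b hab.1 hb,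
    repWith_diagonal_of_comp @QuasiCompact a b hab.2⟩

/-- A closed immersion is universally closed. -/
theorem isUnivClosedMor_of_repWith_isClosedImmersion {X Y : Sp S} (f : X ⟶ Y)
    (hf : RepWith @IsClosedImmersion f) : IsUnivClosedMor f :=
  (repWith_universallyClosed_iff f hf.rep).1
    (repWith_mono (fun _ _ g (hg : IsClosedImmersion g) => (inferInstance : UniversallyClosed g))
      hf)

theorem isUnivClosedMor_of_comp_of_isSeparatedMor {X Y Z : Sp S} (hX : IsAlgSpace X)
    (hY : IsAlgSpace Y) (hZ : IsAlgSpace Z) (a : X ⟶ Y) (b : Y ⟶ Z)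
    (hab : IsUnivClosedMor (a ≫ b)) (hb : IsSeparatedMor b) : IsUnivClosedMor a := by
  have sq := IsPullback.of_hasPullback (a ≫ b) b
  have hP : IsAlgSpace (pullback (a ≫ b) b) :=
    isAlgSpace_of_isPullback hZ.diag hX hY (a ≫ b) b _ _ sq
  have h1 : IsUnivClosedMor (pullback.snd (a ≫ b) b) := univSp_of_isPullback _ sq hab
  have sqΓ := pullback_lift_diagonal_isPullback a b
  have h2 : RepWith @IsClosedImmersion
      (pullback.lift (𝟙 X) a (by simp) : X ⟶ pullback (a ≫ b) b) :=
    repWith_of_isPullback @IsClosedImmersion sqΓ hb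
  have h3 := isUnivClosedMor_comp hP hY _ _
    (isUnivClosedMor_of_repWith_isClosedImmersion _ h2) h1
  rwa [pullback.lift_snd] at h3

theorem cancelSp_isProperMor : CancelSp (S := S) IsProperMor IsSeparatedMor := by
  intro X Y Z hX hY hZ a b hab hb
  obtain ⟨hs, ⟨hl, hq⟩, hu⟩ := hab
  have hbq : IsQuasiSeparatedMor b :=
    repWith_mono (fun _ _ g (hg : IsClosedImmersion g) => (inferInstance : QuasiCompact g)) hb
  exact ⟨repWith_diagonal_of_comp @IsClosedImmersion a b hs,
    ⟨locP_of_comp _ (fun _ _ _ x y h => @locallyOfFiniteType_of_comp _ _ _ x y h) hX hY hZ a b hl,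
      isQuasiCompactMor_of_comp_of_isQuasiSeparatedMor hX hY hZ a b hq hbq⟩,
    isUnivClosedMor_of_comp_of_isSeparatedMor hX hY hZ a b hu hb⟩

end Groth.Agent.Helper2.AlgStLib
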