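import Mathlib
import Groth.Prelude.Def_AlgSt3
import Groth.Agent.Lib.Helper2.AlgSt.CancelP
import Groth.Agent.Lib.Helper2.AlgSt.PFacts3

/-!
# Diagonals of morphisms of algebraic stacks (helper2)
-/

set_option autoImplicit false
open CategoryTheory CategoryTheory.Functor CategoryTheory.Limits AlgebraicGeometry Opposite

universe w₃ v₃ w₂ v₂ w' v' w v u

namespace Groth.Agent.Helper2.AlgStLib

open Groth.Agent.Helper2 Groth.Agent.Helper2.FibCatLib Groth.Agent.Helper2.StkLib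
open Groth.Agent.Helper2.AlgSpBasic Groth.Agent.Helper2.EtaleLocal

variable {S : Scheme.{u}}

theorem stableBC_top : StableBC (S := S) ⊤ := by
  intro X₁ Y₁ X₂ Y₂ _ _ _ _ a b a' b' _ _
  trivial

theorem stableComp_top : StableComp (S := S) ⊤ := by
  intro X Y Z _ _ _ a b _ _
  trivial

theorem isLocalOnBase_fppf_top : AlgSp.IsLocalOnBase (AlgSp.IsFppfCover (S := S)) ⊤ := by
  intro ι Y Yi g hY hYi hcov X f hX Xi p q hXi sq
  exact ⟨fun _ _ => trivial, fun _ => trivial⟩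

theorem cancelSp_top (P' : MorphismProperty (AlgSp.Sp S)) : CancelSp (S := S) ⊤ P' := by
  intro X Y Z _ _ _ a b _ _
  trivial

theorem cancelSp_locP (Q : MorphismProperty Scheme.{u}) [IsEtaleLocalST Q]
    (hcancel : ∀ ⦃A B C : Scheme.{u}⦄ (x : A ⟶ B) (y : B ⟶ C), Q (x ≫ y) → Q x)
    (P' : MorphismProperty (AlgSp.Sp S)) : CancelSp (S := S) (AlgSp.LocP Q) P' := by
  intro X Y Z hX hY hZ a b hab _
  exact locP_of_comp Q hcancel hX hY hZ a b hab

theorem cancelSp_unramified (P' : MorphismProperty (AlgSp.Sp S)) :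
    CancelSp (S := S) (AlgSp.LocP (@LocallyOfFiniteType ⊓ @FormallyUnramified)) P' :=
  cancelSp_locP _ (fun _ _ _ x y h =>
    ⟨@locallyOfFiniteType_of_comp _ _ _ x y h.1, @FormallyUnramified.of_comp _ _ _ x y h.2⟩) P'

theorem cancelSp_lqf (P' : MorphismProperty (AlgSp.Sp S)) :
    CancelSp (S := S) (AlgSp.LocP (@LocallyQuasiFinite ⊓ @LocallyOfFiniteType)) P' :=
  cancelSp_locP _ (fun _ _ _ x y h =>
    ⟨@LocallyQuasiFinite.of_comp _ _ _ x y h.1, @locallyOfFiniteType_of_comp _ _ _ x y h.2⟩) P'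

theorem cancelSp_lft (P' : MorphismProperty (AlgSp.Sp S)) :
    CancelSp (S := S) (AlgSp.LocP @LocallyOfFiniteType) P' :=
  cancelSp_locP _ (fun _ _ _ x y h => @locallyOfFiniteType_of_comp _ _ _ x y h) P'

section Diag

variable {𝒳 : BasedCategory.{v, w} (Over S)} {𝒴 : BasedCategory.{v', w'} (Over S)}
  {𝒵 : BasedCategory.{v₂, w₂} (Over S)}

theorem comp_toSelf (f : 𝒳 ⥤ᵇ 𝒴) : BasedFunctor.comp f (FibCat.toSelf 𝒴) = FibCat.toSelf 𝒳 := by
  have h : (BasedFunctor.comp f (FibCat.toSelf 𝒴)).toFunctor = (FibCat.toSelf 𝒳).toFunctor := f.w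
  cases hf : BasedFunctor.comp f (FibCat.toSelf 𝒴) with
  | mk F wF =>
    cases hg : FibCat.toSelf 𝒳 with
    | mk G wG =>
      rw [hf, hg] at h
      change F = G at h
      subst h
      rfl

/-- If the diagonal of `f ⋙ g` has `P` and the diagonal of `g` has `P'`, then the diagonal of `f`
has `P`. -/
theorem repByAlgSpWith_diag_of_comp (P P' : MorphismProperty (AlgSp.Sp S)) (hPb : StableBC P)
    (hc : CancelSp P P') (f : 𝒳 ⥤ᵇ 𝒴) (g : 𝒴 ⥤ᵇ 𝒵)
    (hfg : AlgSt.RepByAlgSpWith P (FibCat.diag (BasedFunctor.comp f g)))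
    (hg : AlgSt.RepByAlgSpWith P' (FibCat.diag g)) : AlgSt.RepByAlgSpWith P (FibCat.diag f) := by
  have h2 : AlgSt.RepByAlgSpWith P (BasedFunctor.comp (FibCat.diag f) (Magic.canon f f g)) :=
    (repByAlgSpWith_congr P (Magic.diagCompIso f g)).2 hfg
  have h3 : AlgSt.RepByAlgSpWith P' (Magic.canon f f g) := repByAlgSpWith_canon P' f f g hg
  exact repByAlgSpWith_of_comp_cancel P P' hPb hc (FibCat.diag f) (Magic.canon f f g) h2 h3

/-- The diagonal of a functor over `(Sch/S)` has `P` when the absolute diagonal of the source has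
`P` and the absolute diagonal of the target has `P'`. -/
theorem repByAlgSpWith_diag_of_toSelf (P P' : MorphismProperty (AlgSp.Sp S)) (hPb : StableBC P)
    (hc : CancelSp P P') (f : 𝒳 ⥤ᵇ 𝒴)
    (h𝒳 : AlgSt.RepByAlgSpWith P (FibCat.diag (FibCat.toSelf 𝒳)))
    (h𝒴 : AlgSt.RepByAlgSpWith P' (FibCat.diag (FibCat.toSelf 𝒴))) :
    AlgSt.RepByAlgSpWith P (FibCat.diag f) := by
  have h1 : AlgSt.RepByAlgSpWith P (FibCat.diag (BasedFunctor.comp f (FibCat.toSelf 𝒴))) := by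
    rw [comp_toSelf f]
    exact h𝒳
  exact repByAlgSpWith_diag_of_comp P P' hPb hc f (FibCat.toSelf 𝒴) h1 h𝒴

/-- The diagonal of any functor between categories whose absolute diagonals are representable by
algebraic spaces is representable by algebraic spaces. -/
theorem repByAlgSp1_diag_of_diag (f : 𝒳 ⥤ᵇ 𝒴)
    (h𝒳 : AlgSt.RepByAlgSp1 (FibCat.diag (FibCat.toSelf 𝒳)))
    (h𝒴 : AlgSt.RepByAlgSp1 (FibCat.diag (FibCat.toSelf 𝒴))) :
    AlgSt.RepByAlgSp1 (FibCat.diag f) := by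
  rw [repByAlgSp1_iff_top] at h𝒳 h𝒴 ⊢
  exact repByAlgSpWith_diag_of_toSelf ⊤ ⊤ stableBC_top (cancelSp_top ⊤) f h𝒳 h𝒴

end Diag

end Groth.Agent.Helper2.AlgStLib
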