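import Mathlib
import Groth.Prelude.Def_AlgSt3
import Groth.Agent.Lib.Helper2.AlgSt.DiagStack
import Groth.Agent.Lib.Helper2.AlgSt.RelDiag
import Groth.Agent.Lib.Helper2.AlgSt.Space
import Groth.Agent.Lib.Helper2.FibCat.DiagSquare
import Groth.Agent.Lib.Helper2.Stk.OfPshDiag

/-!
# The diagonal of a functor representable by algebraic spaces (helper2)

Dictionary between properties of the diagonal functor `𝒳 ⟶ 𝒳 ×_𝒴 𝒳` and properties of the
diagonals of the maps of algebraic spaces obtained from `f` by base change to schemes.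
-/

set_option autoImplicit false
open CategoryTheory CategoryTheory.Functor CategoryTheory.Limits AlgebraicGeometry Opposite

universe u

namespace Groth.Agent.Helper2.AlgStLib

open Groth.Agent.Helper2 Groth.Agent.Helper2.FibCatLib Groth.Agent.Helper2.StkLib
open Groth.Agent.Helper2.AlgSpBasic Groth.Agent.Helper2.EtaleLocal

variable {S : Scheme.{u}} {𝒳 𝒴 𝒳' 𝒴' : BasedCategory.{u, u + 1} (Over S)}

/-- Invariance of properties of the diagonal under squares of equivalences. -/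
theorem repByAlgSpWith_diag_of_square (P : MorphismProperty (AlgSp.Sp S)) (f : 𝒳 ⥤ᵇ 𝒴)
    (f' : 𝒳' ⥤ᵇ 𝒴') (a : 𝒳' ⥤ᵇ 𝒳) (b : 𝒴' ⥤ᵇ 𝒴) (ha : FibCat.IsEquivOver a)
    (hb : FibCat.IsEquivOver b) (e : BasedFunctor.comp f' b ≅ BasedFunctor.comp a f) :
    AlgSt.RepByAlgSpWith P (FibCat.diag f) ↔ AlgSt.RepByAlgSpWith P (FibCat.diag f') :=
  repByAlgSpWith_of_square P (FibCat.diag f) (FibCat.diag f') a (DiagSquare.M f f' a b e) ha
    (DiagSquare.M_isEquivOver f f' a b e ha hb) (DiagSquare.diagIso f f' a b e)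

/-- A property of the diagonal can be checked after base change to schemes. -/
theorem repByAlgSpWith_diag_of_forall_fpFst (P : MorphismProperty (AlgSp.Sp S)) (f : 𝒳 ⥤ᵇ 𝒴)
    (h : ∀ (T : Over S) (y : FibCat.overCat T ⥤ᵇ 𝒴),
      AlgSt.RepByAlgSpWith P (FibCat.diag (FibCat.fpFst y f))) :
    AlgSt.RepByAlgSpWith P (FibCat.diag f) := by
  intro T t
  let y : FibCat.overCat T ⥤ᵇ 𝒴 := BasedFunctor.comp (BasedFunctor.comp t (FibCat.fpFst f f)) f
  let t' : FibCat.overCat T ⥤ᵇ FibCat.fp (FibCat.fpFst y f) (FibCat.fpFst y f) :=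
    DiagBC.liftK f y t (BasedFunctor.id _) (Iso.refl _)
  have θ : BasedFunctor.comp t' (DiagBC.K f y) ≅ t :=
    DiagBC.liftKIso f y t (BasedFunctor.id _) (Iso.refl _)
  have hK : AlgSt.RepByAlgSpWith P (FibCat.fpFst (DiagBC.K f y) (FibCat.diag f)) :=
    (repByAlgSpWith_of_square P (FibCat.fpFst (DiagBC.K f y) (FibCat.diag f))
      (FibCat.diag (FibCat.fpFst y f)) (DiagBC.Ψ f y) (BasedFunctor.id _)
      (DiagBC.Ψ_isEquivOver f y) ReprInv.isEquivOver_id (Iso.refl _)).2 (h T y)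
  have h1 := hK T t'
  have h2 := (repOver_iff_of_equiv P (FibCat.fpFst t' (FibCat.fpFst (DiagBC.K f y) (FibCat.diag f)))
    (FibCat.fpFst (BasedFunctor.comp t' (DiagBC.K f y)) (FibCat.diag f))
    (Paste.pasteB t' (DiagBC.K f y) (FibCat.diag f))
    (Paste.pasteB_isEquivOver t' (DiagBC.K f y) (FibCat.diag f)) (Iso.refl _)).1 h1
  obtain ⟨Φ, hΦ, hΦfst⟩ := exists_equiv_fp_congr_fst (BasedFunctor.comp t' (DiagBC.K f y)) t
    (FibCat.diag f) θ
  exact (repOver_iff_of_equiv P (FibCat.fpFst (BasedFunctor.comp t' (DiagBC.K f y)) (FibCat.diag f))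
    (FibCat.fpFst t (FibCat.diag f)) Φ hΦ (eqToIso hΦfst)).1 h2

/-- A property of the diagonal stable under base change holds for all base changes. -/
theorem repByAlgSpWith_diag_iff_forall_fpFst (P : MorphismProperty (AlgSp.Sp S))
    (f : 𝒳 ⥤ᵇ 𝒴) :
    AlgSt.RepByAlgSpWith P (FibCat.diag f) ↔ ∀ (T : Over S) (y : FibCat.overCat T ⥤ᵇ 𝒴),
      AlgSt.RepByAlgSpWith P (FibCat.diag (FibCat.fpFst y f)) :=
  ⟨fun h T y => repByAlgSpWith_diag_fpFst P f y h, repByAlgSpWith_diag_of_forall_fpFst P f⟩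

/-- The diagonal of the functor attached to a map of sheaves is the functor attached to the
diagonal map. -/
theorem repByAlgSpWith_diag_ofSpMap_iff (P : MorphismProperty (AlgSp.Sp S)) {F G : AlgSp.Sp S}
    (φ : F ⟶ G) :
    AlgSt.RepByAlgSpWith P (FibCat.diag (AlgSt.ofSpMap φ)) ↔
      AlgSt.RepByAlgSpWith P (AlgSt.ofSpMap (pullback.diagonal φ)) := by
  have sq : IsPullback (pullback.fst φ φ).hom (pullback.snd φ φ).hom φ.hom φ.hom :=
    (IsPullback.of_hasPullback φ φ).map (sheafToPresheaf (AlgSp.J S) (Type (u + 1)))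
  have h1 : (pullback.diagonal φ).hom ≫ (pullback.fst φ φ).hom = 𝟙 F.obj :=
    congrArg (fun m : F ⟶ F => m.hom) (pullback.diagonal_fst φ)
  have h2 : (pullback.diagonal φ).hom ≫ (pullback.snd φ φ).hom = 𝟙 F.obj :=
    congrArg (fun m : F ⟶ F => m.hom) (pullback.diagonal_snd φ)
  exact repByAlgSpWith_of_square P (FibCat.diag (AlgSt.ofSpMap φ))
    (AlgSt.ofSpMap (pullback.diagonal φ)) (BasedFunctor.id _)
    (fpCmp φ.hom φ.hom (pullback.fst φ φ).hom (pullback.snd φ φ).hom sq.w)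
    ReprInv.isEquivOver_id (fpCmp_isEquivOver sq)
    (diagCmpIso φ.hom (pullback.fst φ φ).hom (pullback.snd φ φ).hom (pullback.diagonal φ).hom
      sq.w h1 h2)

/-- Dictionary for a functor to a slice from a category representable by an algebraic space. -/
theorem repByAlgSpWith_diag_iff_of_rep (P : MorphismProperty (AlgSp.Sp S)) (hP : RespectsIsoSp P)
    {T : Over S} {𝒜 : BasedCategory.{u, u + 1} (Over S)} (g : 𝒜 ⥤ᵇ FibCat.overCat T)
    (F : AlgSp.Space S) (e : AlgSt.ofSp F.obj ⥤ᵇ 𝒜) (he : FibCat.IsEquivOver e) :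
    AlgSt.RepByAlgSpWith P (FibCat.diag g) ↔
      AlgSp.RepBySpWith P
        (pullback.diagonal (AlgSt.spMapOfOver (BasedFunctor.comp e g))).hom := by
  obtain ⟨a, ⟨θ⟩⟩ := exists_map_of_equiv e (AlgSt.toOverCat T) (toOverCat_isEquivOver T) g
  have ha : a = AlgSt.spMapOfOver (BasedFunctor.comp e g) :=
    (spMapOfOver_ofPshMap_toOverCat a).symm.trans (spMapOfOver_congr θ.hom)
  subst ha
  rw [repByAlgSpWith_diag_of_square P g (AlgSt.ofSpMap _) e (AlgSt.toOverCat T) he
    (toOverCat_isEquivOver T) θ, repByAlgSpWith_diag_ofSpMap_iff]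
  have hPB : AlgSp.IsAlgSpace (pullback (AlgSt.spMapOfOver (BasedFunctor.comp e g))
      (AlgSt.spMapOfOver (BasedFunctor.comp e g))) :=
    isAlgSpace_of_isPullback (AlgSp.IsAlgSpace.yon_obj T).diag F.property F.property _ _ _ _
      (IsPullback.of_hasPullback _ _)
  have hrep : AlgSp.RepBySp
      (pullback.diagonal (AlgSt.spMapOfOver (BasedFunctor.comp e g))).hom :=
    (repBySh_iff _).1 (repBySh_of_isAlgSpace _ F.property hPB.diag)
  exact (repBySpWith_iff_repByAlgSpWith_ofPshMap' P hP _ hrep).symm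

/-- **Dictionary for the diagonal of a functor representable by algebraic spaces.** -/
theorem repByAlgSpWith_diag_iff_forall (P : MorphismProperty (AlgSp.Sp S)) (hP : RespectsIsoSp P)
    (f : 𝒳 ⥤ᵇ 𝒴) (hf : AlgSt.RepByAlgSp1 f) :
    AlgSt.RepByAlgSpWith P (FibCat.diag f) ↔
      ∀ (T : Over S) (y : FibCat.overCat T ⥤ᵇ 𝒴) (F : AlgSp.Space S)
        (e : AlgSt.ofSp F.obj ⥤ᵇ FibCat.fp y f), FibCat.IsEquivOver e →
        AlgSp.RepBySpWith P (pullback.diagonal
          (AlgSt.spMapOfOver (BasedFunctor.comp e (FibCat.fpFst y f)))).hom := by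
  rw [repByAlgSpWith_diag_iff_forall_fpFst]
  constructor
  · intro h T y F e he
    exact (repByAlgSpWith_diag_iff_of_rep P hP (FibCat.fpFst y f) F e he).1 (h T y)
  · intro h T y
    obtain ⟨F, e, he⟩ := hf T y
    exact (repByAlgSpWith_diag_iff_of_rep P hP (FibCat.fpFst y f) F e he).2 (h T y F e he)

end Groth.Agent.Helper2.AlgStLib
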