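import Mathlib
import Groth.Prelude.Def_AlgSt3
import Groth.Agent.Lib.Helper2.AlgSt.RepDiag
import Groth.Agent.Lib.Helper2.AlgSt.PFacts3
import Groth.Agent.Lib.Helper2.AlgSp.Mor2

/-!
# Properties of the diagonal of a functor representable by algebraic spaces (helper2)
-/

set_option autoImplicit false
open CategoryTheory CategoryTheory.Functor CategoryTheory.Limits AlgebraicGeometry Opposite

universe u

namespace Groth.Agent.Helper2.AlgStLib

open Groth.Agent.Helper2 Groth.Agent.Helper2.FibCatLib Groth.Agent.Helper2.StkLib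
open Groth.Agent.Helper2.AlgSpBasic Groth.Agent.Helper2.EtaleLocal

variable {S : Scheme.{u}} {𝒳 𝒴 : BasedCategory.{u, u + 1} (Over S)}

/-! ### Stability under base change -/

theorem stableBC_mono : StableBC (S := S) (MorphismProperty.monomorphisms (AlgSp.Sp S)) := by
  intro X₁ Y₁ X₂ Y₂ _ _ _ _ a b a' b' sq ha
  have : Mono a := ha
  exact (sq.mono_snd_of_mono : Mono a')

theorem stableBC_isSeparatedMor : StableBC (S := S) AlgSp.IsSeparatedMor := by
  intro X₁ Y₁ X₂ Y₂ _ _ _ _ a b a' b' sq ha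
  exact repWith_diagonal_of_isPullback @IsClosedImmersion sq ha

theorem stableBC_isQuasiSeparatedMor : StableBC (S := S) AlgSp.IsQuasiSeparatedMor := by
  intro X₁ Y₁ X₂ Y₂ _ _ _ _ a b a' b' sq ha
  exact repWith_diagonal_of_isPullback @QuasiCompact sq ha

theorem stableBC_isQuasiCompactMor : StableBC (S := S) AlgSp.IsQuasiCompactMor := by
  intro X₁ Y₁ X₂ Y₂ _ _ _ _ a b a' b' sq ha
  exact isQuasiCompactMor_of_isPullback sq ha

theorem stableBC_isUnivClosedMor : StableBC (S := S) AlgSp.IsUnivClosedMor := by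
  intro X₁ Y₁ X₂ Y₂ _ _ _ _ a b a' b' sq ha
  exact univSp_of_isPullback _ sq ha

theorem stableBC_repWith (Q : MorphismProperty Scheme.{u}) :
    StableBC (S := S) (AlgSp.RepWith Q) := by
  intro X₁ Y₁ X₂ Y₂ _ _ _ _ a b a' b' sq ha
  exact repWith_of_isPullback Q sq ha

theorem stableBC_isFiniteTypeMor : StableBC (S := S) AlgSp.IsFiniteTypeMor := by
  intro X₁ Y₁ X₂ Y₂ h1 h2 h3 h4 a b a' b' sq ha
  exact ⟨locP_of_isPullback _ h1 h2 h4 h3 a b b' a' sq ha.1, isQuasiCompactMor_of_isPullback sq ha.2⟩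

theorem cancelSp_mono (P' : MorphismProperty (AlgSp.Sp S)) :
    CancelSp (S := S) (MorphismProperty.monomorphisms (AlgSp.Sp S)) P' := by
  intro X Y Z _ _ _ a b hab _
  have : Mono (a ≫ b) := hab
  exact (mono_of_mono a b : Mono a)

/-! ### The diagonal of a map of algebraic spaces -/

/-- Every base change to a scheme of the diagonal of a map of algebraic spaces has `P`, for `P`
stable under base change, satisfying cancellation and holding for identities. -/
theorem repBySpWith_diagonal_of_cancel (P : MorphismProperty (AlgSp.Sp S)) (hPb : StableBC P)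
    (hc : CancelSp P ⊤) {X Y : AlgSp.Sp S} (hX : AlgSp.IsAlgSpace X)
    (hY : AlgSp.Representable (Limits.diag Y)) (φ : X ⟶ Y) (hid : P (𝟙 X)) :
    AlgSp.RepBySpWith P (pullback.diagonal φ).hom := by
  rw [AlgSp.repBySpWith_hom_iff]
  intro U ξ F' fst snd sq
  have hPP : AlgSp.IsAlgSpace (pullback φ φ) :=
    isAlgSpace_of_isPullback hY hX hX φ φ _ _ (IsPullback.of_hasPullback φ φ)
  have hF' : AlgSp.IsAlgSpace F' :=
    isAlgSpace_of_isPullback hPP.diag hX (AlgSp.IsAlgSpace.yon_obj U) _ ξ fst snd sq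
  have hΔ : P (pullback.diagonal φ) :=
    hc hX hPP hX _ (pullback.fst φ φ) (by rw [pullback.diagonal_fst]; exact hid) trivial
  exact ⟨hF', hPb hX hPP hF' (AlgSp.IsAlgSpace.yon_obj U) _ ξ snd fst sq hΔ⟩

/-- The diagonal of a functor representable by algebraic spaces has every property `P` stable
under base change, satisfying cancellation and holding for identities. -/
theorem repByAlgSpWith_diag_of_cancel (P : MorphismProperty (AlgSp.Sp S)) (hPb : StableBC P)
    (hc : CancelSp P ⊤) (hid : ∀ X : AlgSp.Sp S, AlgSp.IsAlgSpace X → P (𝟙 X)) (f : 𝒳 ⥤ᵇ 𝒴)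
    (hf : AlgSt.RepByAlgSp1 f) : AlgSt.RepByAlgSpWith P (FibCat.diag f) :=
  (repByAlgSpWith_diag_iff_forall P (respectsIsoSp_of_stableBC hPb) f hf).2
    (fun T _ F _ _ => repBySpWith_diagonal_of_cancel P hPb hc F.property
      (AlgSp.IsAlgSpace.yon_obj T).diag _ (hid _ F.property))

/-- The diagonal of a functor representable by algebraic spaces is a monomorphism. -/
theorem isMono_diag (f : 𝒳 ⥤ᵇ 𝒴) (hf : AlgSt.RepByAlgSp1 f) : AlgSt.IsMono (FibCat.diag f) :=
  repByAlgSpWith_diag_of_cancel _ stableBC_mono (cancelSp_mono ⊤)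
    (fun X _ => (inferInstance : Mono (𝟙 X))) f hf

/-- The diagonal of a functor representable by algebraic spaces is unramified. -/
theorem isDMMor_of_repByAlgSp1 (f : 𝒳 ⥤ᵇ 𝒴) (hf : AlgSt.RepByAlgSp1 f) : AlgSt.IsDMMor f :=
  repByAlgSpWith_diag_of_cancel _ (stableBC_locP _) (cancelSp_unramified ⊤)
    (fun _ hX => locP_id _ hX.diag) f hf

/-- Every base change to a scheme of the diagonal of a map of algebraic spaces is a
monomorphism. -/
theorem mono_snd_of_isPullback_diagonal {X Y Z F' : AlgSp.Sp S} (φ : X ⟶ Y)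
    (ξ : Z ⟶ pullback φ φ) (fst : F' ⟶ X) (snd : F' ⟶ Z)
    (sq : IsPullback fst snd (pullback.diagonal φ) ξ) : Mono snd := by
  have : Mono (pullback.diagonal φ) := mono_of_mono_fac (pullback.diagonal_fst φ)
  exact sq.mono_snd_of_mono

/-- The diagonal of a functor representable by algebraic spaces is separated. -/
theorem repByAlgSpWith_isSeparatedMor_diag (f : 𝒳 ⥤ᵇ 𝒴) (hf : AlgSt.RepByAlgSp1 f) :
    AlgSt.RepByAlgSpWith AlgSp.IsSeparatedMor (FibCat.diag f) := by
  refine (repByAlgSpWith_diag_iff_forall _ (respectsIsoSp_of_stableBC stableBC_isSeparatedMor)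
    f hf).2 (fun T y F e he => ?_)
  rw [AlgSp.repBySpWith_hom_iff]
  intro U ξ F' fst snd sq
  have hPP : AlgSp.IsAlgSpace (pullback (AlgSt.spMapOfOver (BasedFunctor.comp e (FibCat.fpFst y f)))
      (AlgSt.spMapOfOver (BasedFunctor.comp e (FibCat.fpFst y f)))) :=
    isAlgSpace_of_isPullback (AlgSp.IsAlgSpace.yon_obj T).diag F.property F.property _ _ _ _
      (IsPullback.of_hasPullback _ _)
  have hF' : AlgSp.IsAlgSpace F' :=
    isAlgSpace_of_isPullback hPP.diag F.property (AlgSp.IsAlgSpace.yon_obj U) _ ξ fst snd sq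
  have : Mono snd := mono_snd_of_isPullback_diagonal _ ξ fst snd sq
  exact ⟨hF', isSeparatedMor_of_mono snd⟩

end Groth.Agent.Helper2.AlgStLib
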