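import Mathlib
import Groth.Prelude.Def_AlgSt3
import Groth.Agent.Lib.Helper2.AlgSt.RepDiagApps
import Groth.Agent.Lib.Helper2.AlgSt.PFacts4
import Groth.Agent.Lib.Helper2.AlgSp.QC
import Groth.Agent.Lib.Helper2.AlgSp.UnivTop

/-!
# Separation of a functor representable by algebraic spaces, read on its diagonal (helper2)
-/

set_option autoImplicit false
open CategoryTheory CategoryTheory.Functor CategoryTheory.Limits AlgebraicGeometry Opposite

universe u

namespace Groth.Agent.Helper2.AlgStLib

open Groth.Agent.Helper2 Groth.Agent.Helper2.FibCatLib Groth.Agent.Helper2.StkLib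
open Groth.Agent.Helper2.AlgSpBasic Groth.Agent.Helper2.EtaleLocal

variable {S : Scheme.{u}} {𝒳 𝒴 : BasedCategory.{u, u + 1} (Over S)}

/-! ### Facts about algebraic spaces -/

/-- A closed immersion of algebraic spaces is proper. -/
theorem isProperMor_of_repWith_isClosedImmersion {A B : AlgSp.Sp S} (hA : AlgSp.IsAlgSpace A)
    (hB : AlgSp.Representable (Limits.diag B)) (m : A ⟶ B)
    (h : AlgSp.RepWith @IsClosedImmersion m) : AlgSp.IsProperMor m := by
  have hm : Mono m := mono_of_repWith_monomorphisms m
    (repWith_mono (fun _ _ g (hg : IsClosedImmersion g) => (inferInstance : Mono g)) h)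
  refine ⟨isSeparatedMor_of_mono m, ⟨?_, ?_⟩, isUnivClosedMor_of_repWith_isClosedImmersion m h⟩
  · exact locP_of_repWith _ hA.diag m
      (repWith_mono (fun _ _ g (hg : IsClosedImmersion g) =>
        (inferInstance : LocallyOfFiniteType g)) h)
  · exact isQuasiCompactMor_of_repWith hA hB m
      (repWith_mono (fun _ _ g (hg : IsClosedImmersion g) => (inferInstance : QuasiCompact g)) h)

/-- A universally closed monomorphism locally of finite type is a closed immersion. -/
theorem isClosedImmersion_of_mono_of_universallyClosed {W T : Scheme.{u}} (w : W ⟶ T) [Mono w]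
    [LocallyOfFiniteType w] [UniversallyClosed w] : IsClosedImmersion w :=
  (IsClosedImmersion.iff_isProper_and_mono w).2 ⟨{}, inferInstance⟩

/-- If every base change to a scheme of the diagonal of a map of algebraic spaces is universally
closed, the diagonal is a closed immersion. -/
theorem repWith_isClosedImmersion_diagonal_of_repBySpWith {X Y : AlgSp.Sp S}
    (hX : AlgSp.IsAlgSpace X) (φ : X ⟶ Y)
    (h : AlgSp.RepBySpWith AlgSp.IsUnivClosedMor (pullback.diagonal φ).hom) :
    AlgSp.RepWith @IsClosedImmersion (pullback.diagonal φ) := by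
  obtain ⟨hrep, hlft, hmono, -, -⟩ := repWith_diagonal_properties hX φ
  rw [AlgSp.repBySpWith_hom_iff] at h
  refine ⟨hrep, fun T W g fst snd sq => ?_⟩
  have h1 : LocallyOfFiniteType snd.left := hlft.property g fst snd sq
  have h2 : Mono snd.left := hmono.property g fst snd sq
  have h3 : AlgSp.IsUnivClosedMor ((AlgSp.yon S).map snd) := (h g fst _ sq).2
  have h4 : UniversallyClosed snd.left :=
    (AlgSp.repWith_yon_map_iff @UniversallyClosed snd).1
      ((repWith_universallyClosed_iff _ (AlgSp.representable_yon_map snd)).2 h3)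
  exact isClosedImmersion_of_mono_of_universallyClosed snd.left

/-- If every base change to a scheme of the diagonal of a map of algebraic spaces is
quasi-compact, the diagonal is quasi-compact in the representable sense. -/
theorem repWith_quasiCompact_diagonal_of_repBySpWith {X Y : AlgSp.Sp S}
    (hX : AlgSp.IsAlgSpace X) (φ : X ⟶ Y)
    (h : AlgSp.RepBySpWith AlgSp.IsQuasiCompactMor (pullback.diagonal φ).hom) :
    AlgSp.RepWith @QuasiCompact (pullback.diagonal φ) := by
  obtain ⟨hrep, -, -, -, -⟩ := repWith_diagonal_properties hX φ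
  rw [AlgSp.repBySpWith_hom_iff] at h
  refine ⟨hrep, fun T W g fst snd sq => ?_⟩
  have h3 : AlgSp.IsQuasiCompactMor ((AlgSp.yon S).map snd) := (h g fst _ sq).2
  exact (AlgSp.repWith_yon_map_iff @QuasiCompact snd).1
    (repWith_quasiCompact_of_isQuasiCompactMor _ (AlgSp.representable_yon_map snd) h3)

/-- The base changes to schemes of a diagonal with a representable property. -/
theorem repBySpWith_repWith_diagonal (Q : MorphismProperty Scheme.{u}) {X Y : AlgSp.Sp S}
    (hX : AlgSp.IsAlgSpace X) (hY : AlgSp.Representable (Limits.diag Y)) (φ : X ⟶ Y)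
    (h : AlgSp.RepWith Q (pullback.diagonal φ)) :
    AlgSp.RepBySpWith (AlgSp.RepWith Q) (pullback.diagonal φ).hom := by
  rw [AlgSp.repBySpWith_hom_iff]
  intro U ξ F' fst snd sq
  have hPP : AlgSp.IsAlgSpace (pullback φ φ) :=
    isAlgSpace_of_isPullback hY hX hX φ φ _ _ (IsPullback.of_hasPullback φ φ)
  have hF' : AlgSp.IsAlgSpace F' :=
    isAlgSpace_of_isPullback hPP.diag hX (AlgSp.IsAlgSpace.yon_obj U) _ ξ fst snd sq
  exact ⟨hF', repWith_of_isPullback Q sq h⟩

end Groth.Agent.Helper2.AlgStLib
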