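import Mathlib
import Groth.Prelude.Def_AlgSt2
import Groth.Agent.Lib.Helper2.AlgSt.Comp

/-!
# Composition of morphisms representable by algebraic spaces with a property that is detected on
base changes to schemes (helper2)
-/

set_option autoImplicit false
open CategoryTheory CategoryTheory.Functor CategoryTheory.Limits AlgebraicGeometry Opposite

universe u

namespace Groth.Agent.Helper2.AlgStLib

open Groth.Agent.Helper2 Groth.Agent.Helper2.FibCatLib Groth.Agent.Helper2.StkLib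
open Groth.Agent.Helper2.AlgSpBasic

variable {S : Scheme.{u}}

/-- `P` holds for a morphism of algebraic spaces as soon as it holds for all its base changes to
schemes. -/
def OfSchemeBC (P : MorphismProperty (AlgSp.Sp S)) : Prop :=
  ∀ ⦃F G : AlgSp.Sp S⦄ (a : F ⟶ G), AlgSp.IsAlgSpace F → AlgSp.IsAlgSpace G →
    (∀ ⦃U : Over S⦄ (ξ : (AlgSp.yon S).obj U ⟶ G) ⦃F' : AlgSp.Sp S⦄ (fst : F' ⟶ F)
      (snd : F' ⟶ (AlgSp.yon S).obj U), IsPullback fst snd a ξ → AlgSp.IsAlgSpace F' ∧ P snd) →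
    P a

/-- Properties local on the base for fppf coverings are detected on scheme base changes. -/
theorem ofSchemeBC_of_isLocalOnBase {P : MorphismProperty (AlgSp.Sp S)}
    (hP : AlgSp.IsLocalOnBase AlgSp.IsFppfCover P) : OfSchemeBC P := by
  intro F G a₀ hFalg hG hwith'
  obtain ⟨V, p, hpe, hps⟩ := hG.atlas
  have sq := IsPullback.of_hasPullback a₀ p
  obtain ⟨hX₁, hPsnd⟩ := hwith' p _ _ sq
  exact (hP (fun _ : PUnit.{u + 1} => (AlgSp.yon S).obj V) (fun _ => p) hG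
    (fun _ => AlgSp.IsAlgSpace.yon_obj V) (isFppfCover_atlas p hpe hps) a₀ hFalg
    (fun _ => pullback a₀ p) (fun _ => pullback.snd a₀ p) (fun _ => pullback.fst a₀ p)
    (fun _ => hX₁) (fun _ => sq)).2 (fun _ => hPsnd)

variable {𝒳 𝒴 𝒵 : BasedCategory.{u, u + 1} (Over S)}

/-- Variant of `exists_rep_fp_of_space` for properties detected on scheme base changes. -/
theorem exists_rep_fp_of_space_bc (h𝒳 : FibCat.IsFibGrpd 𝒳.p) (h𝒴 : FibCat.IsFibGrpd 𝒴.p)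
    (P : MorphismProperty (AlgSp.Sp S)) (hPb : StableBC P)
    (hP : OfSchemeBC P) (f : 𝒳 ⥤ᵇ 𝒴)
    (hf : AlgSt.RepByAlgSpWith P f) (G : AlgSp.Space S) (w : AlgSt.ofSp G.obj ⥤ᵇ 𝒴) :
    ∃ (F : AlgSp.Space S) (e : AlgSt.ofSp F.obj ⥤ᵇ FibCat.fp w f), FibCat.IsEquivOver e ∧
      P (ObjectProperty.homMk (mapOfFunctor (BasedFunctor.comp e (FibCat.fpFst w f))) :
        F.obj ⟶ G.obj) := by
  have hf1 : AlgSt.RepByAlgSp1 f := fun U y => by
    obtain ⟨F, e, he, -⟩ := hf U y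
    exact ⟨F, e, he⟩
  obtain ⟨F, e, he⟩ := exists_psh_of_fp h𝒳 h𝒴 f hf1 G.obj w
  have hW := exists_map_of_fp P f hf G.obj w F e he
  have hW1 : AlgSt.RepByAlgSp1
      (Stk.ofPshMap (mapOfFunctor (BasedFunctor.comp e (FibCat.fpFst w f)))) := fun U y => by
    obtain ⟨F, e, he, -⟩ := hW U y
    exact ⟨F, e, he⟩
  have hrep := (repBySp_iff_repByAlgSp1_ofPshMap _).2 hW1
  obtain ⟨hF, hFalg⟩ := isAlgSpaceP_of_repBySp _ hrep
    ((AlgSp.isAlgSpaceP_obj_iff G.obj).2 G.property)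
  have hwith := (repBySpWith_iff_repByAlgSpWith_ofPshMap' P (respectsIsoSp_of_stableBC hPb) _
    hrep).2 hW
  refine ⟨⟨⟨F, hF⟩, hFalg⟩, e, he, ?_⟩
  let a₀ : (⟨F, hF⟩ : AlgSp.Sp S) ⟶ G.obj :=
    ObjectProperty.homMk (mapOfFunctor (BasedFunctor.comp e (FibCat.fpFst w f)))
  have hwith' := (AlgSp.repBySpWith_hom_iff P a₀).1 hwith
  exact hP a₀ hFalg G.property hwith'

theorem repByAlgSpWith_comp_bc (h𝒳 : FibCat.IsFibGrpd 𝒳.p) (h𝒴 : FibCat.IsFibGrpd 𝒴.p)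
    (P : MorphismProperty (AlgSp.Sp S)) (hPb : StableBC P) (hPc : StableComp P)
    (hP : OfSchemeBC P) (f : 𝒳 ⥤ᵇ 𝒴) (g : 𝒴 ⥤ᵇ 𝒵)
    (hf : AlgSt.RepByAlgSpWith P f) (hg : AlgSt.RepByAlgSpWith P g) :
    AlgSt.RepByAlgSpWith P (BasedFunctor.comp f g) := by
  intro U z
  obtain ⟨G, eG, heG, hPG⟩ := hg U z
  let w : AlgSt.ofSp G.obj ⥤ᵇ 𝒴 := BasedFunctor.comp eG (FibCat.fpSnd z g)
  obtain ⟨F, eF, heF, hPF⟩ := exists_rep_fp_of_space_bc h𝒳 h𝒴 P hPb hP f hf G w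
  obtain ⟨Φ, hΦ, hΦ1, -⟩ := exists_equiv_fp_left w (FibCat.fpSnd z g) f eG heG (Iso.refl _)
  let E : AlgSt.ofSp F.obj ⥤ᵇ FibCat.fp z (BasedFunctor.comp f g) :=
    BasedFunctor.comp (BasedFunctor.comp eF Φ) (Paste.pasteA z g f)
  refine ⟨F, E, ReprInv.isEquivOver_comp (ReprInv.isEquivOver_comp heF hΦ)
    (Paste.pasteA_isEquivOver z g f), ?_⟩
  have h1 : BasedFunctor.comp E (FibCat.fpFst z (BasedFunctor.comp f g)) =
      BasedFunctor.comp (BasedFunctor.comp eF (FibCat.fpFst w f))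
        (BasedFunctor.comp eG (FibCat.fpFst z g)) := by
    change BasedFunctor.comp eF (BasedFunctor.comp
      (BasedFunctor.comp Φ (FibCat.fpFst (FibCat.fpSnd z g) f)) (FibCat.fpFst z g)) = _
    rw [hΦ1]
    rfl
  rw [h1, spMapOfOver_comp]
  exact hPc F.property G.property (AlgSp.IsAlgSpace.yon_obj U) _ _ hPF hPG

end Groth.Agent.Helper2.AlgStLib
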