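import Mathlib
import Groth.Prelude.Def_AlgSt2
import Groth.Agent.Lib.Helper2.AlgSt.CompRep

/-!
# Affine, integral and finite morphisms of algebraic spaces: base change, composition and
detection on scheme base changes (helper2)
-/

set_option autoImplicit false
open CategoryTheory CategoryTheory.Functor CategoryTheory.Limits AlgebraicGeometry Opposite

universe u

namespace Groth.Agent.Helper2.AlgStLib

open Groth.Agent.Helper2 Groth.Agent.Helper2.FibCatLib Groth.Agent.Helper2.StkLib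
open Groth.Agent.Helper2.AlgSpBasic AlgSp

variable {S : Scheme.{u}}

/-- Morphisms of sheaves whose base changes to affine schemes are affine schemes with `Q`. -/
def AffRep (Q : MorphismProperty Scheme.{u}) : MorphismProperty (Sp S) := fun F G f =>
  ∀ ⦃Z : Over S⦄, IsAffine Z.left → ∀ (g : (yon S).obj Z ⟶ G),
    ∃ (W : Over S) (i : W ⟶ Z) (fst : (yon S).obj W ⟶ F),
      IsPullback fst ((yon S).map i) f g ∧ IsAffine W.left ∧ Q i.left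

theorem isAffineMor_iff_affRep {F G : Sp S} (f : F ⟶ G) :
    IsAffineMor f ↔ AffRep (⊤ : MorphismProperty Scheme.{u}) f := by
  constructor
  · intro h Z hZ g
    obtain ⟨W, i, fst, sq, hW⟩ := h hZ g
    exact ⟨W, i, fst, sq, hW, trivial⟩
  · intro h Z hZ g
    obtain ⟨W, i, fst, sq, hW, -⟩ := h hZ g
    exact ⟨W, i, fst, sq, hW⟩

theorem isAffineMor_eq_affRep :
    (IsAffineMor : MorphismProperty (Sp S)) = AffRep (⊤ : MorphismProperty Scheme.{u}) := by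
  ext F G f
  exact isAffineMor_iff_affRep f

theorem isIntegralMor_eq_affRep :
    (IsIntegralMor : MorphismProperty (Sp S)) = AffRep @IsIntegralHom := rfl

theorem isFiniteMor_eq_affRep :
    (IsFiniteMor : MorphismProperty (Sp S)) = AffRep @IsFinite := rfl

theorem stableBC_affRep (Q : MorphismProperty Scheme.{u}) : StableBC (S := S) (AffRep Q) := by
  intro X₁ Y₁ X₂ Y₂ _ _ _ _ a b a' b' sq ha Z hZ g
  obtain ⟨W, i, fst, hsq, hW, hQ⟩ := ha hZ (g ≫ b)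
  let l : (yon S).obj W ⟶ X₂ := sq.lift fst ((yon S).map i ≫ g) (by rw [hsq.w, Category.assoc])
  have hl1 : l ≫ b' = fst := sq.lift_fst _ _ _
  have hl2 : l ≫ a' = (yon S).map i ≫ g := sq.lift_snd _ _ _
  refine ⟨W, i, l, ?_, hW, hQ⟩
  rw [← hl1] at hsq
  exact IsPullback.of_right hsq hl2 sq

theorem stableComp_affRep (Q : MorphismProperty Scheme.{u}) [Q.IsStableUnderComposition] :
    StableComp (S := S) (AffRep Q) := by
  intro X Y Z' _ _ _ a b ha hb T hT g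
  obtain ⟨W, i, fst, hsq, hW, hQi⟩ := hb hT g
  obtain ⟨W', i', fst', hsq', hW', hQi'⟩ := ha hW fst
  refine ⟨W', i' ≫ i, fst', ?_, hW', ?_⟩
  · rw [Functor.map_comp]
    exact hsq'.paste_vert hsq
  · rw [Over.comp_left]
    exact Q.comp_mem _ _ hQi' hQi

theorem ofSchemeBC_affRep (Q : MorphismProperty Scheme.{u}) : OfSchemeBC (S := S) (AffRep Q) := by
  intro F G a _ _ h Z hZ g
  have sq := IsPullback.of_hasPullback a g
  obtain ⟨-, haff⟩ := h g _ _ sq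
  obtain ⟨W, i, fst₂, hsq₂, hW, hQ⟩ := haff hZ (𝟙 _)
  refine ⟨W, i, fst₂ ≫ pullback.fst a g, ?_, hW, hQ⟩
  have := hsq₂.paste_horiz sq
  rwa [Category.id_comp] at this

variable {𝒳 𝒴 𝒵 : BasedCategory.{u, u + 1} (Over S)}

theorem repByAlgSpWith_affRep_comp (Q : MorphismProperty Scheme.{u}) [Q.IsStableUnderComposition]
    (h𝒳 : FibCat.IsFibGrpd 𝒳.p) (h𝒴 : FibCat.IsFibGrpd 𝒴.p) (f : 𝒳 ⥤ᵇ 𝒴) (g : 𝒴 ⥤ᵇ 𝒵)
    (hf : AlgSt.RepByAlgSpWith (AffRep Q) f) (hg : AlgSt.RepByAlgSpWith (AffRep Q) g) :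
    AlgSt.RepByAlgSpWith (AffRep Q) (BasedFunctor.comp f g) :=
  repByAlgSpWith_comp_bc h𝒳 h𝒴 _ (stableBC_affRep Q) (stableComp_affRep Q) (ofSchemeBC_affRep Q)
    f g hf hg

theorem repByAlgSpWith_isAffineMor_comp
    (h𝒳 : FibCat.IsFibGrpd 𝒳.p) (h𝒴 : FibCat.IsFibGrpd 𝒴.p) (f : 𝒳 ⥤ᵇ 𝒴) (g : 𝒴 ⥤ᵇ 𝒵)
    (hf : AlgSt.RepByAlgSpWith IsAffineMor f) (hg : AlgSt.RepByAlgSpWith IsAffineMor g) :
    AlgSt.RepByAlgSpWith IsAffineMor (BasedFunctor.comp f g) := by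
  rw [isAffineMor_eq_affRep] at hf hg ⊢
  exact repByAlgSpWith_affRep_comp _ h𝒳 h𝒴 f g hf hg

theorem repByAlgSpWith_isIntegralMor_comp
    (h𝒳 : FibCat.IsFibGrpd 𝒳.p) (h𝒴 : FibCat.IsFibGrpd 𝒴.p) (f : 𝒳 ⥤ᵇ 𝒴) (g : 𝒴 ⥤ᵇ 𝒵)
    (hf : AlgSt.RepByAlgSpWith IsIntegralMor f) (hg : AlgSt.RepByAlgSpWith IsIntegralMor g) :
    AlgSt.RepByAlgSpWith IsIntegralMor (BasedFunctor.comp f g) :=
  repByAlgSpWith_affRep_comp @IsIntegralHom h𝒳 h𝒴 f g hf hg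

theorem repByAlgSpWith_isFiniteMor_comp
    (h𝒳 : FibCat.IsFibGrpd 𝒳.p) (h𝒴 : FibCat.IsFibGrpd 𝒴.p) (f : 𝒳 ⥤ᵇ 𝒴) (g : 𝒴 ⥤ᵇ 𝒵)
    (hf : AlgSt.RepByAlgSpWith IsFiniteMor f) (hg : AlgSt.RepByAlgSpWith IsFiniteMor g) :
    AlgSt.RepByAlgSpWith IsFiniteMor (BasedFunctor.comp f g) :=
  repByAlgSpWith_affRep_comp @IsFinite h𝒳 h𝒴 f g hf hg

end Groth.Agent.Helper2.AlgStLib
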