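import Mathlib
import Groth.Prelude.Def_AlgSt2
import Groth.Agent.Lib.Helper2.AlgSt.FromSpace
import Groth.Agent.Lib.Helper2.AlgSt.Rep
import Groth.Agent.Lib.Helper2.FibCat.Paste

/-!
# Cancellation for morphisms representable by algebraic spaces (helper2)
-/

set_option autoImplicit false
open CategoryTheory CategoryTheory.Functor CategoryTheory.Limits AlgebraicGeometry Opposite

universe u

namespace Groth.Agent.Helper2.AlgStLib

open Groth.Agent.Helper2 Groth.Agent.Helper2.FibCatLib Groth.Agent.Helper2.StkLib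

variable {S : Scheme.{u}} {𝒳 𝒴 𝒵 : BasedCategory.{u, u + 1} (Over S)}

/-- The 2-fibre product of a category representable by an algebraic space with a morphism
representable by algebraic spaces is representable by an algebraic space. -/
theorem repByAlgSp_fp_of_repByAlgSp (h𝒳 : FibCat.IsFibGrpd 𝒳.p) (h𝒴 : FibCat.IsFibGrpd 𝒴.p)
    (f : 𝒳 ⥤ᵇ 𝒴) (g : 𝒵 ⥤ᵇ 𝒴) (hf : AlgSt.RepByAlgSp1 f) (hZ : AlgSt.RepByAlgSp 𝒵) :
    AlgSt.RepByAlgSp (FibCat.fp g f) := by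
  obtain ⟨G, eG, heG⟩ := hZ
  have h1 : AlgSt.RepByAlgSp (FibCat.fp (BasedFunctor.comp eG g) f) :=
    repByAlgSp_fp_of_space h𝒳 h𝒴 f hf G (BasedFunctor.comp eG g)
  obtain ⟨Φ, hΦ, -, -⟩ := exists_equiv_fp_left (BasedFunctor.comp eG g) g f eG heG (Iso.refl _)
  exact repByAlgSp_of_isEquivOver Φ hΦ h1

/-- If `j` and `x ⋙ j` are representable by algebraic spaces, for `x` a functor from a scheme,
then `x` is representable by algebraic spaces. -/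
theorem repByAlgSp1_of_comp_of_repByAlgSp1 (h𝒳 : FibCat.IsFibGrpd 𝒳.p)
    (h𝒴 : FibCat.IsFibGrpd 𝒴.p) (j : 𝒳 ⥤ᵇ 𝒴) (hj : AlgSt.RepByAlgSp1 j) {U : Over S}
    (x : FibCat.overCat U ⥤ᵇ 𝒳) (hxj : AlgSt.RepByAlgSp1 (BasedFunctor.comp x j)) :
    AlgSt.RepByAlgSp1 x := by
  intro T y
  have hfU : FibCat.IsFibGrpd (FibCat.overCat U).p := isFibGrpd_overCat U
  have hfT : FibCat.IsFibGrpd (FibCat.overCat T).p := isFibGrpd_overCat T
  let xj : FibCat.overCat U ⥤ᵇ 𝒴 := BasedFunctor.comp x j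
  -- the fibre product `𝒳 ×_𝒴 U` and its section
  let π' : FibCat.fp j xj ⥤ᵇ 𝒳 := FibCat.fpFst j xj
  let σ' : FibCat.overCat U ⥤ᵇ FibCat.fp j xj :=
    FibCat.fpLift x (BasedFunctor.id (FibCat.overCat U)) (Iso.refl _)
  have hfW : FibCat.IsFibGrpd (FibCat.fp j xj).p := isFibGrpd_fp j xj h𝒳 hfU h𝒴
  have hW : AlgSt.RepByAlgSp (FibCat.fp j xj) :=
    repByAlgSp_of_isEquivOver (FpSwap.fpSwap xj j) (FpSwap.fpSwap_isEquivOver xj j) (hj U xj)
  -- `T ×_𝒳 (𝒳 ×_𝒴 U) ≃ T ×_𝒴 U`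
  have hA : AlgSt.RepByAlgSp (FibCat.fp y π') := by
    obtain ⟨Ψ, hΨ, -, -⟩ := isEquivOver_inverse (Paste.pasteB_isEquivOver y j xj)
    exact repByAlgSp_of_isEquivOver Ψ hΨ (hxj T (BasedFunctor.comp y j))
  have hfA : FibCat.IsFibGrpd (FibCat.fp y π').p := isFibGrpd_fp y π' hfT hfW h𝒳
  have hσ : AlgSt.RepByAlgSp1 σ' := repByAlgSp1_of_repByAlgSp (repByAlgSp_overCat U) hW σ'
  have h1 : AlgSt.RepByAlgSp (FibCat.fp (FibCat.fpSnd y π') σ') :=
    repByAlgSp_fp_of_repByAlgSp hfU hfW σ' (FibCat.fpSnd y π') hσ hA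
  exact repByAlgSp_of_isEquivOver (Paste.pasteA y π' σ') (Paste.pasteA_isEquivOver y π' σ') h1

end Groth.Agent.Helper2.AlgStLib
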