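import Mathlib
import Groth.Prelude.Def_AlgSt2
import Groth.Agent.Lib.Helper2.AlgSt.PFacts
import Groth.Agent.Lib.Helper2.AlgSt.Cancel

/-!
# Atlases along morphisms representable by algebraic spaces (helper2)
-/

set_option autoImplicit false
open CategoryTheory CategoryTheory.Functor CategoryTheory.Limits AlgebraicGeometry Opposite

universe u

namespace Groth.Agent.Helper2.AlgStLib

open Groth.Agent.Helper2 Groth.Agent.Helper2.FibCatLib Groth.Agent.Helper2.StkLib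

variable {S : Scheme.{u}} {𝒳 𝒴 : BasedCategory.{u, u + 1} (Over S)}

/-- Composition of morphisms that are smooth and surjective. -/
theorem smooth_surjective_comp {𝒵 : BasedCategory.{u, u + 1} (Over S)}
    (h𝒳 : FibCat.IsFibGrpd 𝒳.p) (h𝒴 : FibCat.IsFibGrpd 𝒴.p) (f : 𝒳 ⥤ᵇ 𝒴) (g : 𝒴 ⥤ᵇ 𝒵)
    (hf : AlgSt.RepByAlgSpWith (AlgSp.LocP @Smooth) f ∧
      AlgSt.RepByAlgSpWith AlgSp.IsSurjectiveMor f)
    (hg : AlgSt.RepByAlgSpWith (AlgSp.LocP @Smooth) g ∧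
      AlgSt.RepByAlgSpWith AlgSp.IsSurjectiveMor g) :
    AlgSt.RepByAlgSpWith (AlgSp.LocP @Smooth) (BasedFunctor.comp f g) ∧
      AlgSt.RepByAlgSpWith AlgSp.IsSurjectiveMor (BasedFunctor.comp f g) :=
  ⟨repByAlgSpWith_comp h𝒳 h𝒴 _ (stableBC_locP @Smooth) (stableComp_locP @Smooth)
      isLocalOnBase_fppf_locP_smooth f g hf.1 hg.1,
    repByAlgSpWith_comp h𝒳 h𝒴 _ stableBC_isSurjectiveMor stableComp_isSurjectiveMor
      isLocalOnBase_fppf_isSurjectiveMor f g hf.2 hg.2⟩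

/-- A smooth surjective atlas of `𝒴` induces one of `𝒳` when `𝒳 ⟶ 𝒴` is representable by
algebraic spaces. -/
theorem hasAtlas_smooth_of_repByAlgSp1 (h𝒳 : FibCat.IsFibGrpd 𝒳.p) (h𝒴 : FibCat.IsFibGrpd 𝒴.p)
    (j : 𝒳 ⥤ᵇ 𝒴) (hj : AlgSt.RepByAlgSp1 j) (h : AlgSt.HasAtlas (AlgSp.LocP @Smooth) 𝒴) :
    AlgSt.HasAtlas (AlgSp.LocP @Smooth) 𝒳 := by
  obtain ⟨U, u, hu1, hu2⟩ := h
  obtain ⟨F, eF, heF⟩ := hj U u
  let eF' : AlgSt.ofSp F.obj ⥤ᵇ FibCat.fp j u := BasedFunctor.comp eF (FpSwap.fpSwap u j)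
  have heF' : FibCat.IsEquivOver eF' :=
    ReprInv.isEquivOver_comp heF (FpSwap.fpSwap_isEquivOver u j)
  let g : AlgSt.ofSp F.obj ⥤ᵇ 𝒳 := BasedFunctor.comp eF' (FibCat.fpFst j u)
  have hg : ∀ P : MorphismProperty (AlgSp.Sp S), AlgSt.RepByAlgSpWith P u →
      AlgSt.RepByAlgSpWith P g := by
    intro P hu
    have hπ : AlgSt.RepByAlgSpWith P (FibCat.fpFst j u) := repByAlgSpWith_fpFst P u j hu
    exact (repByAlgSpWith_of_square P (FibCat.fpFst j u) g eF' (BasedFunctor.id 𝒳) heF'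
      ReprInv.isEquivOver_id (Iso.refl _)).1 hπ
  obtain ⟨V, x₀, hx1, hx2⟩ := (hasAtlas_ofSp F).2
  have := smooth_surjective_comp (isFibGrpd_overCat V) (Stk.isFibGrpd_ofPsh F.obj.obj) x₀ g
    ⟨hx1, hx2⟩ ⟨hg _ hu1, hg _ hu2⟩
  exact ⟨V, BasedFunctor.comp x₀ g, this.1, this.2⟩

end Groth.Agent.Helper2.AlgStLib
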