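import Mathlib
import Groth.Prelude.Def_AlgSt2
import Groth.Prelude.Def_AlgSpEt
import Groth.Agent.Lib.Helper2.AlgSt.RelDiag

/-!
# Composition with locality only along étale atlases (helper2)

The composition lemma for morphisms representable by algebraic spaces with a property uses the
locality of the property only along an étale atlas of an algebraic space.  We isolate this
hypothesis, which follows from locality for étale coverings as well as for fppf coverings.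
-/

set_option autoImplicit false
open CategoryTheory CategoryTheory.Functor CategoryTheory.Limits AlgebraicGeometry Opposite

universe u

namespace Groth.Agent.Helper2.AlgStLib

open Groth.Agent.Helper2 Groth.Agent.Helper2.FibCatLib Groth.Agent.Helper2.StkLib
open Groth.Agent.Helper2.AlgSpBasic Groth.Agent.Helper2.EtaleLocal

variable {S : Scheme.{u}}

/-- Locality of a property along étale atlases of algebraic spaces. -/
def AtlasLocal (P : MorphismProperty (AlgSp.Sp S)) : Prop :=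
  ∀ ⦃G : AlgSp.Sp S⦄, AlgSp.IsAlgSpace G → ∀ (V : Over S) (p : (AlgSp.yon S).obj V ⟶ G),
    AlgSp.RepWith @Etale p → AlgSp.RepWith @Surjective p →
    ∀ ⦃F : AlgSp.Sp S⦄ (a₀ : F ⟶ G), AlgSp.IsAlgSpace F →
    ∀ (X₁ : AlgSp.Sp S) (snd : X₁ ⟶ (AlgSp.yon S).obj V) (fst : X₁ ⟶ F), AlgSp.IsAlgSpace X₁ →
      IsPullback fst snd a₀ p → P snd → P a₀

theorem atlasLocal_of_fppf {P : MorphismProperty (AlgSp.Sp S)}
    (hP : AlgSp.IsLocalOnBase AlgSp.IsFppfCover P) : AtlasLocal P := by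
  intro G hG V p hpe hps F a₀ hF X₁ snd fst hX₁ sq hPsnd
  exact (hP (fun _ : PUnit.{u + 1} => (AlgSp.yon S).obj V) (fun _ => p) hG
    (fun _ => AlgSp.IsAlgSpace.yon_obj V) (isFppfCover_atlas p hpe hps) a₀ hF
    (fun _ => X₁) (fun _ => snd) (fun _ => fst)
    (fun _ => hX₁) (fun _ => sq)).2 (fun _ => hPsnd)

/-- An étale atlas is an étale covering. -/
theorem isEtCover_atlas {G : AlgSp.Sp S} {V : Over S} (p : (AlgSp.yon S).obj V ⟶ G)
    (hpe : AlgSp.RepWith @Etale p) (hps : AlgSp.RepWith @Surjective p) :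
    AlgSp.IsEtCover (fun _ : PUnit.{u + 1} => (AlgSp.yon S).obj V) (fun _ => p) := by
  refine ⟨fun _ => AlgSp.isEtaleMor_of_repWith p hpe, fun x => ⟨PUnit.unit, ?_⟩⟩
  exact isSurjectiveMor_of_repWith_surjective p hps x

theorem atlasLocal_of_et {P : MorphismProperty (AlgSp.Sp S)}
    (hP : AlgSp.IsLocalOnBase AlgSp.IsEtCover P) : AtlasLocal P := by
  intro G hG V p hpe hps F a₀ hF X₁ snd fst hX₁ sq hPsnd
  exact (hP (fun _ : PUnit.{u + 1} => (AlgSp.yon S).obj V) (fun _ => p) hG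
    (fun _ => AlgSp.IsAlgSpace.yon_obj V) (isEtCover_atlas p hpe hps) a₀ hF
    (fun _ => X₁) (fun _ => snd) (fun _ => fst)
    (fun _ => hX₁) (fun _ => sq)).2 (fun _ => hPsnd)

section K'

variable {𝒳 𝒴 𝒵 : BasedCategory.{u, u + 1} (Over S)}

/-- Base change of a morphism representable by algebraic spaces with `P` along a functor from the
category of an algebraic space, with locality only along atlases. -/
theorem exists_rep_fp_of_space' (h𝒳 : FibCat.IsFibGrpd 𝒳.p) (h𝒴 : FibCat.IsFibGrpd 𝒴.p)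
    (P : MorphismProperty (AlgSp.Sp S)) (hPb : StableBC P)
    (hP : AtlasLocal P) (f : 𝒳 ⥤ᵇ 𝒴)
    (hf : AlgSt.RepByAlgSpWith P f) (G : AlgSp.Space S) (w : AlgSt.ofSp G.obj ⥤ᵇ 𝒴) :
    ∃ (F : AlgSp.Space S) (e : AlgSt.ofSp F.obj ⥤ᵇ FibCat.fp w f), FibCat.IsEquivOver e ∧
      P (ObjectProperty.homMk (mapOfFunctor (BasedFunctor.comp e (FibCat.fpFst w f))) :
        F.obj ⟶ G.obj) := by
  have hf1 : AlgSt.RepByAlgSp1 f := fun U y => by
    obtain ⟨F, e, he, -⟩ := hf U y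
    exact ⟨F, e, he⟩
  obtain ⟨F, e, he⟩ := exists_psh_of_fp h𝒳 h𝒴 f hf1 G.obj w
  have hW := exists_map_of_fp P f hf G.obj w F e he
  have hW1 : AlgSt.RepByAlgSp1
      (Stk.ofPshMap (mapOfFunctor (BasedFunctor.comp e (FibCat.fpFst w f)))) := fun U y => by
    obtain ⟨F, e, he, -⟩ := hW U y
    exact ⟨F, e, he⟩
  have hrep := (repBySp_iff_repByAlgSp1_ofPshMap _).2 hW1
  obtain ⟨hF, hFalg⟩ := isAlgSpaceP_of_repBySp _ hrep
    ((AlgSp.isAlgSpaceP_obj_iff G.obj).2 G.property)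
  have hwith := (repBySpWith_iff_repByAlgSpWith_ofPshMap' P (respectsIsoSp_of_stableBC hPb) _
    hrep).2 hW
  refine ⟨⟨⟨F, hF⟩, hFalg⟩, e, he, ?_⟩
  let a₀ : (⟨F, hF⟩ : AlgSp.Sp S) ⟶ G.obj :=
    ObjectProperty.homMk (mapOfFunctor (BasedFunctor.comp e (FibCat.fpFst w f)))
  have hwith' := (AlgSp.repBySpWith_hom_iff P a₀).1 hwith
  obtain ⟨V, p, hpe, hps⟩ := G.property.atlas
  have sq := IsPullback.of_hasPullback a₀ p
  obtain ⟨hX₁, hPsnd⟩ := hwith' p _ _ sq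
  exact hP G.property V p hpe hps a₀ hFalg (pullback a₀ p) (pullback.snd a₀ p)
    (pullback.fst a₀ p) hX₁ sq hPsnd

theorem repByAlgSpWith_comp' (h𝒳 : FibCat.IsFibGrpd 𝒳.p) (h𝒴 : FibCat.IsFibGrpd 𝒴.p)
    (P : MorphismProperty (AlgSp.Sp S)) (hPb : StableBC P) (hPc : StableComp P)
    (hP : AtlasLocal P) (f : 𝒳 ⥤ᵇ 𝒴) (g : 𝒴 ⥤ᵇ 𝒵)
    (hf : AlgSt.RepByAlgSpWith P f) (hg : AlgSt.RepByAlgSpWith P g) :
    AlgSt.RepByAlgSpWith P (BasedFunctor.comp f g) := by
  intro U z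
  obtain ⟨G, eG, heG, hPG⟩ := hg U z
  let w : AlgSt.ofSp G.obj ⥤ᵇ 𝒴 := BasedFunctor.comp eG (FibCat.fpSnd z g)
  obtain ⟨F, eF, heF, hPF⟩ := exists_rep_fp_of_space' h𝒳 h𝒴 P hPb hP f hf G w
  obtain ⟨Φ, hΦ, hΦ1, -⟩ := exists_equiv_fp_left w (FibCat.fpSnd z g) f eG heG (Iso.refl _)
  let E : AlgSt.ofSp F.obj ⥤ᵇ FibCat.fp z (BasedFunctor.comp f g) :=
    BasedFunctor.comp (BasedFunctor.comp eF Φ) (Paste.pasteA z g f)
  refine ⟨F, E, ReprInv.isEquivOver_comp (ReprInv.isEquivOver_comp heF hΦ)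
    (Paste.pasteA_isEquivOver z g f), ?_⟩
  have h1 : BasedFunctor.comp E (FibCat.fpFst z (BasedFunctor.comp f g)) =
      BasedFunctor.comp (BasedFunctor.comp eF (FibCat.fpFst w f))
        (BasedFunctor.comp eG (FibCat.fpFst z g)) := by
    change BasedFunctor.comp eF (BasedFunctor.comp
      (BasedFunctor.comp Φ (FibCat.fpFst (FibCat.fpSnd z g) f)) (FibCat.fpFst z g)) = _
    rw [hΦ1]
    rfl
  rw [h1, spMapOfOver_comp]
  exact hPc F.property G.property (AlgSp.IsAlgSpace.yon_obj U) _ _ hPF hPG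

/-- The diagonal of a composite has `P` as soon as the diagonals of both functors have `P`. -/
theorem repByAlgSpWith_diag_comp' (h𝒳 : FibCat.IsFibGrpd 𝒳.p) (h𝒴 : FibCat.IsFibGrpd 𝒴.p)
    (P : MorphismProperty (AlgSp.Sp S)) (hPb : StableBC P) (hPc : StableComp P)
    (hP : AtlasLocal P) (f : 𝒳 ⥤ᵇ 𝒴) (g : 𝒴 ⥤ᵇ 𝒵)
    (hf : AlgSt.RepByAlgSpWith P (FibCat.diag f)) (hg : AlgSt.RepByAlgSpWith P (FibCat.diag g)) :
    AlgSt.RepByAlgSpWith P (FibCat.diag (BasedFunctor.comp f g)) := by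
  have hc : AlgSt.RepByAlgSpWith P (Magic.canon f f g) := repByAlgSpWith_canon P f f g hg
  have hff : FibCat.IsFibGrpd (FibCat.fp f f).p := isFibGrpd_fp f f h𝒳 h𝒳 h𝒴
  have h1 := repByAlgSpWith_comp' h𝒳 hff P hPb hPc hP (FibCat.diag f) (Magic.canon f f g) hf hc
  exact (repByAlgSpWith_congr P (Magic.diagCompIso f g)).1 h1

end K'

end Groth.Agent.Helper2.AlgStLib
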