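import Mathlib
import Groth.Prelude.Def_AlgSt3
import Groth.Agent.Lib.Helper2.AlgSt.RelDiag
import Groth.Agent.Lib.Helper2.AlgSt.PFacts3
import Groth.Agent.Lib.Helper2.AlgSt.Atlas
import Groth.Agent.Lib.Helper2.FibCat.OverFun

/-!
# Local lifting along fppf coverings of stacks (helper2)
-/

set_option autoImplicit false
open CategoryTheory CategoryTheory.Functor CategoryTheory.Limits AlgebraicGeometry Opposite

universe u

namespace Groth.Agent.Helper2.AlgStLib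

open Groth.Agent.Helper2 Groth.Agent.Helper2.FibCatLib Groth.Agent.Helper2.StkLib
open Groth.Agent.Helper2.AlgSpBasic Groth.Agent.Helper2.EtaleLocal

variable {S : Scheme.{u}}

/-- The map of sheaves attached to composition with `h`. -/
theorem spMapOfOver_toOverCat_overMap {U V : Over S} (h : V ⟶ U) :
    AlgSt.spMapOfOver (BasedFunctor.comp (AlgSt.toOverCat V) (AlgSt.overMap h)) =
      (AlgSp.yon S).map h := by
  apply ObjectProperty.hom_ext
  ext T x
  apply ULift.ext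
  change AlgSt.secHom (BasedFunctor.comp (AlgSt.toOverCat V) (AlgSt.overMap h)) ⟨T.unop, x⟩ = _
  unfold AlgSt.secHom
  simp
  rfl

/-- If composition with `h` has `P` as a functor between slices, then `h` has `P`. -/
theorem prop_yon_map_of_repByAlgSpWith_overMap (P : MorphismProperty (AlgSp.Sp S))
    (hP : RespectsIsoSp P) {U V : Over S} (h : V ⟶ U)
    (hh : AlgSt.RepByAlgSpWith P (AlgSt.overMap h)) : P ((AlgSp.yon S).map h) := by
  let E : FibCat.overCat V ⥤ᵇ FibCat.fp (BasedFunctor.id (FibCat.overCat U)) (AlgSt.overMap h) :=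
    BasedFunctor.comp (FpId.graphE (AlgSt.overMap h))
      (FpSwap.fpSwap (AlgSt.overMap h) (BasedFunctor.id (FibCat.overCat U)))
  have hE : FibCat.IsEquivOver E :=
    ReprInv.isEquivOver_comp (FpId.graphE_isEquivOver _) (FpSwap.fpSwap_isEquivOver _ _)
  have h1 := (repOver_iff_of_rep' P hP
    (FibCat.fpFst (BasedFunctor.id (FibCat.overCat U)) (AlgSt.overMap h))
    ⟨(AlgSp.yon S).obj V, AlgSp.IsAlgSpace.yon_obj V⟩
    (BasedFunctor.comp (AlgSt.toOverCat V) E)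
    (ReprInv.isEquivOver_comp (toOverCat_isEquivOver V) hE)).1
    (hh U (BasedFunctor.id (FibCat.overCat U)))
  have h2 : BasedFunctor.comp (BasedFunctor.comp (AlgSt.toOverCat V) E)
      (FibCat.fpFst (BasedFunctor.id (FibCat.overCat U)) (AlgSt.overMap h)) =
      BasedFunctor.comp (AlgSt.toOverCat V) (AlgSt.overMap h) := rfl
  rw [h2, spMapOfOver_toOverCat_overMap] at h1
  exact h1

theorem isLocalOnBase_fppf_locP_flat :
    AlgSp.IsLocalOnBase (AlgSp.IsFppfCover (S := S)) (AlgSp.LocP @Flat) :=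
  isLocalOnBase_fppf_of_fpqc (isLocalOnBase_fpqc_locP _)

theorem isLocalOnBase_fppf_locP_lfp :
    AlgSp.IsLocalOnBase (AlgSp.IsFppfCover (S := S)) (AlgSp.LocP @LocallyOfFinitePresentation) :=
  isLocalOnBase_fppf_of_fpqc (isLocalOnBase_fpqc_locP _)

/-- Composition of slice functors. -/
def overMapCompIso {U V W : Over S} (k : W ⟶ V) (h : V ⟶ U) :
    BasedFunctor.comp (AlgSt.overMap k) (AlgSt.overMap h) ≅ AlgSt.overMap (k ≫ h) :=
  BasedNatIso.mkNatIso (Over.mapComp k h).symm (fun a =>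
    OverFun.over_isHomLift_id_of_left_eq _ rfl (by simp [Over.mapComp]; rfl))

section Lift

variable {𝒲 𝒴 : BasedCategory.{u, u + 1} (Over S)}

/-- **Local lifting.** If `w : 𝒲 ⟶ 𝒴` is representable by algebraic spaces, flat, locally of
finite presentation and surjective, then every `y : (Sch/U) ⟶ 𝒴` lifts to `𝒲` fppf locally on
`U`. -/
theorem exists_local_lift_of_fppf (h𝒲 : FibCat.IsFibGrpd 𝒲.p) (w : 𝒲 ⥤ᵇ 𝒴)
    (hw₁ : AlgSt.RepByAlgSpWith (AlgSp.LocP @Flat) w)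
    (hw₂ : AlgSt.RepByAlgSpWith (AlgSp.LocP @LocallyOfFinitePresentation) w)
    (hw₃ : AlgSt.RepByAlgSpWith AlgSp.IsSurjectiveMor w)
    (U : Over S) (y : FibCat.overCat U ⥤ᵇ 𝒴) :
    ∃ R ∈ (QuotSh.J Scheme.fppfPrecoverage S) U, ∀ ⦃V : Over S⦄ (h : V ⟶ U), R.arrows h →
      ∃ z : FibCat.overCat V ⥤ᵇ 𝒲,
        Nonempty (BasedFunctor.comp z w ≅ BasedFunctor.comp (AlgSt.overMap h) y) := by
  obtain ⟨F, e, he, -⟩ := hw₁ U y
  let pr₁ : FibCat.fp y w ⥤ᵇ FibCat.overCat U := FibCat.fpFst y w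
  let g₁ : AlgSt.ofSp F.obj ⥤ᵇ FibCat.overCat U := BasedFunctor.comp e pr₁
  have hg₁ : ∀ P : MorphismProperty (AlgSp.Sp S), AlgSt.RepByAlgSpWith P w →
      AlgSt.RepByAlgSpWith P g₁ := fun P h =>
    (repByAlgSpWith_of_square P pr₁ g₁ e (BasedFunctor.id (FibCat.overCat U)) he
      ReprInv.isEquivOver_id (Iso.refl _)).1 (repByAlgSpWith_fpFst P w y h)
  obtain ⟨V₀, x₀, hx1, hx2⟩ := (hasAtlas_ofSp F).2
  have hx1f : AlgSt.RepByAlgSpWith (AlgSp.LocP @Flat) x₀ := by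
    intro T t
    obtain ⟨G, eG, heG, hG⟩ := hx1 T t
    exact ⟨G, eG, heG, locP_mono (fun _ _ g (hg : Smooth g) => (inferInstance : Flat g)) hG⟩
  have hx1p : AlgSt.RepByAlgSpWith (AlgSp.LocP @LocallyOfFinitePresentation) x₀ := by
    intro T t
    obtain ⟨G, eG, heG, hG⟩ := hx1 T t
    exact ⟨G, eG, heG, locP_mono (fun _ _ g (hg : Smooth g) =>
      (inferInstance : LocallyOfFinitePresentation g)) hG⟩
  have hfV : FibCat.IsFibGrpd (FibCat.overCat V₀).p := isFibGrpd_overCat V₀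
  have hfF : FibCat.IsFibGrpd (AlgSt.ofSp F.obj).p := Stk.isFibGrpd_ofPsh F.obj.obj
  let Φ : FibCat.overCat V₀ ⥤ᵇ FibCat.overCat U := BasedFunctor.comp x₀ g₁
  have hΦ1 : AlgSt.RepByAlgSpWith (AlgSp.LocP @Flat) Φ :=
    repByAlgSpWith_comp hfV hfF _ (stableBC_locP _) (stableComp_locP _)
      isLocalOnBase_fppf_locP_flat x₀ g₁ hx1f (hg₁ _ hw₁)
  have hΦ2 : AlgSt.RepByAlgSpWith (AlgSp.LocP @LocallyOfFinitePresentation) Φ :=
    repByAlgSpWith_comp hfV hfF _ (stableBC_locP _) (stableComp_locP _)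
      isLocalOnBase_fppf_locP_lfp x₀ g₁ hx1p (hg₁ _ hw₂)
  have hΦ3 : AlgSt.RepByAlgSpWith AlgSp.IsSurjectiveMor Φ :=
    repByAlgSpWith_comp hfV hfF _ stableBC_isSurjectiveMor stableComp_isSurjectiveMor
      isLocalOnBase_fppf_isSurjectiveMor x₀ g₁ hx2 (hg₁ _ hw₃)
  obtain ⟨θ⟩ := OverFun.nonempty_iso_overMapBased Φ
  let h₀ : V₀ ⟶ U := OverFun.classify Φ
  have θ' : Φ ≅ AlgSt.overMap h₀ := θ
  have k1 : AlgSp.LocP @Flat ((AlgSp.yon S).map h₀) :=
    prop_yon_map_of_repByAlgSpWith_overMap _ (respectsIsoSp_of_stableBC (stableBC_locP _)) h₀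
      ((repByAlgSpWith_congr _ θ').2 hΦ1)
  have k2 : AlgSp.LocP @LocallyOfFinitePresentation ((AlgSp.yon S).map h₀) :=
    prop_yon_map_of_repByAlgSpWith_overMap _ (respectsIsoSp_of_stableBC (stableBC_locP _)) h₀
      ((repByAlgSpWith_congr _ θ').2 hΦ2)
  have k3 : AlgSp.IsSurjectiveMor ((AlgSp.yon S).map h₀) :=
    prop_yon_map_of_repByAlgSpWith_overMap _ (respectsIsoSp_of_stableBC stableBC_isSurjectiveMor)
      h₀ ((repByAlgSpWith_congr _ θ').2 hΦ3)
  have : Flat h₀.left := AlgSp.locP_yon_map k1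
  have : LocallyOfFinitePresentation h₀.left := AlgSp.locP_yon_map k2
  have : Surjective h₀.left := ⟨(surjectiveMor_yon_map_iff h₀).1 k3⟩
  refine ⟨Sieve.generate (Presieve.singleton h₀),
    sieve_mem_J_of_fppf h₀ _ (Sieve.le_generate _ _ _ (Presieve.singleton.mk)), ?_⟩
  rintro V h ⟨V', k, g, ⟨⟩, rfl⟩
  refine ⟨BasedFunctor.comp (AlgSt.overMap k)
    (BasedFunctor.comp (BasedFunctor.comp x₀ e) (FibCat.fpSnd y w)), ⟨?_⟩⟩
  let A : FibCat.overCat V ⥤ᵇ FibCat.fp y w :=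
    BasedFunctor.comp (AlgSt.overMap k) (BasedFunctor.comp x₀ e)
  have i1 : BasedFunctor.comp A (BasedFunctor.comp (FibCat.fpSnd y w) w) ≅
      BasedFunctor.comp A (BasedFunctor.comp (FibCat.fpFst y w) y) :=
    whiskerLeftIso A (FibCat.fpIso y w).symm
  have i2 : BasedFunctor.comp (AlgSt.overMap k) (BasedFunctor.comp Φ y) ≅
      BasedFunctor.comp (AlgSt.overMap k) (BasedFunctor.comp (AlgSt.overMap h₀) y) :=
    whiskerLeftIso (AlgSt.overMap k) ((postF _ y).mapIso θ')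
  have i3 : BasedFunctor.comp (BasedFunctor.comp (AlgSt.overMap k) (AlgSt.overMap h₀)) y ≅
      BasedFunctor.comp (AlgSt.overMap (k ≫ h₀)) y :=
    (postF _ y).mapIso (overMapCompIso k h₀)
  exact i1 ≪≫ i2 ≪≫ i3

end Lift

end Groth.Agent.Helper2.AlgStLib
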