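import Mathlib
import Groth.Prelude.Def_AlgSt2
import Groth.Prelude.Def_AlgSpCov
import Groth.Agent.Lib.Helper2.AlgSt.FromSpace

/-!
# Covering sieves of the big fppf site contain fppf coverings by schemes (helper2)
-/

set_option autoImplicit false
open CategoryTheory CategoryTheory.Functor CategoryTheory.Limits AlgebraicGeometry Opposite

universe u

namespace Groth.Agent.Helper2.AlgStLib

open Groth.Agent.Helper2 Groth.Agent.Helper2.AlgSpBasic Groth.Agent.Helper2.EtaleLocal AlgSp

variable {S : Scheme.{u}}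

theorem exists_fppfCover_of_mem_J {U : Over S} (R : Sieve U)
    (hR : R ∈ QuotSh.J Scheme.fppfPrecoverage S U) :
    ∃ (ι : Type u) (V : ι → Over S) (h : ∀ i, V i ⟶ U), (∀ i, R.arrows (h i)) ∧
      AlgSp.IsFppfCover (fun i => (AlgSp.yon S).obj (V i))
        (fun i => (AlgSp.yon S).map (h i)) := by
  have h1 : Sieve.overEquiv U R ∈ Scheme.fppfTopology U.left :=
    (GrothendieckTopology.mem_over_iff _ _).1 hR
  haveI : Scheme.fppfPrecoverage.{u}.HasIsos := by
    unfold Scheme.fppfPrecoverage; infer_instance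
  haveI : Scheme.fppfPrecoverage.{u}.HasPullbacks := by
    unfold Scheme.fppfPrecoverage; infer_instance
  obtain ⟨R₀, hR₀, hle⟩ :=
    Precoverage.mem_toGrothendieck_iff_of_isStableUnderComposition.1 h1
  obtain ⟨κ, Y, f, rfl⟩ := R₀.exists_eq_ofArrows
  rw [Scheme.fppfPrecoverage, Scheme.ofArrows_mem_precoverage_iff] at hR₀
  obtain ⟨hsurj, hP⟩ := hR₀
  choose i hi using hsurj
  refine ⟨↥U.left, fun x => Over.mk (f (i x) ≫ U.hom), fun x => Over.homMk (f (i x)) rfl, ?_, ?_⟩
  · intro x
    have h2 : (Sieve.overEquiv U R).arrows (f (i x)) := hle _ _ (Presieve.ofArrows.mk (i x))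
    exact (Sieve.overEquiv_iff _ _).1 h2
  · refine ⟨fun x => ⟨?_, ?_⟩, fun p => ?_⟩
    · have : Flat (f (i x)) := (hP (i x)).1
      exact locP_of_repWith @Flat (AlgSp.IsAlgSpace.yon_obj _).diag _
        ((repWith_yon_map_iff @Flat _).2 this)
    · have : LocallyOfFinitePresentation (f (i x)) := (hP (i x)).2
      exact locP_of_repWith @LocallyOfFinitePresentation (AlgSp.IsAlgSpace.yon_obj _).diag _
        ((repWith_yon_map_iff @LocallyOfFinitePresentation _).2 this)
    · obtain ⟨u, rfl⟩ := (Points.schemeHomeo U).surjective p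
      obtain ⟨w, hw⟩ := hi u
      refine ⟨u, Points.schemeHomeo _ w, ?_⟩
      rw [Points.map_yon_map_apply]
      exact congrArg _ hw

end Groth.Agent.Helper2.AlgStLib
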