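import Mathlib
import Groth.Prelude.Def_AlgSt2
import Groth.Prelude.Def_AlgSt3
import Groth.Prelude.Def_AlgSpCov
import Groth.Agent.Lib.Helper2.AlgSt.CoverSieve
import Groth.Agent.Lib.Helper2.AlgSt.Square
import Groth.Agent.Lib.Helper2.AlgSt.Dict
import Groth.Agent.Lib.Helper2.EquivOver

/-!
# Restricting a representing algebraic space along a morphism of schemes (helper2)
-/

set_option autoImplicit false
open CategoryTheory CategoryTheory.Functor CategoryTheory.Limits AlgebraicGeometry Opposite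

universe w v u

namespace Groth.Agent.Helper2.AlgStLib

open Groth.Agent.Helper2 Groth.Agent.Helper2.FibCatLib Groth.Agent.Helper2.StkLib

variable {S : Scheme.{u}} {U V : Over S}

/-- The functor `(Sch/V) ⟶ h_U` attached to `h : V ⟶ U`, followed by the identification of `h_U`
with `(Sch/U)`, is composition with `h`. -/
def ofSecMapYonIso (h : V ⟶ U) :
    BasedFunctor.comp (ofSecMap ((AlgSp.yon S).map h).hom) (AlgSt.toOverCat U) ≅ AlgSt.overMap h :=
  BasedNatIso.mkNatIso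
    (NatIso.ofComponents (fun a => Iso.refl _)
      (by
        intro a b m
        apply Over.OverMorphism.ext
        exact (Category.comp_id _).trans (Category.id_comp _).symm))
    (fun a => IsHomLift.id rfl)

/-- For `Φ : F ⟶ (Sch/U)`, the functor of the map of sheaves `spMapOfOver Φ` is `Φ`. -/
theorem ofSpMap_spMapOfOver_iso {F : AlgSp.Sp S} (Φ : AlgSt.ofSp F ⥤ᵇ FibCat.overCat U) :
    Nonempty (BasedFunctor.comp (AlgSt.ofSpMap (AlgSt.spMapOfOver Φ)) (AlgSt.toOverCat U) ≅ Φ) := by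
  let Ψ : AlgSt.ofSp F ⥤ᵇ AlgSt.ofSch U := BasedFunctor.comp Φ (AlgSt.ofOverCat U)
  obtain ⟨θ⟩ := ofPshMap_mapOfFunctor_iso Ψ
  have h1 : (AlgSt.spMapOfOver Φ).hom = mapOfFunctor Ψ := spMapOfOver_hom Φ
  have θ' : AlgSt.ofSpMap (AlgSt.spMapOfOver Φ) ≅ Ψ := by
    change Stk.ofPshMap (AlgSt.spMapOfOver Φ).hom ≅ Ψ
    rw [h1]
    exact θ
  exact ⟨(postF _ (AlgSt.toOverCat U)).mapIso θ' ≪≫ whiskerLeftIso Φ (ofToIso U)⟩

/-- **Restriction of a representing space.** If `F` represents `𝒜` with structure map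
`q : F ⟶ h_U` and `X = h_V ×_{h_U} F`, then `X` represents `(Sch/V) ×_{(Sch/U)} 𝒜` with structure
map the projection `X ⟶ h_V`. -/
theorem exists_equiv_fp_overMap {𝒜 : BasedCategory.{v, w} (Over S)}
    (π : 𝒜 ⥤ᵇ FibCat.overCat U) {F : AlgSp.Sp S} (e : AlgSt.ofSp F ⥤ᵇ 𝒜)
    (he : FibCat.IsEquivOver e) (h : V ⟶ U) {X : AlgSp.Sp S} (toF : X ⟶ F)
    (toV : X ⟶ (AlgSp.yon S).obj V)
    (sq : IsPullback toF toV (AlgSt.spMapOfOver (BasedFunctor.comp e π)) ((AlgSp.yon S).map h)) :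
    ∃ E : AlgSt.ofSp X ⥤ᵇ FibCat.fp (AlgSt.overMap h) π, FibCat.IsEquivOver E ∧
      AlgSt.spMapOfOver (BasedFunctor.comp E (FibCat.fpFst (AlgSt.overMap h) π)) = toV := by
  let q : F ⟶ (AlgSp.yon S).obj U := AlgSt.spMapOfOver (BasedFunctor.comp e π)
  let ξ : ((AlgSp.yon S).obj V).obj ⟶ ((AlgSp.yon S).obj U).obj := ((AlgSp.yon S).map h).hom
  let G' : FibCat.overCat V ⥤ᵇ AlgSt.ofSch U := ofSecMap ξ
  -- the square of presheaves
  have sqP : IsPullback toV.hom toF.hom ξ q.hom :=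
    (sq.flip.map (sheafToPresheaf (AlgSp.J S) (Type (u + 1))))
  obtain ⟨E₁, hE₁, hE₁fst⟩ := exists_equiv_ofPsh_fp q.hom G' ξ (ofSecMapIso ξ) sqP
  -- change of the right-hand factor
  obtain ⟨θq⟩ := ofSpMap_spMapOfOver_iso (BasedFunctor.comp e π)
  obtain ⟨Φ, hΦ, hΦfst⟩ := exists_equiv_fp_square_fst π (AlgSt.ofSpMap q) e (AlgSt.toOverCat U) he
    (toOverCat_isEquivOver U) θq G'
  obtain ⟨Φ₂, hΦ₂, hΦ₂fst⟩ := exists_equiv_fp_congr_fst
    (BasedFunctor.comp G' (AlgSt.toOverCat U)) (AlgSt.overMap h) π (ofSecMapYonIso h)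
  refine ⟨BasedFunctor.comp (BasedFunctor.comp E₁ Φ) Φ₂,
    ReprInv.isEquivOver_comp (ReprInv.isEquivOver_comp hE₁ hΦ) hΦ₂, ?_⟩
  have h1 : BasedFunctor.comp (BasedFunctor.comp (BasedFunctor.comp E₁ Φ) Φ₂)
      (FibCat.fpFst (AlgSt.overMap h) π) =
      BasedFunctor.comp (AlgSt.ofSpMap toV) (AlgSt.toOverCat V) := by
    change BasedFunctor.comp E₁ (BasedFunctor.comp Φ
      (BasedFunctor.comp Φ₂ (FibCat.fpFst (AlgSt.overMap h) π))) = _
    rw [hΦ₂fst, hΦfst]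
    exact hE₁fst
  rw [h1]
  exact spMapOfOver_ofPshMap_toOverCat toV

/-- **Locality on the base for `RepOver`.** -/
theorem repOver_of_cover (P : MorphismProperty (AlgSp.Sp S)) (hPb : StableBC P)
    (hP : AlgSp.IsLocalOnBase AlgSp.IsFppfCover P) {𝒜 : BasedCategory.{v, w} (Over S)}
    (π : 𝒜 ⥤ᵇ FibCat.overCat U) (hA : AlgSt.RepByAlgSp 𝒜) {ι : Type u} (V : ι → Over S)
    (h : ∀ i, V i ⟶ U)
    (hcov : AlgSp.IsFppfCover (fun i => (AlgSp.yon S).obj (V i))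
      (fun i => (AlgSp.yon S).map (h i)))
    (hloc : ∀ i, RepOver P (FibCat.fp (AlgSt.overMap (h i)) π)
      (FibCat.fpFst (AlgSt.overMap (h i)) π)) : RepOver P 𝒜 π := by
  obtain ⟨F, e, he⟩ := hA
  let q : F.obj ⟶ (AlgSp.yon S).obj U := AlgSt.spMapOfOver (BasedFunctor.comp e π)
  refine ⟨F, e, he, ?_⟩
  have hU : AlgSp.IsAlgSpace ((AlgSp.yon S).obj U) := AlgSp.IsAlgSpace.yon_obj U
  have hX : ∀ i, AlgSp.IsAlgSpace (pullback q ((AlgSp.yon S).map (h i))) := fun i =>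
    AlgSpBasic.isAlgSpace_of_isPullback hU.diag F.property (AlgSp.IsAlgSpace.yon_obj (V i)) q
      ((AlgSp.yon S).map (h i)) _ _ (IsPullback.of_hasPullback _ _)
  refine (hP (fun i => (AlgSp.yon S).obj (V i)) (fun i => (AlgSp.yon S).map (h i)) hU
    (fun i => AlgSp.IsAlgSpace.yon_obj (V i)) hcov q F.property
    (fun i => pullback q ((AlgSp.yon S).map (h i))) (fun i => pullback.snd _ _)
    (fun i => pullback.fst _ _) hX (fun i => IsPullback.of_hasPullback _ _)).2 ?_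
  intro i
  obtain ⟨E, hE, hEfst⟩ := exists_equiv_fp_overMap π e he (h i) (pullback.fst q _)
    (pullback.snd q _) (IsPullback.of_hasPullback _ _)
  have := (repOver_iff_of_rep' P (respectsIsoSp_of_stableBC hPb)
    (FibCat.fpFst (AlgSt.overMap (h i)) π) ⟨_, hX i⟩ E hE).1 (hloc i)
  rw [hEfst] at this
  exact this

end Groth.Agent.Helper2.AlgStLib
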