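import Mathlib
import Groth.Prelude.Def_AlgSt3
import Groth.Agent.S12781
import Groth.Agent.Lib.Helper2.AlgSt.DiagStack
import Groth.Agent.Lib.Helper2.AlgSt.FppfLift
import Groth.Agent.Lib.Helper2.AlgSt.RelDiag
import Groth.Agent.Lib.Helper2.AlgSt.Space
import Groth.Agent.Lib.Helper2.FibCat.MagicLift
import Groth.Agent.Lib.Helper2.FibCat.DiagRepBack

/-!
# Properties of the absolute diagonal read on an fppf covering by an algebraic space (helper2)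
-/

set_option autoImplicit false
open CategoryTheory CategoryTheory.Functor CategoryTheory.Limits AlgebraicGeometry Opposite

universe u

namespace Groth.Agent.Helper2.AlgStLib

open Groth.Agent.Helper2 Groth.Agent.Helper2.FibCatLib Groth.Agent.Helper2.StkLib
open Groth.Agent.Helper2.AlgSpBasic Groth.Agent.Helper2.EtaleLocal

variable {S : Scheme.{u}} {𝒜 ℬ 𝒴 𝒵 𝒳 𝒲 : BasedCategory.{u, u + 1} (Over S)}

/-- Monotonicity of `RepByAlgSpWith` in the property. -/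
theorem repByAlgSpWith_mono {P Q : MorphismProperty (AlgSp.Sp S)} (hPQ : P ≤ Q) (f : 𝒳 ⥤ᵇ 𝒴)
    (h : AlgSt.RepByAlgSpWith P f) : AlgSt.RepByAlgSpWith Q f := by
  intro T t
  obtain ⟨G, eG, heG, hG⟩ := h T t
  exact ⟨G, eG, heG, hPQ _ hG⟩

/-- Monotonicity of `RepByAlgSpWith (LocP _)` in the property of morphisms of schemes. -/
theorem repByAlgSpWith_locP_mono {P Q : MorphismProperty Scheme.{u}} (hPQ : P ≤ Q) (f : 𝒳 ⥤ᵇ 𝒴)
    (h : AlgSt.RepByAlgSpWith (AlgSp.LocP P) f) : AlgSt.RepByAlgSpWith (AlgSp.LocP Q) f := by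
  intro T t
  obtain ⟨G, eG, heG, hG⟩ := h T t
  exact ⟨G, eG, heG, locP_mono hPQ hG⟩

/-- Local lifting through `𝒜 ×_𝒵 ℬ ⟶ 𝒴 ×_𝒵 𝒴` when `𝒜 ⟶ 𝒴` and `ℬ ⟶ 𝒴` are fppf coverings. -/
theorem exists_local_lift_Hc (h𝒜 : FibCat.IsFibGrpd 𝒜.p) (hℬ : FibCat.IsFibGrpd ℬ.p)
    (a : 𝒜 ⥤ᵇ 𝒴) (b : ℬ ⥤ᵇ 𝒴) (g : 𝒴 ⥤ᵇ 𝒵)
    (ha₁ : AlgSt.RepByAlgSpWith (AlgSp.LocP @Flat) a)
    (ha₂ : AlgSt.RepByAlgSpWith (AlgSp.LocP @LocallyOfFinitePresentation) a)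
    (ha₃ : AlgSt.RepByAlgSpWith AlgSp.IsSurjectiveMor a)
    (hb₁ : AlgSt.RepByAlgSpWith (AlgSp.LocP @Flat) b)
    (hb₂ : AlgSt.RepByAlgSpWith (AlgSp.LocP @LocallyOfFinitePresentation) b)
    (hb₃ : AlgSt.RepByAlgSpWith AlgSp.IsSurjectiveMor b)
    (U : Over S) (y : FibCat.overCat U ⥤ᵇ FibCat.fp g g) :
    ∃ R ∈ (QuotSh.J Scheme.fppfPrecoverage S) U, ∀ ⦃V : Over S⦄ (h : V ⟶ U), R.arrows h →
      ∃ z : FibCat.overCat V ⥤ᵇ FibCat.fp (BasedFunctor.comp a g) (BasedFunctor.comp b g),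
        Nonempty (BasedFunctor.comp z (Magic.Hc a b g) ≅
          BasedFunctor.comp (AlgSt.overMap h) y) := by
  obtain ⟨R₁, hR₁, hl₁⟩ := exists_local_lift_of_fppf h𝒜 a ha₁ ha₂ ha₃ U
    (BasedFunctor.comp y (FibCat.fpFst g g))
  obtain ⟨R₂, hR₂, hl₂⟩ := exists_local_lift_of_fppf hℬ b hb₁ hb₂ hb₃ U
    (BasedFunctor.comp y (FibCat.fpSnd g g))
  refine ⟨R₁ ⊓ R₂, GrothendieckTopology.intersection_covering _ hR₁ hR₂, fun V h hh => ?_⟩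
  obtain ⟨z₁, ⟨θ₁⟩⟩ := hl₁ h hh.1
  obtain ⟨z₂, ⟨θ₂⟩⟩ := hl₂ h hh.2
  exact ⟨Magic.liftHc a b g (BasedFunctor.comp (AlgSt.overMap h) y) z₁ z₂ θ₁ θ₂,
    ⟨Magic.liftHcIso a b g (BasedFunctor.comp (AlgSt.overMap h) y) z₁ z₂ θ₁ θ₂⟩⟩

/-- The product over the base of two categories representable by algebraic spaces is
representable by an algebraic space. -/
theorem repByAlgSp_prod (h𝒜 : AlgSt.RepByAlgSp 𝒜) (hℬ : AlgSt.RepByAlgSp ℬ) :
    AlgSt.RepByAlgSp (FibCat.fp (FibCat.toSelf 𝒜) (FibCat.toSelf ℬ)) := by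
  obtain ⟨F, e, he⟩ := h𝒜
  obtain ⟨G, e', he'⟩ := hℬ
  exact repByAlgSp_of_isEquivOver (prodMap e e') (prodMap_isEquivOver _ _ he he')
    (repByAlgSp_prod_ofSp F G)

/-- **The absolute diagonal read on an fppf covering.** If `w : 𝒲 ⟶ 𝒳` is a flat, locally finitely
presented, surjective functor with `P` from a category representable by an algebraic space, and
`P` satisfies cancellation, then the diagonal of `𝒳` over the base has `P`. -/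
theorem repByAlgSpWith_diag_toSelf_of_cover (h𝒳 : FibCat.IsFibGrpd 𝒳.p)
    (h𝒲 : FibCat.IsFibGrpd 𝒲.p)
    (P : MorphismProperty (AlgSp.Sp S)) (hPb : StableBC P)
    (hP : AlgSp.IsLocalOnBase AlgSp.IsFppfCover P) (hc : CancelSp P ⊤)
    (hΔ : AlgSt.RepByAlgSp1 (FibCat.diag (FibCat.toSelf 𝒳)))
    (hW : AlgSt.RepByAlgSp 𝒲) (w : 𝒲 ⥤ᵇ 𝒳)
    (hw₁ : AlgSt.RepByAlgSpWith (AlgSp.LocP @Flat) w)
    (hw₂ : AlgSt.RepByAlgSpWith (AlgSp.LocP @LocallyOfFinitePresentation) w)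
    (hw₃ : AlgSt.RepByAlgSpWith AlgSp.IsSurjectiveMor w)
    (hwP : AlgSt.RepByAlgSpWith P w) :
    AlgSt.RepByAlgSpWith P (FibCat.diag (FibCat.toSelf 𝒳)) := by
  have hself : FibCat.IsFibGrpd (FibCat.selfOver (Over S)).p := DiagRepBack.isFibGrpd_selfOver
  have hWW : AlgSt.RepByAlgSp (FibCat.fp (BasedFunctor.comp w (FibCat.toSelf 𝒳))
      (BasedFunctor.comp w (FibCat.toSelf 𝒳))) := by
    rw [comp_toSelf w]
    exact repByAlgSp_prod hW hW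
  have hcanon : AlgSt.RepByAlgSpWith P (Magic.canon w w (FibCat.toSelf 𝒳)) := by
    refine repByAlgSpWith_of_comp_cancel P ⊤ hPb hc (Magic.canon w w (FibCat.toSelf 𝒳))
      (FibCat.fpFst (BasedFunctor.comp w (FibCat.toSelf 𝒳))
        (BasedFunctor.comp w (FibCat.toSelf 𝒳))) ?_ ?_
    · exact repByAlgSpWith_fpFst P w w hwP
    · rw [← repByAlgSp1_iff_top]
      exact repByAlgSp1_of_repByAlgSp hWW hW _
  have h' : AlgSt.RepByAlgSpWith P (FibCat.fpFst (Magic.Hc w w (FibCat.toSelf 𝒳))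
      (FibCat.diag (FibCat.toSelf 𝒳))) :=
    (repByAlgSpWith_of_square P (FibCat.fpFst (Magic.Hc w w (FibCat.toSelf 𝒳))
      (FibCat.diag (FibCat.toSelf 𝒳))) (Magic.canon w w (FibCat.toSelf 𝒳))
      (Magic.Ψ w w (FibCat.toSelf 𝒳)) (BasedFunctor.id _)
      (Magic.Ψ_isEquivOver w w (FibCat.toSelf 𝒳)) ReprInv.isEquivOver_id (Iso.refl _)).2 hcanon
  exact Groth.Agent.S12781.result h𝒳
    (isFibGrpd_fp (FibCat.toSelf 𝒳) (FibCat.toSelf 𝒳) h𝒳 h𝒳 hself)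
    (isFibGrpd_fp _ _ h𝒲 h𝒲 hself) P hPb hP (FibCat.diag (FibCat.toSelf 𝒳)) hΔ
    (Magic.Hc w w (FibCat.toSelf 𝒳))
    (exists_local_lift_Hc h𝒲 h𝒲 w w (FibCat.toSelf 𝒳) hw₁ hw₂ hw₃ hw₁ hw₂ hw₃) h'

/-- The diagonal over the base of an algebraic stack is locally of finite type. -/
theorem repByAlgSpWith_lft_diag_toSelf (h𝒳 : AlgSt.IsAlgStack Scheme.fppfPrecoverage 𝒳) :
    AlgSt.RepByAlgSpWith (AlgSp.LocP @LocallyOfFiniteType) (FibCat.diag (FibCat.toSelf 𝒳)) := by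
  obtain ⟨U, x, hx1, hx2⟩ := h𝒳.atlas
  exact repByAlgSpWith_diag_toSelf_of_cover h𝒳.isStack.1 (isFibGrpd_overCat U) _
    (stableBC_locP _) (isLocalOnBase_fppf_of_fpqc (isLocalOnBase_fpqc_locP @LocallyOfFiniteType))
    (cancelSp_lft ⊤) h𝒳.diag (repByAlgSp_overCat U) x
    (repByAlgSpWith_locP_mono (fun _ _ g (hg : Smooth g) => (inferInstance : Flat g)) x hx1)
    (repByAlgSpWith_locP_mono (fun _ _ g (hg : Smooth g) =>
      (inferInstance : LocallyOfFinitePresentation g)) x hx1) hx2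
    (repByAlgSpWith_locP_mono (fun _ _ g (hg : Smooth g) =>
      (inferInstance : LocallyOfFiniteType g)) x hx1)

/-- The diagonal of any functor between algebraic stacks is locally of finite type. -/
theorem repByAlgSpWith_lft_diag (h𝒳 : AlgSt.IsAlgStack Scheme.fppfPrecoverage 𝒳)
    (h𝒴 : AlgSt.IsAlgStack Scheme.fppfPrecoverage 𝒴) (f : 𝒳 ⥤ᵇ 𝒴) :
    AlgSt.RepByAlgSpWith (AlgSp.LocP @LocallyOfFiniteType) (FibCat.diag f) :=
  repByAlgSpWith_diag_of_toSelf _ ⊤ (stableBC_locP _) (cancelSp_lft ⊤) f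
    (repByAlgSpWith_lft_diag_toSelf h𝒳) ((repByAlgSp1_iff_top _).1 h𝒴.diag)

end Groth.Agent.Helper2.AlgStLib
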