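import Mathlib
import Groth.Prelude.Def_AlgSt3
import Groth.Agent.Lib.Helper2.AlgSt.RepDiagApps2
import Groth.Agent.Lib.Helper2.AlgSt.DiagCover

/-!
# Separation of a functor representable by algebraic spaces: the statements (helper2)
-/

set_option autoImplicit false
open CategoryTheory CategoryTheory.Functor CategoryTheory.Limits AlgebraicGeometry Opposite

universe u

namespace Groth.Agent.Helper2.AlgStLib

open Groth.Agent.Helper2 Groth.Agent.Helper2.FibCatLib Groth.Agent.Helper2.StkLib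
open Groth.Agent.Helper2.AlgSpBasic Groth.Agent.Helper2.EtaleLocal

variable {S : Scheme.{u}} {𝒳 𝒴 : BasedCategory.{u, u + 1} (Over S)}

/-- Monotonicity of `RepByAlgSpWith`, for an implication between properties of maps from
algebraic spaces to schemes. -/
theorem repByAlgSpWith_mono' {P Q : MorphismProperty (AlgSp.Sp S)} (f : 𝒳 ⥤ᵇ 𝒴)
    (hPQ : ∀ (F : AlgSp.Space S) (T : Over S) (m : F.obj ⟶ (AlgSp.yon S).obj T), P m → Q m)
    (h : AlgSt.RepByAlgSpWith P f) : AlgSt.RepByAlgSpWith Q f := by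
  intro T t
  obtain ⟨G, eG, heG, hG⟩ := h T t
  exact ⟨G, eG, heG, hPQ G T _ hG⟩

theorem repByAlgSp1_of_repByAlgSpWith {P : MorphismProperty (AlgSp.Sp S)} (f : 𝒳 ⥤ᵇ 𝒴)
    (h : AlgSt.RepByAlgSpWith P f) : AlgSt.RepByAlgSp1 f := by
  intro T t
  obtain ⟨G, eG, heG, -⟩ := h T t
  exact ⟨G, eG, heG⟩

/-- A property of a functor representable by algebraic spaces, read on all representing maps. -/
theorem repByAlgSpWith_iff_forall (P : MorphismProperty (AlgSp.Sp S)) (hP : RespectsIsoSp P)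
    (f : 𝒳 ⥤ᵇ 𝒴) (hf : AlgSt.RepByAlgSp1 f) :
    AlgSt.RepByAlgSpWith P f ↔
      ∀ (T : Over S) (y : FibCat.overCat T ⥤ᵇ 𝒴) (F : AlgSp.Space S)
        (e : AlgSt.ofSp F.obj ⥤ᵇ FibCat.fp y f), FibCat.IsEquivOver e →
        P (AlgSt.spMapOfOver (BasedFunctor.comp e (FibCat.fpFst y f))) := by
  constructor
  · intro h T y F e he
    exact (repOver_iff_of_rep' P hP (FibCat.fpFst y f) F e he).1 (h T y)
  · intro h T y
    obtain ⟨F, e, he⟩ := hf T y
    exact ⟨F, e, he, h T y F e he⟩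

/-! ### Separated -/

theorem tfae_isSeparatedMor (f : 𝒳 ⥤ᵇ 𝒴) (hf : AlgSt.RepByAlgSp1 f) :
    [AlgSt.RepByAlgSpWith AlgSp.IsSeparatedMor f, AlgSt.IsClosedImm (FibCat.diag f),
      AlgSt.IsSeparatedMor f,
      AlgSt.RepByAlgSpWith AlgSp.IsUnivClosedMor (FibCat.diag f)].TFAE := by
  have hi1 : RespectsIsoSp (S := S) AlgSp.IsSeparatedMor :=
    respectsIsoSp_of_stableBC stableBC_isSeparatedMor
  tfae_have 1 → 2 := by
    intro h
    rw [repByAlgSpWith_iff_forall _ hi1 f hf] at h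
    exact (repByAlgSpWith_diag_iff_forall _ (respectsIsoSp_of_stableBC (stableBC_repWith _))
      f hf).2 (fun T y F e he => repBySpWith_repWith_diagonal _ F.property
        (AlgSp.IsAlgSpace.yon_obj T).diag _ (h T y F e he))
  tfae_have 2 → 3 := by
    intro h
    exact repByAlgSpWith_mono' (FibCat.diag f) (fun F T m hm =>
      isProperMor_of_repWith_isClosedImmersion F.property (AlgSp.IsAlgSpace.yon_obj T).diag m hm) h
  tfae_have 3 → 4 := fun h =>
    repByAlgSpWith_mono (fun _ _ m (hm : AlgSp.IsProperMor m) => hm.2.2) (FibCat.diag f) h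
  tfae_have 4 → 1 := by
    intro h
    rw [repByAlgSpWith_diag_iff_forall _ (respectsIsoSp_of_stableBC stableBC_isUnivClosedMor)
      f hf] at h
    exact (repByAlgSpWith_iff_forall _ hi1 f hf).2 (fun T y F e he =>
      repWith_isClosedImmersion_diagonal_of_repBySpWith F.property _ (h T y F e he))
  tfae_finish

/-! ### Quasi-separated -/

/-- Base changes to schemes of a quasi-compact diagonal are of finite type, quasi-compact and
quasi-separated. -/
theorem repBySpWith_diagonal_of_quasiCompact {X Y : AlgSp.Sp S} (hX : AlgSp.IsAlgSpace X)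
    (hY : AlgSp.Representable (Limits.diag Y)) (φ : X ⟶ Y)
    (h : AlgSp.RepWith @QuasiCompact (pullback.diagonal φ)) :
    AlgSp.RepBySpWith AlgSp.IsFiniteTypeMor (pullback.diagonal φ).hom ∧
      AlgSp.RepBySpWith (AlgSp.IsQuasiCompactMor ⊓ AlgSp.IsQuasiSeparatedMor)
        (pullback.diagonal φ).hom := by
  have hl := repBySpWith_diagonal_of_cancel (AlgSp.LocP @LocallyOfFiniteType) (stableBC_locP _)
    (cancelSp_lft ⊤) hX hY φ (locP_id _ hX.diag)
  rw [AlgSp.repBySpWith_hom_iff] at hl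
  have hPP : AlgSp.IsAlgSpace (pullback φ φ) :=
    isAlgSpace_of_isPullback hY hX hX φ φ _ _ (IsPullback.of_hasPullback φ φ)
  have key : ∀ ⦃U : Over S⦄ (ξ : (AlgSp.yon S).obj U ⟶ pullback φ φ) ⦃F' : AlgSp.Sp S⦄
      (fst : F' ⟶ X) (snd : F' ⟶ (AlgSp.yon S).obj U), IsPullback fst snd (pullback.diagonal φ) ξ →
      AlgSp.IsAlgSpace F' ∧ AlgSp.IsQuasiCompactMor snd := by
    intro U ξ F' fst snd sq
    have hF' : AlgSp.IsAlgSpace F' :=
      isAlgSpace_of_isPullback hPP.diag hX (AlgSp.IsAlgSpace.yon_obj U) _ ξ fst snd sq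
    exact ⟨hF', isQuasiCompactMor_of_repWith hF' (AlgSp.IsAlgSpace.yon_obj U).diag snd
      (repWith_of_isPullback _ sq h)⟩
  constructor
  · rw [AlgSp.repBySpWith_hom_iff]
    intro U ξ F' fst snd sq
    exact ⟨(key ξ fst snd sq).1, (hl ξ fst snd sq).2, (key ξ fst snd sq).2⟩
  · rw [AlgSp.repBySpWith_hom_iff]
    intro U ξ F' fst snd sq
    have : Mono snd := mono_snd_of_isPullback_diagonal _ ξ fst snd sq
    exact ⟨(key ξ fst snd sq).1, (key ξ fst snd sq).2, isQuasiSeparatedMor_of_mono snd⟩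

theorem tfae_isQuasiSeparatedMor (f : 𝒳 ⥤ᵇ 𝒴) (hf : AlgSt.RepByAlgSp1 f) :
    [AlgSt.RepByAlgSpWith AlgSp.IsQuasiSeparatedMor f,
      AlgSt.RepByAlgSpWith AlgSp.IsQuasiCompactMor (FibCat.diag f),
      AlgSt.RepByAlgSpWith AlgSp.IsFiniteTypeMor (FibCat.diag f)].TFAE := by
  have hi1 : RespectsIsoSp (S := S) AlgSp.IsQuasiSeparatedMor :=
    respectsIsoSp_of_stableBC stableBC_isQuasiSeparatedMor
  tfae_have 1 → 3 := by
    intro h
    rw [repByAlgSpWith_iff_forall _ hi1 f hf] at h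
    exact (repByAlgSpWith_diag_iff_forall _ (respectsIsoSp_of_stableBC stableBC_isFiniteTypeMor)
      f hf).2 (fun T y F e he => (repBySpWith_diagonal_of_quasiCompact F.property
        (AlgSp.IsAlgSpace.yon_obj T).diag _ (h T y F e he)).1)
  tfae_have 3 → 2 := fun h =>
    repByAlgSpWith_mono (fun _ _ m (hm : AlgSp.IsFiniteTypeMor m) => hm.2) (FibCat.diag f) h
  tfae_have 2 → 1 := by
    intro h
    rw [repByAlgSpWith_diag_iff_forall _ (respectsIsoSp_of_stableBC stableBC_isQuasiCompactMor)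
      f hf] at h
    exact (repByAlgSpWith_iff_forall _ hi1 f hf).2 (fun T y F e he =>
      repWith_quasiCompact_diagonal_of_repBySpWith F.property _ (h T y F e he))
  tfae_finish

theorem isQuasiSeparatedMor_iff (f : 𝒳 ⥤ᵇ 𝒴) (hf : AlgSt.RepByAlgSp1 f) :
    AlgSt.IsQuasiSeparatedMor f ↔ AlgSt.RepByAlgSpWith AlgSp.IsQuasiSeparatedMor f := by
  have hi1 : RespectsIsoSp (S := S) AlgSp.IsQuasiSeparatedMor :=
    respectsIsoSp_of_stableBC stableBC_isQuasiSeparatedMor
  constructor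
  · intro h
    have h2 : AlgSt.RepByAlgSpWith AlgSp.IsQuasiCompactMor (FibCat.diag f) :=
      repByAlgSpWith_mono (fun _ _ m hm => hm.1) (FibCat.diag f) h
    exact ((tfae_isQuasiSeparatedMor f hf).out 1 0).1 h2
  · intro h
    rw [repByAlgSpWith_iff_forall _ hi1 f hf] at h
    exact (repByAlgSpWith_diag_iff_forall _ (respectsIsoSp_of_stableBC stableBC_qcqs)
      f hf).2 (fun T y F e he => (repBySpWith_diagonal_of_quasiCompact F.property
        (AlgSp.IsAlgSpace.yon_obj T).diag _ (h T y F e he)).2)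

/-! ### Monomorphisms -/

theorem isSeparatedMor_and_isDMMor_of_isMono (f : 𝒳 ⥤ᵇ 𝒴) (h : AlgSt.IsMono f) :
    AlgSt.IsSeparatedMor f ∧ AlgSt.IsDMMor f := by
  have hf : AlgSt.RepByAlgSp1 f := repByAlgSp1_of_repByAlgSpWith f h
  refine ⟨?_, isDMMor_of_repByAlgSp1 f hf⟩
  have h1 : AlgSt.RepByAlgSpWith AlgSp.IsSeparatedMor f :=
    repByAlgSpWith_mono (fun _ _ m (hm : Mono m) => isSeparatedMor_of_mono m) f h
  exact ((tfae_isSeparatedMor f hf).out 0 2).1 h1

/-! ### Representability of the diagonal by schemes -/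

/-- The source of the map is a representable sheaf. -/
def SrcRep : MorphismProperty (AlgSp.Sp S) := fun A _ _ =>
  ∃ W : Over S, Nonempty (A ≅ (AlgSp.yon S).obj W)

theorem respectsIsoSp_srcRep : RespectsIsoSp (S := S) SrcRep := by
  intro X₁ X₂ Y _ _ _ c _ a ⟨W, ⟨i⟩⟩
  exact ⟨W, ⟨asIso c ≪≫ i⟩⟩

theorem repBySpWith_srcRep_diagonal {X Y : AlgSp.Sp S} (hX : AlgSp.IsAlgSpace X)
    (hY : AlgSp.Representable (Limits.diag Y)) (φ : X ⟶ Y) :
    AlgSp.RepBySpWith SrcRep (pullback.diagonal φ).hom := by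
  rw [AlgSp.repBySpWith_hom_iff]
  intro U ξ F' fst snd sq
  have hPP : AlgSp.IsAlgSpace (pullback φ φ) :=
    isAlgSpace_of_isPullback hY hX hX φ φ _ _ (IsPullback.of_hasPullback φ φ)
  have hF' : AlgSp.IsAlgSpace F' :=
    isAlgSpace_of_isPullback hPP.diag hX (AlgSp.IsAlgSpace.yon_obj U) _ ξ fst snd sq
  have hrep := representable_diagonal φ hX.diag
  have sqW := hrep.isPullback ξ
  exact ⟨hF', hrep.pullback ξ, ⟨sq.isoIsPullback _ _ sqW⟩⟩

theorem isRepresentable1_diag (f : 𝒳 ⥤ᵇ 𝒴) (hf : AlgSt.RepByAlgSp1 f) :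
    FibCat.IsRepresentable1 (FibCat.diag f) := by
  have h := (repByAlgSpWith_diag_iff_forall SrcRep respectsIsoSp_srcRep f hf).2
    (fun T y F e he => repBySpWith_srcRep_diagonal F.property
      (AlgSp.IsAlgSpace.yon_obj T).diag _)
  intro U G
  obtain ⟨F, e, he, W, ⟨i⟩⟩ := h U G
  obtain ⟨e', he', -, -⟩ := isEquivOver_inverse he
  have : IsIso i.hom.hom :=
    inferInstanceAs (IsIso ((sheafToPresheaf (AlgSp.J S) (Type (u + 1))).map i.hom))
  refine ⟨W, BasedFunctor.comp e' (BasedFunctor.comp (AlgSt.ofSpMap i.hom) (AlgSt.toOverCat W)),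
    ?_⟩
  exact ReprInv.isEquivOver_comp he' (ReprInv.isEquivOver_comp
    (isEquivOver_ofPshMap_of_isIso i.hom.hom) (toOverCat_isEquivOver W))

/-! ### Conjunctions -/

theorem repByAlgSpWith_inf_iff (P Q : MorphismProperty (AlgSp.Sp S)) (hQ : RespectsIsoSp Q)
    (f : 𝒳 ⥤ᵇ 𝒴) :
    AlgSt.RepByAlgSpWith (P ⊓ Q) f ↔ AlgSt.RepByAlgSpWith P f ∧ AlgSt.RepByAlgSpWith Q f := by
  constructor
  · intro h
    exact ⟨repByAlgSpWith_mono (fun _ _ m hm => hm.1) f h,
      repByAlgSpWith_mono (fun _ _ m hm => hm.2) f h⟩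
  · rintro ⟨h1, h2⟩ T t
    obtain ⟨F, e, he, hP⟩ := h1 T t
    exact ⟨F, e, he, hP, (repOver_iff_of_rep' Q hQ (FibCat.fpFst t f) F e he).1 (h2 T t)⟩

/-- Quasi-separatedness in terms of the first and second diagonals. -/
theorem isQuasiSeparatedMor_iff_diag_diag (f : 𝒳 ⥤ᵇ 𝒴)
    (hΔ : AlgSt.RepByAlgSp1 (FibCat.diag f)) :
    AlgSt.IsQuasiSeparatedMor f ↔
      AlgSt.RepByAlgSpWith AlgSp.IsQuasiCompactMor (FibCat.diag f) ∧
        AlgSt.RepByAlgSpWith AlgSp.IsQuasiCompactMor (FibCat.diag (FibCat.diag f)) := by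
  change AlgSt.RepByAlgSpWith (AlgSp.IsQuasiCompactMor ⊓ AlgSp.IsQuasiSeparatedMor)
    (FibCat.diag f) ↔ _
  rw [repByAlgSpWith_inf_iff _ _ (respectsIsoSp_of_stableBC stableBC_isQuasiSeparatedMor)]
  exact and_congr_right (fun _ => (tfae_isQuasiSeparatedMor (FibCat.diag f) hΔ).out 0 1)

end Groth.Agent.Helper2.AlgStLib
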