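import Mathlib
import Groth.Prelude.Def_AlgSt2
import Groth.Agent.Lib.Helper2.AlgSt.CompEt
import Groth.Agent.Lib.Helper2.AlgSt.PFacts
import Groth.Agent.Lib.Helper2.AlgSt.RepDiagApps3

/-!
# Descending a property along a covering of the source (helper2)
-/

set_option autoImplicit false
open CategoryTheory CategoryTheory.Functor CategoryTheory.Limits AlgebraicGeometry Opposite

universe u

namespace Groth.Agent.Helper2.AlgStLib

open Groth.Agent.Helper2 Groth.Agent.Helper2.FibCatLib Groth.Agent.Helper2.StkLib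
open Groth.Agent.Helper2.AlgSpBasic Groth.Agent.Helper2.EtaleLocal

variable {S : Scheme.{u}}

theorem stableBC_inf {P Q : MorphismProperty (AlgSp.Sp S)} (hP : StableBC P) (hQ : StableBC Q) :
    StableBC (P ⊓ Q) := by
  intro X₁ Y₁ X₂ Y₂ h1 h2 h3 h4 a b a' b' sq ha
  exact ⟨hP h1 h2 h3 h4 a b a' b' sq ha.1, hQ h1 h2 h3 h4 a b a' b' sq ha.2⟩

theorem atlasLocal_inf {P Q : MorphismProperty (AlgSp.Sp S)} (hP : AtlasLocal P)
    (hQ : AtlasLocal Q) : AtlasLocal (P ⊓ Q) := by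
  intro G hG V p hpe hps F a₀ hF X₁ snd fst hX₁ sq h
  exact ⟨hP hG V p hpe hps a₀ hF X₁ snd fst hX₁ sq h.1, hQ hG V p hpe hps a₀ hF X₁ snd fst hX₁ sq h.2⟩

variable {𝒳 𝒴 𝒵 : BasedCategory.{u, u + 1} (Over S)}

/-- If `x ⋙ y` has `P`, `x` has `Q`, and `P` descends along morphisms of algebraic spaces with
`Q` on the source, then `y` has `P`. -/
theorem repByAlgSpWith_of_comp_cover (h𝒳 : FibCat.IsFibGrpd 𝒳.p) (h𝒴 : FibCat.IsFibGrpd 𝒴.p)
    (P : MorphismProperty (AlgSp.Sp S)) (hPb : StableBC P)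
    (Q : MorphismProperty (AlgSp.Sp S)) (hQb : StableBC Q) (hQ : AtlasLocal Q)
    (hPQ : ∀ ⦃X Y Z : AlgSp.Sp S⦄, AlgSp.IsAlgSpace X → AlgSp.IsAlgSpace Y → AlgSp.IsAlgSpace Z →
      ∀ (a : X ⟶ Y) (b : Y ⟶ Z), Q a → P (a ≫ b) → P b)
    (x : 𝒳 ⥤ᵇ 𝒴) (y : 𝒴 ⥤ᵇ 𝒵) (hy : AlgSt.RepByAlgSp1 y) (hx : AlgSt.RepByAlgSpWith Q x)
    (h : AlgSt.RepByAlgSpWith P (BasedFunctor.comp x y)) : AlgSt.RepByAlgSpWith P y := by
  intro U z
  obtain ⟨G, eG, heG⟩ := hy U z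
  let w : AlgSt.ofSp G.obj ⥤ᵇ 𝒴 := BasedFunctor.comp eG (FibCat.fpSnd z y)
  obtain ⟨F, eF, heF, hQF⟩ := exists_rep_fp_of_space' h𝒳 h𝒴 Q hQb hQ x hx G w
  obtain ⟨Φ, hΦ, hΦ1, -⟩ := exists_equiv_fp_left w (FibCat.fpSnd z y) x eG heG (Iso.refl _)
  let E : AlgSt.ofSp F.obj ⥤ᵇ FibCat.fp z (BasedFunctor.comp x y) :=
    BasedFunctor.comp (BasedFunctor.comp eF Φ) (Paste.pasteA z y x)
  have hE : FibCat.IsEquivOver E := ReprInv.isEquivOver_comp (ReprInv.isEquivOver_comp heF hΦ)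
    (Paste.pasteA_isEquivOver z y x)
  have h1 : BasedFunctor.comp E (FibCat.fpFst z (BasedFunctor.comp x y)) =
      BasedFunctor.comp (BasedFunctor.comp eF (FibCat.fpFst w x))
        (BasedFunctor.comp eG (FibCat.fpFst z y)) := by
    change BasedFunctor.comp eF (BasedFunctor.comp
      (BasedFunctor.comp Φ (FibCat.fpFst (FibCat.fpSnd z y) x)) (FibCat.fpFst z y)) = _
    rw [hΦ1]
    rfl
  have h2 := (repOver_iff_of_rep' P (respectsIsoSp_of_stableBC hPb)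
    (FibCat.fpFst z (BasedFunctor.comp x y)) F E hE).1 (h U z)
  rw [h1, spMapOfOver_comp] at h2
  exact ⟨G, eG, heG, hPQ F.property G.property (AlgSp.IsAlgSpace.yon_obj U) _ _ hQF h2⟩

end Groth.Agent.Helper2.AlgStLib
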