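import Mathlib
import Groth.Prelude.Def_AlgSt3
import Groth.Agent.Lib.Helper2.AlgSt.CompEt
import Groth.Agent.Lib.Helper2.AlgSt.RepDiag
import Groth.Agent.Lib.Helper2.FibCat.FpProd

/-!
# The diagonal of a product of two functors (helper2)
-/

set_option autoImplicit false
open CategoryTheory CategoryTheory.Functor CategoryTheory.Limits AlgebraicGeometry Opposite

universe u

namespace Groth.Agent.Helper2.AlgStLib

open Groth.Agent.Helper2 Groth.Agent.Helper2.FibCatLib Groth.Agent.Helper2.StkLib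
open Groth.Agent.Helper2.AlgSpBasic Groth.Agent.Helper2.EtaleLocal

variable {S : Scheme.{u}} {𝒳 𝒴 𝒳' 𝒴' 𝒵 : BasedCategory.{u, u + 1} (Over S)}

/-- Properties of the diagonal are invariant under 2-isomorphisms. -/
theorem repByAlgSpWith_diag_congr (P : MorphismProperty (AlgSp.Sp S)) {f f' : 𝒳 ⥤ᵇ 𝒴}
    (e : f' ≅ f) :
    AlgSt.RepByAlgSpWith P (FibCat.diag f) ↔ AlgSt.RepByAlgSpWith P (FibCat.diag f') :=
  repByAlgSpWith_diag_of_square P f f' (BasedFunctor.id _) (BasedFunctor.id _)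
    ReprInv.isEquivOver_id ReprInv.isEquivOver_id e

/-- The diagonal of the second projection `𝒳 ×_𝒴 𝒵 ⟶ 𝒵` is a base change of the diagonal of
`𝒳 ⟶ 𝒴`. -/
theorem repByAlgSpWith_diag_fpSnd (P : MorphismProperty (AlgSp.Sp S)) (f : 𝒳 ⥤ᵇ 𝒴) (g : 𝒵 ⥤ᵇ 𝒴)
    (hf : AlgSt.RepByAlgSpWith P (FibCat.diag f)) :
    AlgSt.RepByAlgSpWith P (FibCat.diag (FibCat.fpSnd f g)) :=
  (repByAlgSpWith_diag_of_square P (FibCat.fpFst g f) (FibCat.fpSnd f g) (FpSwap.fpSwap f g)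
    (BasedFunctor.id _) (FpSwap.fpSwap_isEquivOver f g) ReprInv.isEquivOver_id (Iso.refl _)).1
    (repByAlgSpWith_diag_fpFst P f g hf)

theorem repByAlgSpWith_diag_F1 (P : MorphismProperty (AlgSp.Sp S)) (f : 𝒳 ⥤ᵇ 𝒳')
    (p' : 𝒳' ⥤ᵇ 𝒵) (B : 𝒴 ⥤ᵇ 𝒵) (hf : AlgSt.RepByAlgSpWith P (FibCat.diag f)) :
    AlgSt.RepByAlgSpWith P (FibCat.diag (FpProd.F1 f p' B)) :=
  (repByAlgSpWith_diag_of_square P (FpProd.F1 f p' B) (FibCat.fpSnd f (FibCat.fpFst p' B))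
    (Paste.pasteB f p' B) (BasedFunctor.id _) (Paste.pasteB_isEquivOver f p' B)
    ReprInv.isEquivOver_id (FpProd.isoF1 f p' B).symm).2
    (repByAlgSpWith_diag_fpSnd P f (FibCat.fpFst p' B) hf)

theorem repByAlgSpWith_diag_F2 (P : MorphismProperty (AlgSp.Sp S)) (p' : 𝒳' ⥤ᵇ 𝒵)
    (g : 𝒴 ⥤ᵇ 𝒴') (q' : 𝒴' ⥤ᵇ 𝒵) (hg : AlgSt.RepByAlgSpWith P (FibCat.diag g)) :
    AlgSt.RepByAlgSpWith P (FibCat.diag (FpProd.F2 p' g q')) :=
  (repByAlgSpWith_diag_of_square P (FpProd.F2 p' g q') (FibCat.fpFst (FibCat.fpSnd p' q') g)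
    (Paste.pasteA p' q' g) (BasedFunctor.id _) (Paste.pasteA_isEquivOver p' q' g)
    ReprInv.isEquivOver_id (FpProd.isoF2 p' g q').symm).2
    (repByAlgSpWith_diag_fpFst P g (FibCat.fpSnd p' q') hg)

/-- The diagonal of `f ×_𝒵 g` has `P` as soon as the diagonals of `f` and `g` have `P`. -/
theorem repByAlgSpWith_diag_fpProd (h𝒳 : FibCat.IsFibGrpd 𝒳.p) (h𝒴 : FibCat.IsFibGrpd 𝒴.p)
    (h𝒳' : FibCat.IsFibGrpd 𝒳'.p) (h𝒵 : FibCat.IsFibGrpd 𝒵.p)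
    (P : MorphismProperty (AlgSp.Sp S)) (hPb : StableBC P) (hPc : StableComp P)
    (hP : AtlasLocal P) (f : 𝒳 ⥤ᵇ 𝒳') (g : 𝒴 ⥤ᵇ 𝒴') (p' : 𝒳' ⥤ᵇ 𝒵) (q' : 𝒴' ⥤ᵇ 𝒵)
    (e : BasedFunctor.comp (BasedFunctor.comp (FibCat.fpFst (BasedFunctor.comp f p')
        (BasedFunctor.comp g q')) f) p' ≅
      BasedFunctor.comp (BasedFunctor.comp (FibCat.fpSnd (BasedFunctor.comp f p')
        (BasedFunctor.comp g q')) g) q')
    (he : ∀ x, e.hom.toNatTrans.app x = x.obj.iso.hom)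
    (hf : AlgSt.RepByAlgSpWith P (FibCat.diag f)) (hg : AlgSt.RepByAlgSpWith P (FibCat.diag g)) :
    AlgSt.RepByAlgSpWith P (FibCat.diag
      (FibCat.fpLift (BasedFunctor.comp (FibCat.fpFst (BasedFunctor.comp f p')
          (BasedFunctor.comp g q')) f)
        (BasedFunctor.comp (FibCat.fpSnd (BasedFunctor.comp f p') (BasedFunctor.comp g q')) g)
        e)) := by
  have h1 := repByAlgSpWith_diag_F1 P f p' (BasedFunctor.comp g q') hf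
  have h2 := repByAlgSpWith_diag_F2 P p' g q' hg
  have hA : FibCat.IsFibGrpd (FibCat.fp (BasedFunctor.comp f p') (BasedFunctor.comp g q')).p :=
    isFibGrpd_fp _ _ h𝒳 h𝒴 h𝒵
  have hB : FibCat.IsFibGrpd (FibCat.fp p' (BasedFunctor.comp g q')).p :=
    isFibGrpd_fp _ _ h𝒳' h𝒴 h𝒵
  have h3 := repByAlgSpWith_diag_comp' hA hB P hPb hPc hP _ _ h1 h2
  exact (repByAlgSpWith_diag_congr P (FpProd.isoF f g p' q' e he)).1 h3

end Groth.Agent.Helper2.AlgStLib
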