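import Mathlib
import Groth.Prelude.Def_AlgSt3
import Groth.Agent.Lib.Helper2.AlgSt.FpProdDiag
import Groth.Agent.Lib.Helper2.AlgSt.Atlas
import Groth.Agent.Lib.Helper2.AlgSt.Equiv
import Groth.Agent.Lib.Helper2.AlgSt.DiagCover
import Groth.Agent.Lib.Helper2.AlgSt.RepDiagApps3
import Groth.Agent.Lib.Helper2.FibCat.DiagRepFwd
import Groth.Agent.Lib.Helper2.FibCat.DiagRepBack
import Groth.Agent.S12765
import Groth.Agent.S12792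

/-!
# 2-fibre products of algebraic stacks (helper2)
-/

set_option autoImplicit false
open CategoryTheory CategoryTheory.Functor CategoryTheory.Limits AlgebraicGeometry Opposite

universe u

namespace Groth.Agent.Helper2.AlgStLib

open Groth.Agent.Helper2 Groth.Agent.Helper2.FibCatLib Groth.Agent.Helper2.StkLib
open Groth.Agent.Helper2.AlgSpBasic Groth.Agent.Helper2.EtaleLocal

variable {S : Scheme.{u}} {𝒳 𝒴 𝒳' 𝒴' 𝒵 𝒲 𝒯 : BasedCategory.{u, u + 1} (Over S)}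

theorem isPrestack_of_isStack {J : GrothendieckTopology (Over S)} (h : Stk.IsStack J 𝒵) :
    Stk.IsPrestack J 𝒵 :=
  ⟨h.1, fun _ R hR => by
    have := h.2 R hR
    have : (Stk.resSieve R 𝒵).IsEquivalence := this
    exact ⟨inferInstance, inferInstance⟩⟩

theorem atlasLocal_top : AtlasLocal (S := S) ⊤ := by
  intro G _ V p _ _ F a₀ _ X₁ snd fst _ _ _
  trivial

/-- The absolute diagonal of a 2-fibre product is representable by algebraic spaces as soon as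
the absolute diagonals of the three categories are. -/
theorem repByAlgSp1_diag_fp (h𝒳 : FibCat.IsFibGrpd 𝒳.p) (h𝒴 : FibCat.IsFibGrpd 𝒴.p)
    (h𝒵 : FibCat.IsFibGrpd 𝒵.p) (f : 𝒳 ⥤ᵇ 𝒵) (g : 𝒴 ⥤ᵇ 𝒵)
    (hΔ𝒳 : AlgSt.RepByAlgSp1 (FibCat.diag (FibCat.toSelf 𝒳)))
    (hΔ𝒴 : AlgSt.RepByAlgSp1 (FibCat.diag (FibCat.toSelf 𝒴)))
    (hΔ𝒵 : AlgSt.RepByAlgSp1 (FibCat.diag (FibCat.toSelf 𝒵))) :
    AlgSt.RepByAlgSp1 (FibCat.diag (FibCat.toSelf (FibCat.fp f g))) := by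
  have hg : AlgSt.RepByAlgSpWith ⊤ (FibCat.diag g) :=
    (repByAlgSp1_iff_top _).1 (repByAlgSp1_diag_of_diag g hΔ𝒴 hΔ𝒵)
  have hb : AlgSt.RepByAlgSpWith ⊤ (FibCat.diag (FibCat.fpFst f g)) :=
    repByAlgSpWith_diag_fpFst ⊤ g f hg
  have h𝒯 : FibCat.IsFibGrpd (FibCat.fp f g).p := isFibGrpd_fp f g h𝒳 h𝒴 h𝒵
  have h1 := repByAlgSpWith_diag_comp' h𝒯 h𝒳 ⊤ stableBC_top stableComp_top atlasLocal_top
    (FibCat.fpFst f g) (FibCat.toSelf 𝒳) hb ((repByAlgSp1_iff_top _).1 hΔ𝒳)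
  rw [comp_toSelf] at h1
  exact (repByAlgSp1_iff_top _).2 h1

/-- A smooth surjective functor from a category representable by an algebraic space gives a
smooth atlas. -/
theorem hasAtlas_smooth_of_cover (h𝒲 : FibCat.IsFibGrpd 𝒲.p) (hW : AlgSt.RepByAlgSp 𝒲)
    (c : 𝒲 ⥤ᵇ 𝒯) (hc1 : AlgSt.RepByAlgSpWith (AlgSp.LocP @Smooth) c)
    (hc2 : AlgSt.RepByAlgSpWith AlgSp.IsSurjectiveMor c) :
    AlgSt.HasAtlas (AlgSp.LocP @Smooth) 𝒯 := by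
  obtain ⟨F, e, he⟩ := hW
  have hg : ∀ P : MorphismProperty (AlgSp.Sp S), AlgSt.RepByAlgSpWith P c →
      AlgSt.RepByAlgSpWith P (BasedFunctor.comp e c) := by
    intro P hc
    exact (repByAlgSpWith_of_square P c (BasedFunctor.comp e c) e (BasedFunctor.id 𝒯) he
      ReprInv.isEquivOver_id (Iso.refl _)).1 hc
  obtain ⟨V, x₀, hx1, hx2⟩ := (hasAtlas_ofSp F).2
  have := smooth_surjective_comp (isFibGrpd_overCat V) (Stk.isFibGrpd_ofPsh F.obj.obj) x₀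
    (BasedFunctor.comp e c) ⟨hx1, hx2⟩ ⟨hg _ hc1, hg _ hc2⟩
  exact ⟨V, BasedFunctor.comp x₀ (BasedFunctor.comp e c), this.1, this.2⟩

theorem repByAlgSpWith_F1 (P : MorphismProperty (AlgSp.Sp S)) (f : 𝒳 ⥤ᵇ 𝒳')
    (p' : 𝒳' ⥤ᵇ 𝒵) (B : 𝒴 ⥤ᵇ 𝒵) (hf : AlgSt.RepByAlgSpWith P f) :
    AlgSt.RepByAlgSpWith P (FpProd.F1 f p' B) :=
  (repByAlgSpWith_of_square P (FpProd.F1 f p' B) (FibCat.fpSnd f (FibCat.fpFst p' B))
    (Paste.pasteB f p' B) (BasedFunctor.id _) (Paste.pasteB_isEquivOver f p' B)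
    ReprInv.isEquivOver_id (FpProd.isoF1 f p' B).symm).2
    (repByAlgSpWith_fpSnd P f (FibCat.fpFst p' B) hf)

theorem repByAlgSpWith_F2 (P : MorphismProperty (AlgSp.Sp S)) (p' : 𝒳' ⥤ᵇ 𝒵)
    (g : 𝒴 ⥤ᵇ 𝒴') (q' : 𝒴' ⥤ᵇ 𝒵) (hg : AlgSt.RepByAlgSpWith P g) :
    AlgSt.RepByAlgSpWith P (FpProd.F2 p' g q') :=
  (repByAlgSpWith_of_square P (FpProd.F2 p' g q') (FibCat.fpFst (FibCat.fpSnd p' q') g)
    (Paste.pasteA p' q' g) (BasedFunctor.id _) (Paste.pasteA_isEquivOver p' q' g)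
    ReprInv.isEquivOver_id (FpProd.isoF2 p' g q').symm).2
    (repByAlgSpWith_fpFst P g (FibCat.fpSnd p' q') hg)

/-- The product over `𝒵` of two functors with `P` has `P`. -/
theorem repByAlgSpWith_fpProd (h𝒳 : FibCat.IsFibGrpd 𝒳.p) (h𝒴 : FibCat.IsFibGrpd 𝒴.p)
    (h𝒳' : FibCat.IsFibGrpd 𝒳'.p) (h𝒵 : FibCat.IsFibGrpd 𝒵.p)
    (P : MorphismProperty (AlgSp.Sp S)) (hPb : StableBC P) (hPc : StableComp P)
    (hP : AtlasLocal P) (f : 𝒳 ⥤ᵇ 𝒳') (g : 𝒴 ⥤ᵇ 𝒴') (p' : 𝒳' ⥤ᵇ 𝒵) (q' : 𝒴' ⥤ᵇ 𝒵)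
    (hf : AlgSt.RepByAlgSpWith P f) (hg : AlgSt.RepByAlgSpWith P g) :
    AlgSt.RepByAlgSpWith P
      (BasedFunctor.comp (FpProd.F1 f p' (BasedFunctor.comp g q')) (FpProd.F2 p' g q')) := by
  have hA : FibCat.IsFibGrpd (FibCat.fp (BasedFunctor.comp f p') (BasedFunctor.comp g q')).p :=
    isFibGrpd_fp _ _ h𝒳 h𝒴 h𝒵
  have hB : FibCat.IsFibGrpd (FibCat.fp p' (BasedFunctor.comp g q')).p :=
    isFibGrpd_fp _ _ h𝒳' h𝒴 h𝒵
  exact repByAlgSpWith_comp' hA hB P hPb hPc hP _ _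
    (repByAlgSpWith_F1 P f p' (BasedFunctor.comp g q') hf) (repByAlgSpWith_F2 P p' g q' hg)

/-- The 2-fibre product of two categories with smooth atlases over a category whose diagonal is
representable by algebraic spaces has a smooth atlas. -/
theorem hasAtlas_smooth_fp (h𝒳 : FibCat.IsFibGrpd 𝒳.p) (h𝒴 : FibCat.IsFibGrpd 𝒴.p)
    (h𝒵 : FibCat.IsFibGrpd 𝒵.p) (hΔ𝒵 : AlgSt.RepByAlgSp1 (FibCat.diag (FibCat.toSelf 𝒵)))
    (f : 𝒳 ⥤ᵇ 𝒵) (g : 𝒴 ⥤ᵇ 𝒵) (hX : AlgSt.HasAtlas (AlgSp.LocP @Smooth) 𝒳)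
    (hY : AlgSt.HasAtlas (AlgSp.LocP @Smooth) 𝒴) :
    AlgSt.HasAtlas (AlgSp.LocP @Smooth) (FibCat.fp f g) := by
  obtain ⟨U, u, hu1, hu2⟩ := hX
  obtain ⟨V, v, hv1, hv2⟩ := hY
  have hU := isFibGrpd_overCat U
  have hV := isFibGrpd_overCat V
  have hW : AlgSt.RepByAlgSp (FibCat.fp (BasedFunctor.comp u f) (BasedFunctor.comp v g)) :=
    (Groth.Agent.S12765.result h𝒵).1 hΔ𝒵 V (BasedFunctor.comp v g) U (BasedFunctor.comp u f)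
  have h𝒲 : FibCat.IsFibGrpd (FibCat.fp (BasedFunctor.comp u f) (BasedFunctor.comp v g)).p :=
    isFibGrpd_fp _ _ hU hV h𝒵
  refine hasAtlas_smooth_of_cover h𝒲 hW
    (BasedFunctor.comp (FpProd.F1 u f (BasedFunctor.comp v g)) (FpProd.F2 f v g)) ?_ ?_
  · exact repByAlgSpWith_fpProd hU hV h𝒳 h𝒵 _ (stableBC_locP @Smooth) (stableComp_locP @Smooth)
      (atlasLocal_of_fppf isLocalOnBase_fppf_locP_smooth) u v f g hu1 hv1
  · exact repByAlgSpWith_fpProd hU hV h𝒳 h𝒵 _ stableBC_isSurjectiveMor stableComp_isSurjectiveMor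
      (atlasLocal_of_fppf isLocalOnBase_fppf_isSurjectiveMor) u v f g hu2 hv2

section SelfOver

theorem basedFunctor_ext {𝒜 ℬ : BasedCategory.{u, u + 1} (Over S)} (A B : 𝒜 ⥤ᵇ ℬ)
    (h : A.toFunctor = B.toFunctor) : A = B := by
  cases A; cases B
  cases h
  rfl

theorem eq_toSelf (A : 𝒲 ⥤ᵇ FibCat.selfOver (Over S)) : A = FibCat.toSelf 𝒲 :=
  basedFunctor_ext _ _ (DiagRepFwd.toFunctor_eq_of_toSelf A (FibCat.toSelf 𝒲))

theorem hom_toSelf_subsingleton (A B : 𝒲 ⥤ᵇ FibCat.selfOver (Over S)) (α β : A ⟶ B) : α = β := by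
  apply BasedNatTrans.homCategory.ext
  ext a
  have h1 := IsHomLift.fac' (FibCat.selfOver (Over S)).p (𝟙 (𝒲.p.obj a)) (α.toNatTrans.app a)
  have h2 := IsHomLift.fac' (FibCat.selfOver (Over S)).p (𝟙 (𝒲.p.obj a)) (β.toNatTrans.app a)
  exact h1.trans h2.symm

theorem isPrestack_selfOver (J : GrothendieckTopology (Over S)) :
    Stk.IsPrestack J (FibCat.selfOver (Over S)) := by
  refine ⟨DiagRepBack.isFibGrpd_selfOver, fun U R _ => ⟨⟨fun {A B} α => ?_⟩, ⟨fun {A B} α β _ => ?_⟩⟩⟩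
  · exact ⟨(DiagRepFwd.isoToSelf A B).hom, hom_toSelf_subsingleton _ _ _ _⟩
  · exact hom_toSelf_subsingleton _ _ _ _

/-- The diagonal of the base category over itself is representable by algebraic spaces. -/
theorem repByAlgSp1_diag_toSelf_selfOver :
    AlgSt.RepByAlgSp1 (FibCat.diag (FibCat.toSelf (FibCat.selfOver (Over S)))) := by
  refine (Groth.Agent.S12765.result DiagRepBack.isFibGrpd_selfOver).2 ?_
  intro U x V y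
  rw [eq_toSelf x, eq_toSelf y]
  exact repByAlgSp_prod (repByAlgSp_overCat V) (repByAlgSp_overCat U)

end SelfOver

section GeneralAtlas

variable (Q : MorphismProperty Scheme.{u}) [IsEtaleLocalST Q]

theorem locP_surjective_comp (hQl : AtlasLocal (S := S) (AlgSp.LocP Q))
    (h𝒳 : FibCat.IsFibGrpd 𝒳.p) (h𝒴 : FibCat.IsFibGrpd 𝒴.p) (f : 𝒳 ⥤ᵇ 𝒴) (g : 𝒴 ⥤ᵇ 𝒵)
    (hf : AlgSt.RepByAlgSpWith (AlgSp.LocP Q) f ∧
      AlgSt.RepByAlgSpWith AlgSp.IsSurjectiveMor f)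
    (hg : AlgSt.RepByAlgSpWith (AlgSp.LocP Q) g ∧
      AlgSt.RepByAlgSpWith AlgSp.IsSurjectiveMor g) :
    AlgSt.RepByAlgSpWith (AlgSp.LocP Q) (BasedFunctor.comp f g) ∧
      AlgSt.RepByAlgSpWith AlgSp.IsSurjectiveMor (BasedFunctor.comp f g) :=
  ⟨repByAlgSpWith_comp' h𝒳 h𝒴 _ (stableBC_locP Q) (stableComp_locP Q) hQl f g hf.1 hg.1,
    repByAlgSpWith_comp h𝒳 h𝒴 _ stableBC_isSurjectiveMor stableComp_isSurjectiveMor
      isLocalOnBase_fppf_isSurjectiveMor f g hf.2 hg.2⟩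

/-- A surjective functor with `Q` from a category representable by an algebraic space gives an
atlas with `Q`, provided algebraic spaces have such atlases. -/
theorem hasAtlas_locP_of_cover (hQl : AtlasLocal (S := S) (AlgSp.LocP Q))
    (hat : ∀ F : AlgSp.Space S, AlgSt.HasAtlas (AlgSp.LocP Q) (AlgSt.ofSp F.obj))
    (hW : AlgSt.RepByAlgSp 𝒲)
    (c : 𝒲 ⥤ᵇ 𝒯) (hc1 : AlgSt.RepByAlgSpWith (AlgSp.LocP Q) c)
    (hc2 : AlgSt.RepByAlgSpWith AlgSp.IsSurjectiveMor c) :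
    AlgSt.HasAtlas (AlgSp.LocP Q) 𝒯 := by
  obtain ⟨F, e, he⟩ := hW
  have hg : ∀ P : MorphismProperty (AlgSp.Sp S), AlgSt.RepByAlgSpWith P c →
      AlgSt.RepByAlgSpWith P (BasedFunctor.comp e c) := by
    intro P hc
    exact (repByAlgSpWith_of_square P c (BasedFunctor.comp e c) e (BasedFunctor.id 𝒯) he
      ReprInv.isEquivOver_id (Iso.refl _)).1 hc
  obtain ⟨V, x₀, hx1, hx2⟩ := hat F
  have := locP_surjective_comp Q hQl (isFibGrpd_overCat V) (Stk.isFibGrpd_ofPsh F.obj.obj) x₀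
    (BasedFunctor.comp e c) ⟨hx1, hx2⟩ ⟨hg _ hc1, hg _ hc2⟩
  exact ⟨V, BasedFunctor.comp x₀ (BasedFunctor.comp e c), this.1, this.2⟩

theorem hasAtlas_locP_fp (hQl : AtlasLocal (S := S) (AlgSp.LocP Q))
    (hat : ∀ F : AlgSp.Space S, AlgSt.HasAtlas (AlgSp.LocP Q) (AlgSt.ofSp F.obj))
    (h𝒳 : FibCat.IsFibGrpd 𝒳.p) (h𝒴 : FibCat.IsFibGrpd 𝒴.p)
    (h𝒵 : FibCat.IsFibGrpd 𝒵.p) (hΔ𝒵 : AlgSt.RepByAlgSp1 (FibCat.diag (FibCat.toSelf 𝒵)))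
    (f : 𝒳 ⥤ᵇ 𝒵) (g : 𝒴 ⥤ᵇ 𝒵) (hX : AlgSt.HasAtlas (AlgSp.LocP Q) 𝒳)
    (hY : AlgSt.HasAtlas (AlgSp.LocP Q) 𝒴) :
    AlgSt.HasAtlas (AlgSp.LocP Q) (FibCat.fp f g) := by
  obtain ⟨U, u, hu1, hu2⟩ := hX
  obtain ⟨V, v, hv1, hv2⟩ := hY
  have hU := isFibGrpd_overCat U
  have hV := isFibGrpd_overCat V
  have hW : AlgSt.RepByAlgSp (FibCat.fp (BasedFunctor.comp u f) (BasedFunctor.comp v g)) :=
    (Groth.Agent.S12765.result h𝒵).1 hΔ𝒵 V (BasedFunctor.comp v g) U (BasedFunctor.comp u f)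
  refine hasAtlas_locP_of_cover Q hQl hat hW
    (BasedFunctor.comp (FpProd.F1 u f (BasedFunctor.comp v g)) (FpProd.F2 f v g)) ?_ ?_
  · exact repByAlgSpWith_fpProd hU hV h𝒳 h𝒵 _ (stableBC_locP Q) (stableComp_locP Q)
      hQl u v f g hu1 hv1
  · exact repByAlgSpWith_fpProd hU hV h𝒳 h𝒵 _ stableBC_isSurjectiveMor stableComp_isSurjectiveMor
      (atlasLocal_of_fppf isLocalOnBase_fppf_isSurjectiveMor) u v f g hu2 hv2

end GeneralAtlas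

/-- Étale atlases in terms of `LocP`. -/
theorem hasAtlas_isEtaleMor_iff : AlgSt.HasAtlas AlgSp.IsEtaleMor 𝒳 ↔
    AlgSt.HasAtlas (AlgSp.LocP @Etale) 𝒳 := by
  constructor
  · rintro ⟨U, x, h1, h2⟩
    exact ⟨U, x, repByAlgSpWith_mono' x (fun F T m hm => (isEtaleMor_iff_locP_etale F.property
      (AlgSp.IsAlgSpace.yon_obj T) m).1 hm) h1, h2⟩
  · rintro ⟨U, x, h1, h2⟩
    exact ⟨U, x, repByAlgSpWith_mono' x (fun F T m hm => (isEtaleMor_iff_locP_etale F.property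
      (AlgSp.IsAlgSpace.yon_obj T) m).2 hm) h1, h2⟩

/-- The 2-fibre product of categories with étale atlases has an étale atlas. -/
theorem hasAtlas_etale_fp (h𝒳 : FibCat.IsFibGrpd 𝒳.p) (h𝒴 : FibCat.IsFibGrpd 𝒴.p)
    (h𝒵 : FibCat.IsFibGrpd 𝒵.p) (hΔ𝒵 : AlgSt.RepByAlgSp1 (FibCat.diag (FibCat.toSelf 𝒵)))
    (f : 𝒳 ⥤ᵇ 𝒵) (g : 𝒴 ⥤ᵇ 𝒵) (hX : AlgSt.HasAtlas AlgSp.IsEtaleMor 𝒳)
    (hY : AlgSt.HasAtlas AlgSp.IsEtaleMor 𝒴) :
    AlgSt.HasAtlas AlgSp.IsEtaleMor (FibCat.fp f g) :=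
  hasAtlas_isEtaleMor_iff.2 (hasAtlas_locP_fp @Etale
    (atlasLocal_of_fppf (isLocalOnBase_fppf_of_fpqc (isLocalOnBase_fpqc_locP @Etale)))
    (fun F => hasAtlas_isEtaleMor_iff.1 (hasAtlas_ofSp F).1) h𝒳 h𝒴 h𝒵 hΔ𝒵 f g
    (hasAtlas_isEtaleMor_iff.1 hX) (hasAtlas_isEtaleMor_iff.1 hY))

section LocalOnTarget

/-- The absolute diagonal of `𝒳` is representable by algebraic spaces as soon as the one of `𝒴`
is and all base changes of `𝒳 ⟶ 𝒴` to schemes have representable absolute diagonal. -/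
theorem repByAlgSp1_diag_toSelf_of_forall_fp (h𝒳 : FibCat.IsFibGrpd 𝒳.p)
    (h𝒴 : FibCat.IsFibGrpd 𝒴.p) (f : 𝒳 ⥤ᵇ 𝒴)
    (hΔ𝒴 : AlgSt.RepByAlgSp1 (FibCat.diag (FibCat.toSelf 𝒴)))
    (hf : ∀ (U : Over S) (g : FibCat.overCat U ⥤ᵇ 𝒴),
      AlgSt.RepByAlgSp1 (FibCat.diag (FibCat.toSelf (FibCat.fp g f)))) :
    AlgSt.RepByAlgSp1 (FibCat.diag (FibCat.toSelf 𝒳)) := by
  have hΔf : AlgSt.RepByAlgSpWith ⊤ (FibCat.diag f) := by
    apply repByAlgSpWith_diag_of_forall_fpFst ⊤ f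
    intro T y
    refine (repByAlgSp1_iff_top _).1 (repByAlgSp1_diag_of_diag (FibCat.fpFst y f) (hf T y) ?_)
    exact repByAlgSp1_diag_of_isEquivOver (AlgSt.toOverCat T) (toOverCat_isEquivOver T)
      (repByAlgSp1_diag_ofSp ⟨(AlgSp.yon S).obj T, AlgSp.IsAlgSpace.yon_obj T⟩)
  have h1 := repByAlgSpWith_diag_comp' h𝒳 h𝒴 ⊤ stableBC_top stableComp_top atlasLocal_top
    f (FibCat.toSelf 𝒴) hΔf ((repByAlgSp1_iff_top _).1 hΔ𝒴)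
  rw [comp_toSelf] at h1
  exact (repByAlgSp1_iff_top _).2 h1

end LocalOnTarget

end Groth.Agent.Helper2.AlgStLib
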