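import Mathlib
import Groth.Prelude.Def_AlgSt3
import Groth.Agent.Lib.Helper2.AlgSt.RepDiagApps3
import Groth.Agent.Lib.Helper2.FibCat.InertiaFp
import Groth.Agent.Lib.Helper2.AlgSp.UnramDiag

/-!
# The relative inertia of a functor between algebraic stacks (helper2)
-/

set_option autoImplicit false
open CategoryTheory CategoryTheory.Functor CategoryTheory.Limits AlgebraicGeometry Opposite

universe u

namespace Groth.Agent.Helper2.AlgStLib

open Groth.Agent.Helper2 Groth.Agent.Helper2.FibCatLib Groth.Agent.Helper2.StkLib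
open Groth.Agent.Helper2.AlgSpBasic Groth.Agent.Helper2.EtaleLocal

variable {S : Scheme.{u}} {𝒳 𝒴 : BasedCategory.{u, u + 1} (Over S)}

/-- The structure functor of the inertia is the base change of the diagonal along itself. -/
theorem repByAlgSpWith_inertiaToBase_iff (P : MorphismProperty (AlgSp.Sp S)) (f : 𝒳 ⥤ᵇ 𝒴) :
    AlgSt.RepByAlgSpWith P (FibCat.inertiaToBase f) ↔
      AlgSt.RepByAlgSpWith P (FibCat.fpFst (FibCat.diag f) (FibCat.diag f)) :=
  repByAlgSpWith_of_square P (FibCat.inertiaToBase f)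
    (FibCat.fpFst (FibCat.diag f) (FibCat.diag f)) (InertiaFp.Φ f) (BasedFunctor.id 𝒳)
    (InertiaFp.Φ_isEquivOver f) ReprInv.isEquivOver_id (Iso.refl _)

/-- The neutral section of the inertia is the second diagonal. -/
theorem repByAlgSpWith_inertiaNeutral_iff (P : MorphismProperty (AlgSp.Sp S)) (f : 𝒳 ⥤ᵇ 𝒴) :
    AlgSt.RepByAlgSpWith P (FibCat.inertiaNeutral f) ↔
      AlgSt.RepByAlgSpWith P (FibCat.diag (FibCat.diag f)) :=
  repByAlgSpWith_of_square P (FibCat.inertiaNeutral f) (FibCat.diag (FibCat.diag f))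
    (BasedFunctor.id 𝒳) (InertiaFp.Φ f) ReprInv.isEquivOver_id (InertiaFp.Φ_isEquivOver f)
    (InertiaFp.neutralIso f)

/-- A property of the diagonal passes to the structure functor of the inertia. -/
theorem repByAlgSpWith_inertiaToBase_of_diag (P : MorphismProperty (AlgSp.Sp S)) (f : 𝒳 ⥤ᵇ 𝒴)
    (h : AlgSt.RepByAlgSpWith P (FibCat.diag f)) :
    AlgSt.RepByAlgSpWith P (FibCat.inertiaToBase f) :=
  (repByAlgSpWith_inertiaToBase_iff P f).2 (repByAlgSpWith_fpFst P (FibCat.diag f) (FibCat.diag f) h)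

/-- The neutral section is a section of the structure functor. -/
theorem repByAlgSpWith_inertiaNeutral_of_diag (P : MorphismProperty (AlgSp.Sp S)) (f : 𝒳 ⥤ᵇ 𝒴)
    (h : AlgSt.RepByAlgSpWith P (FibCat.diag (FibCat.inertiaToBase f))) :
    AlgSt.RepByAlgSpWith P (FibCat.inertiaNeutral f) :=
  repByAlgSpWith_section P (FibCat.inertiaToBase f) (FibCat.inertiaNeutral f) (Iso.refl _) h

theorem tfae_inertia_separated (f : 𝒳 ⥤ᵇ 𝒴) (hΔ : AlgSt.RepByAlgSp1 (FibCat.diag f)) :
    [AlgSt.RepByAlgSpWith AlgSp.IsSeparatedMor (FibCat.inertiaToBase f),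
      AlgSt.RepByAlgSpWith AlgSp.IsSeparatedMor (FibCat.diag f),
      AlgSt.IsClosedImm (FibCat.inertiaNeutral f)].TFAE := by
  tfae_have 2 → 1 := repByAlgSpWith_inertiaToBase_of_diag _ f
  tfae_have 1 → 3 := by
    intro h
    have hI : AlgSt.RepByAlgSp1 (FibCat.inertiaToBase f) := repByAlgSp1_of_repByAlgSpWith _ h
    exact repByAlgSpWith_inertiaNeutral_of_diag _ f
      (((tfae_isSeparatedMor (FibCat.inertiaToBase f) hI).out 0 1).1 h)
  tfae_have 3 → 2 := by
    intro h
    have h2 : AlgSt.IsClosedImm (FibCat.diag (FibCat.diag f)) :=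
      (repByAlgSpWith_inertiaNeutral_iff _ f).1 h
    exact ((tfae_isSeparatedMor (FibCat.diag f) hΔ).out 1 0).1 h2
  tfae_finish

theorem tfae_inertia_quasiSeparated (f : 𝒳 ⥤ᵇ 𝒴) (hΔ : AlgSt.RepByAlgSp1 (FibCat.diag f)) :
    [AlgSt.RepByAlgSpWith AlgSp.IsQuasiSeparatedMor (FibCat.inertiaToBase f),
      AlgSt.RepByAlgSpWith AlgSp.IsQuasiSeparatedMor (FibCat.diag f),
      AlgSt.RepByAlgSpWith AlgSp.IsQuasiCompactMor (FibCat.inertiaNeutral f)].TFAE := by
  tfae_have 2 → 1 := repByAlgSpWith_inertiaToBase_of_diag _ f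
  tfae_have 1 → 3 := by
    intro h
    have hI : AlgSt.RepByAlgSp1 (FibCat.inertiaToBase f) := repByAlgSp1_of_repByAlgSpWith _ h
    exact repByAlgSpWith_inertiaNeutral_of_diag _ f
      (((tfae_isQuasiSeparatedMor (FibCat.inertiaToBase f) hI).out 0 1).1 h)
  tfae_have 3 → 2 := by
    intro h
    have h2 : AlgSt.RepByAlgSpWith AlgSp.IsQuasiCompactMor (FibCat.diag (FibCat.diag f)) :=
      (repByAlgSpWith_inertiaNeutral_iff _ f).1 h
    exact ((tfae_isQuasiSeparatedMor (FibCat.diag f) hΔ).out 1 0).1 h2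
  tfae_finish

/-! ### Unramified -/

/-- If every base change to a scheme of the diagonal is an open immersion, so is the diagonal. -/
theorem repWith_isOpenImmersion_diagonal_of_repBySpWith {X Y : AlgSp.Sp S}
    (hX : AlgSp.IsAlgSpace X) (φ : X ⟶ Y)
    (h : AlgSp.RepBySpWith (AlgSp.RepWith @IsOpenImmersion) (pullback.diagonal φ).hom) :
    AlgSp.RepWith @IsOpenImmersion (pullback.diagonal φ) := by
  obtain ⟨hrep, -, -, -, -⟩ := repWith_diagonal_properties hX φ
  rw [AlgSp.repBySpWith_hom_iff] at h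
  refine ⟨hrep, fun T W g fst snd sq => ?_⟩
  exact (AlgSp.repWith_yon_map_iff @IsOpenImmersion snd).1 (h g fst _ sq).2

/-- A functor representable by algebraic spaces and unramified has diagonal an open immersion. -/
theorem isOpenImm_diag_of_unramified (g : 𝒳 ⥤ᵇ 𝒴)
    (h : AlgSt.RepByAlgSpWith (AlgSp.LocP (@LocallyOfFiniteType ⊓ @FormallyUnramified)) g) :
    AlgSt.IsOpenImm (FibCat.diag g) := by
  have hg : AlgSt.RepByAlgSp1 g := repByAlgSp1_of_repByAlgSpWith _ h
  rw [repByAlgSpWith_iff_forall _ (respectsIsoSp_of_stableBC (stableBC_locP _)) g hg] at h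
  exact (repByAlgSpWith_diag_iff_forall _ (respectsIsoSp_of_stableBC (stableBC_repWith _))
    g hg).2 (fun T y F e he => repBySpWith_repWith_diagonal _ F.property
      (AlgSp.IsAlgSpace.yon_obj T).diag _
      (repWith_isOpenImmersion_diagonal_of_unramified F.property (AlgSp.IsAlgSpace.yon_obj T) _
        (h T y F e he)))

/-- A functor representable by algebraic spaces, locally of finite type, with diagonal an open
immersion is unramified. -/
theorem unramified_of_isOpenImm_diag (g : 𝒳 ⥤ᵇ 𝒴)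
    (h : AlgSt.RepByAlgSpWith (AlgSp.LocP @LocallyOfFiniteType) g)
    (hΔ : AlgSt.IsOpenImm (FibCat.diag g)) :
    AlgSt.RepByAlgSpWith (AlgSp.LocP (@LocallyOfFiniteType ⊓ @FormallyUnramified)) g := by
  have hg : AlgSt.RepByAlgSp1 g := repByAlgSp1_of_repByAlgSpWith _ h
  rw [repByAlgSpWith_iff_forall _ (respectsIsoSp_of_stableBC (stableBC_locP _)) g hg] at h
  have hΔ' := (repByAlgSpWith_diag_iff_forall _ (respectsIsoSp_of_stableBC (stableBC_repWith _))
    g hg).1 hΔ
  exact (repByAlgSpWith_iff_forall _ (respectsIsoSp_of_stableBC (stableBC_locP _)) g hg).2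
    (fun T y F e he => unramified_of_repWith_isOpenImmersion_diagonal F.property _ (h T y F e he)
      (repWith_isOpenImmersion_diagonal_of_repBySpWith F.property _ (hΔ' T y F e he)))

/-- The inertia is unramified exactly when the diagonal is. -/
theorem unramified_inertiaToBase_iff (f : 𝒳 ⥤ᵇ 𝒴)
    (hl : AlgSt.RepByAlgSpWith (AlgSp.LocP @LocallyOfFiniteType) (FibCat.diag f)) :
    AlgSt.RepByAlgSpWith (AlgSp.LocP (@LocallyOfFiniteType ⊓ @FormallyUnramified))
      (FibCat.inertiaToBase f) ↔ AlgSt.IsDMMor f := by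
  constructor
  · intro h
    have h1 : AlgSt.IsOpenImm (FibCat.diag (FibCat.inertiaToBase f)) :=
      isOpenImm_diag_of_unramified _ h
    have h2 : AlgSt.IsOpenImm (FibCat.inertiaNeutral f) :=
      repByAlgSpWith_inertiaNeutral_of_diag _ f h1
    have h3 : AlgSt.IsOpenImm (FibCat.diag (FibCat.diag f)) :=
      (repByAlgSpWith_inertiaNeutral_iff _ f).1 h2
    exact unramified_of_isOpenImm_diag (FibCat.diag f) hl h3
  · intro h
    exact repByAlgSpWith_inertiaToBase_of_diag _ f h

end Groth.Agent.Helper2.AlgStLib
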