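import Mathlib
import Groth.Prelude.Def_AlgSt4
import Groth.Agent.Lib.Helper2.AlgSt.Inertia
import Groth.Agent.Lib.Helper2.AlgSt.DiagCover
import Groth.Agent.Lib.Helper2.AlgSt.RepDiagApps
import Groth.Agent.Lib.Helper2.AlgSt.RepDiagApps3
import Groth.Agent.Lib.Helper2.AlgSp.FpqcCI
import Groth.Agent.Lib.Helper2.AlgSp.UnivClosedQC

/-!
# Separatedness from universally closed first and second diagonals (helper2)
-/

set_option autoImplicit false
set_option synthInstance.maxHeartbeats 400000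
set_option maxHeartbeats 4000000
set_option linter.style.haveILetI false
set_option linter.unusedSectionVars false
set_option linter.unusedVariables false
set_option linter.unusedSimpArgs false
set_option linter.unnecessarySimpa false

open CategoryTheory CategoryTheory.Functor CategoryTheory.Limits AlgebraicGeometry Opposite

universe u

namespace Groth.Agent.Helper2.AlgStLib.SepDiag

open Groth.Agent.Helper2 Groth.Agent.Helper2.FibCatLib Groth.Agent.Helper2.StkLib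
open Groth.Agent.Helper2.AlgSpBasic Groth.Agent.Helper2.EtaleLocal
open Groth.Agent.Helper2.AlgStLib

variable {S : Scheme.{u}} {𝒳 𝒴 : BasedCategory.{u, u + 1} (Over S)}

theorem repByAlgSpWith_of_forall₂ {P Q R : MorphismProperty (AlgSp.Sp S)} (hQ : RespectsIsoSp Q)
    (f : 𝒳 ⥤ᵇ 𝒴) (h1 : AlgSt.RepByAlgSpWith P f) (h2 : AlgSt.RepByAlgSpWith Q f)
    (himp : ∀ ⦃X Y : AlgSp.Sp S⦄, AlgSp.IsAlgSpace X → AlgSp.IsAlgSpace Y → ∀ a : X ⟶ Y,
      P a → Q a → R a) : AlgSt.RepByAlgSpWith R f := by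
  intro T t
  obtain ⟨F, e, he, hP⟩ := h1 T t
  have hQ' := (repOver_iff_of_rep' Q hQ (FibCat.fpFst t f) F e he).1 (h2 T t)
  exact ⟨F, e, he, himp F.property (AlgSp.IsAlgSpace.yon_obj T) _ hP hQ'⟩

theorem repByAlgSpWith_of_forall₃ {P Q R T' : MorphismProperty (AlgSp.Sp S)}
    (hQ : RespectsIsoSp Q) (hR : RespectsIsoSp R)
    (f : 𝒳 ⥤ᵇ 𝒴) (h1 : AlgSt.RepByAlgSpWith P f) (h2 : AlgSt.RepByAlgSpWith Q f)
    (h3 : AlgSt.RepByAlgSpWith R f)
    (himp : ∀ ⦃X Y : AlgSp.Sp S⦄, AlgSp.IsAlgSpace X → AlgSp.IsAlgSpace Y → ∀ a : X ⟶ Y,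
      P a → Q a → R a → T' a) : AlgSt.RepByAlgSpWith T' f := by
  intro T t
  obtain ⟨F, e, he, hP⟩ := h1 T t
  have hQ' := (repOver_iff_of_rep' Q hQ (FibCat.fpFst t f) F e he).1 (h2 T t)
  have hR' := (repOver_iff_of_rep' R hR (FibCat.fpFst t f) F e he).1 (h3 T t)
  exact ⟨F, e, he, himp F.property (AlgSp.IsAlgSpace.yon_obj T) _ hP hQ' hR'⟩

/-- If the first and second diagonals are universally closed, the morphism is separated. -/
theorem isSeparatedMor_of_univClosed_diag_diag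
    (h𝒳 : AlgSt.IsAlgStack Scheme.fppfPrecoverage 𝒳)
    (h𝒴 : AlgSt.IsAlgStack Scheme.fppfPrecoverage 𝒴) (f : 𝒳 ⥤ᵇ 𝒴)
    (h1 : AlgSt.RepByAlgSpWith AlgSp.IsUnivClosedMor (FibCat.diag f))
    (h2 : AlgSt.RepByAlgSpWith AlgSp.IsUnivClosedMor (FibCat.diag (FibCat.diag f))) :
    AlgSt.IsSeparatedMor f := by
  have hΔ : AlgSt.RepByAlgSp1 (FibCat.diag f) := repByAlgSp1_diag_of_diag f h𝒳.diag h𝒴.diag
  have hm : AlgSt.IsMono (FibCat.diag (FibCat.diag f)) := isMono_diag (FibCat.diag f) hΔ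
  have hu : AlgSt.IsDMMor (FibCat.diag f) := isDMMor_of_repByAlgSp1 (FibCat.diag f) hΔ
  have hci : AlgSt.IsClosedImm (FibCat.diag (FibCat.diag f)) :=
    repByAlgSpWith_of_forall₃ (respectsIsoSp_of_stableBC (stableBC_locP _))
      (respectsIsoSp_of_stableBC stableBC_mono) _ h2 hu hm
      (fun X Y hX hY a ha hb hc => by
        haveI : Mono a := hc
        exact (Lqf.repWith_isClosedImmersion_iff_unr hX hY a).1
          ⟨ha, hb, Lqf.isUnivInjectiveMor_of_mono a⟩)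
  have hn : AlgSt.IsClosedImm (FibCat.inertiaNeutral f) :=
    (repByAlgSpWith_inertiaNeutral_iff _ f).2 hci
  have hsep : AlgSt.RepByAlgSpWith AlgSp.IsSeparatedMor (FibCat.diag f) :=
    ((tfae_inertia_separated f hΔ).out 1 2).2 hn
  have hlft := repByAlgSpWith_lft_diag h𝒳 h𝒴 f
  exact repByAlgSpWith_of_forall₃ (respectsIsoSp_of_stableBC (stableBC_locP _))
    (respectsIsoSp_of_stableBC stableBC_isUnivClosedMor) _ hsep hlft h1
    (fun X Y hX hY a ha hb hc =>
      ⟨ha, ⟨hb, isQuasiCompactMor_of_isUnivClosedMor hX hY a hc⟩, hc⟩)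

end Groth.Agent.Helper2.AlgStLib.SepDiag
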