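import Mathlib
import Groth.Prelude.Def_AlgSt4
import Groth.Agent.Lib.Helper2.AlgSp.ProperQf
import Groth.Agent.Lib.Helper2.AlgSp.QC
import Groth.Agent.Lib.Helper2.AlgSt.SepDiag
import Groth.Agent.Lib.Helper2.AlgSt.DiagCover
import Groth.Agent.Lib.Helper2.AlgSt.FpAlg
import Groth.Agent.Lib.Helper2.AlgSt.PFacts2

/-!
# Deligne–Mumford stacks with separated quasi-compact diagonal have quasi-affine diagonal (helper2)
-/

set_option backward.isDefEq.respectTransparency.types false
set_option autoImplicit false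
set_option synthInstance.maxHeartbeats 400000
set_option maxHeartbeats 4000000
set_option linter.style.haveILetI false
set_option linter.unusedSectionVars false
set_option linter.unusedVariables false
set_option linter.unusedSimpArgs false
set_option linter.unnecessarySimpa false

open CategoryTheory CategoryTheory.Functor CategoryTheory.Limits AlgebraicGeometry Opposite AlgSp

universe u

namespace Groth.Agent.Helper2.AlgStLib.DMQAff

open Groth.Agent.Helper2 Groth.Agent.Helper2.FibCatLib Groth.Agent.Helper2.StkLib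
open Groth.Agent.Helper2.AlgSpBasic Groth.Agent.Helper2.EtaleLocal
open Groth.Agent.Helper2.AlgStLib Groth.Agent.Helper2.Lqf
open Groth.Agent.Helper2.AlgStLib.SepDiag

/-- étale morphisms are locally quasi-finite -/
theorem lqf_of_etale {X Y : Scheme.{u}} (f : X ⟶ Y) [Etale f] : LocallyQuasiFinite f := by
  rw [HasRingHomProperty.iff_appLE (P := @LocallyQuasiFinite)]
  intro U V e
  have h1 := (HasRingHomProperty.iff_appLE (P := @FormallyUnramified)).mp inferInstance U V e
  have h2 := (HasRingHomProperty.iff_appLE (P := @LocallyOfFiniteType)).mp inferInstance U V e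
  algebraize [(f.appLE U V e).hom]
  rw [← RingHom.algebraMap_toAlgebra (f.appLE U V e).hom, RingHom.quasiFinite_algebraMap]
  infer_instance

/-- Zariski's main theorem: a separated, quasi-compact, locally quasi-finite morphism of finite
type to an affine scheme has quasi-affine source. -/
theorem isQuasiAffine_of_sep_lqf_qc {W Z : Scheme.{u}} (f : W ⟶ Z) [IsAffine Z] [IsSeparated f]
    [LocallyQuasiFinite f] [LocallyOfFiniteType f] [QuasiCompact f] : W.IsQuasiAffine := by
  haveI : IsAffine f.normalization := isAffine_of_isAffineHom f.fromNormalization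
  haveI : CompactSpace W := (HasAffineProperty.iff_of_isAffine (P := @QuasiCompact)).mp
    (inferInstance : QuasiCompact f)
  exact Scheme.IsQuasiAffine.of_isImmersion f.toNormalization

variable {S : Scheme.{u}}

/-- A separated, locally quasi-finite, quasi-compact morphism of algebraic spaces is
quasi-affine. -/
theorem isQuasiAffineMor_of_sep_lqf_qc {X Y : Sp S} (hX : IsAlgSpace X) (hY : IsAlgSpace Y)
    (f : X ⟶ Y) (hsep : IsSeparatedMor f)
    (hqf : LocP (@LocallyQuasiFinite ⊓ @LocallyOfFiniteType) f) (hqc : IsQuasiCompactMor f) :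
    IsQuasiAffineMor f := by
  intro Z hZ g
  have hZs : IsAlgSpace ((yon S).obj Z) := IsAlgSpace.yon_obj Z
  obtain ⟨P, fst, snd, sq⟩ : ∃ (P : Sp S) (fst : P ⟶ X) (snd : P ⟶ (yon S).obj Z),
    IsPullback fst snd f g := ⟨_, _, _, IsPullback.of_hasPullback f g⟩
  have hP : IsAlgSpace P := isAlgSpace_of_isPullback hY.diag hX hZs f g fst snd sq
  have h1 : IsSeparatedMor snd := repWith_diagonal_of_isPullback @IsClosedImmersion sq hsep
  have h2 : LocP (@LocallyQuasiFinite ⊓ @LocallyOfFiniteType) snd :=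
    locP_of_isPullback _ hX hY hZs hP f g fst snd sq hqf
  obtain ⟨W, ⟨ε⟩⟩ := exists_iso_yon_of_sep_lqf hP snd h1 h2
  obtain ⟨i, hi⟩ : ∃ i : W ⟶ Z, (yon S).map i = ε.hom ≫ snd :=
    ⟨(yon S).preimage _, (yon S).map_preimage _⟩
  have sq' : IsPullback (ε.hom ≫ fst) ((yon S).map i) f g := by
    rw [hi]
    exact IsPullback.of_iso sq ε.symm (Iso.refl _) (Iso.refl _) (Iso.refl _)
      (by simp) (by simp) (by simp) (by simp)
  have hW : IsAlgSpace ((yon S).obj W) := IsAlgSpace.yon_obj W
  haveI k1 : IsSeparated i.left :=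
    (isSeparatedMor_yon_map_iff i).1 (repWith_diagonal_of_isPullback @IsClosedImmersion sq' hsep)
  have k2 : (@LocallyQuasiFinite ⊓ @LocallyOfFiniteType : MorphismProperty Scheme.{u}) i.left :=
    locP_yon_map (locP_of_isPullback _ hX hY hZs hW f g _ _ sq' hqf)
  haveI := hZ
  have hZq : IsQuasiCompactSp ((yon S).obj Z) := (isQuasiCompactSp_yon_iff Z).mpr inferInstance
  haveI k3 : CompactSpace W.left := (isQuasiCompactSp_yon_iff W).mp (hqc hZs hZq g _ _ sq')
  haveI k4 : LocallyQuasiFinite i.left := k2.1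
  haveI k5 : LocallyOfFiniteType i.left := k2.2
  haveI k6 : QuasiCompact i.left :=
    (HasAffineProperty.iff_of_isAffine (P := @QuasiCompact)).mpr k3
  exact ⟨W, i, ε.hom ≫ fst, sq', isQuasiAffine_of_sep_lqf_qc i.left⟩

variable {𝒳 : BasedCategory.{u, u + 1} (Over S)}

/-- The diagonal over the base of a category fibred in groupoids with representable diagonal and
an étale atlas is locally quasi-finite. -/
theorem repByAlgSpWith_lqf_diag_toSelf_of_etale_atlas (h𝒳 : FibCat.IsFibGrpd 𝒳.p)
    (hΔ : AlgSt.RepByAlgSp1 (FibCat.diag (FibCat.toSelf 𝒳)))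
    (hat : AlgSt.HasAtlas AlgSp.IsEtaleMor 𝒳) :
    AlgSt.RepByAlgSpWith (AlgSp.LocP (@LocallyQuasiFinite ⊓ @LocallyOfFiniteType))
      (FibCat.diag (FibCat.toSelf 𝒳)) := by
  obtain ⟨U, x, hx1, hx2⟩ := hasAtlas_isEtaleMor_iff.1 hat
  exact repByAlgSpWith_diag_toSelf_of_cover h𝒳 (isFibGrpd_overCat U) _
    (stableBC_locP _) isLocalOnBase_fppf_locP_lqf (cancelSp_lqf ⊤) hΔ (repByAlgSp_overCat U) x
    (repByAlgSpWith_locP_mono (fun _ _ g (hg : Etale g) => (inferInstance : Flat g)) x hx1)
    (repByAlgSpWith_locP_mono (fun _ _ g (hg : Etale g) =>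
      (inferInstance : LocallyOfFinitePresentation g)) x hx1) hx2
    (repByAlgSpWith_locP_mono (fun _ _ g (hg : Etale g) =>
      ⟨lqf_of_etale g, (inferInstance : LocallyOfFiniteType g)⟩) x hx1)

/-- A Deligne–Mumford stack whose diagonal is separated and quasi-compact has quasi-affine
diagonal. -/
theorem main (𝒳 : AlgSt.Cat S) (h𝒳 : AlgSt.IsDM Scheme.etalePrecoverage 𝒳)
    (hsep : AlgSt.RepByAlgSpWith AlgSp.IsSeparatedMor (FibCat.diag (FibCat.toSelf 𝒳)))
    (hqc : AlgSt.RepByAlgSpWith AlgSp.IsQuasiCompactMor (FibCat.diag (FibCat.toSelf 𝒳))) :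
    AlgSt.RepByAlgSpWith AlgSp.IsQuasiAffineMor (FibCat.diag (FibCat.toSelf 𝒳)) := by
  have hlqf := repByAlgSpWith_lqf_diag_toSelf_of_etale_atlas h𝒳.1.isStack.1 h𝒳.1.diag h𝒳.2
  exact repByAlgSpWith_of_forall₃ (respectsIsoSp_of_stableBC (stableBC_locP _))
    (respectsIsoSp_of_stableBC stableBC_isQuasiCompactMor) _ hsep hlqf hqc
    (fun X Y hX hY a ha hb hc => isQuasiAffineMor_of_sep_lqf_qc hX hY a ha hb hc)

end Groth.Agent.Helper2.AlgStLib.DMQAff
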