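import Mathlib
import Groth.Prelude.Def_AlgSt2
import Groth.Prelude.Def_AlgSt3
import Groth.Agent.Lib.Helper2.AlgSt.LocalBase
import Groth.Agent.Lib.Helper2.AlgSt.Setoid

/-!
# Monomorphisms representable by algebraic spaces are fully faithful (helper2)
-/

set_option autoImplicit false
open CategoryTheory CategoryTheory.Functor CategoryTheory.Limits AlgebraicGeometry Opposite

universe w' v' w v u

namespace Groth.Agent.Helper2.AlgStLib

open Groth.Agent.Helper2 Groth.Agent.Helper2.FibCatLib Groth.Agent.Helper2.StkLib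

section General

variable {C : Type u} [Category.{v} C] {P Q : Cᵒᵖ ⥤ Type w}

/-- The functor of an injective map of presheaves is full. -/
theorem ofPshMap_full_of_injective (φ : P ⟶ Q) (hφ : ∀ T, Function.Injective (φ.app T)) :
    (Stk.ofPshMap φ).toFunctor.Full where
  map_surjective {a b} g := by
    have h1 : Q.map g.hom.op (φ.app _ b.sec) = φ.app _ a.sec := g.map_sec
    have h2 : φ.app _ (P.map g.hom.op b.sec) = φ.app _ a.sec := by
      rw [NatTrans.naturality_apply]
      exact h1
    exact ⟨⟨g.hom, hφ _ h2⟩, rfl⟩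

end General

variable {S : Scheme.{u}}

/-- A monomorphism of sheaves is injective on sections. -/
theorem injective_app_of_mono {F G : AlgSp.Sp S} (q : F ⟶ G) [Mono q] (T : (Over S)ᵒᵖ) :
    Function.Injective (q.hom.app T) := by
  have h1 : Mono ((sheafToPresheaf (AlgSp.J S) (Type (u + 1))).map q) := inferInstance
  have h2 : Mono q.hom := h1
  have h3 : Mono (q.hom.app T) := inferInstance
  exact (mono_iff_injective _).1 h3

/-- If `𝒜 ⟶ (Sch/U)` is represented by a monomorphism of sheaves `F ⟶ h_U`, it is full. -/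
theorem full_of_mono_spMapOfOver {U : Over S} {𝒜 : BasedCategory.{v, w} (Over S)}
    (π : 𝒜 ⥤ᵇ FibCat.overCat U) {F : AlgSp.Sp S} (e : AlgSt.ofSp F ⥤ᵇ 𝒜)
    (he : FibCat.IsEquivOver e) (hm : Mono (AlgSt.spMapOfOver (BasedFunctor.comp e π))) :
    π.toFunctor.Full := by
  let q : F ⟶ (AlgSp.yon S).obj U := AlgSt.spMapOfOver (BasedFunctor.comp e π)
  obtain ⟨θ⟩ := ofSpMap_spMapOfOver_iso (BasedFunctor.comp e π)
  have h1 : (AlgSt.ofSpMap q).toFunctor.Full :=
    ofPshMap_full_of_injective q.hom (fun T => injective_app_of_mono q T)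
  have h2 : (AlgSt.toOverCat U).toFunctor.IsEquivalence :=
    FibCatLib.isEquivalence_of_isEquivOver (toOverCat_isEquivOver U)
  have h3 : ((AlgSt.ofSpMap q).toFunctor ⋙ (AlgSt.toOverCat U).toFunctor).Full := inferInstance
  let θ' : (AlgSt.ofSpMap q).toFunctor ⋙ (AlgSt.toOverCat U).toFunctor ≅
      e.toFunctor ⋙ π.toFunctor := (BasedNatTrans.forgetful _ _).mapIso θ
  have h4 : (e.toFunctor ⋙ π.toFunctor).Full := Functor.Full.of_iso θ'
  have h5 : e.toFunctor.IsEquivalence := FibCatLib.isEquivalence_of_isEquivOver he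
  apply Functor.full_of_comp_essSurj π.toFunctor e.toFunctor
  intro X₁ X₂ φ
  obtain ⟨k, hk⟩ := h4.map_surjective φ
  exact ⟨e.toFunctor.map k, hk⟩

end Groth.Agent.Helper2.AlgStLib
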