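import Mathlib
import Groth.Prelude.Def_AlgSt4
import Groth.Agent.Lib.Helper2.AlgSt.FpAlg
import Groth.Agent.S12763

/-!
# Quasi-compact morphisms of algebraic stacks (helper2)
-/

set_option autoImplicit false
open CategoryTheory CategoryTheory.Functor CategoryTheory.Limits AlgebraicGeometry Opposite

universe u

namespace Groth.Agent.Helper2.AlgStLib

open Groth.Agent.Helper2 Groth.Agent.Helper2.FibCatLib Groth.Agent.Helper2.StkLib
open Groth.Agent.Helper2.AlgSpBasic Groth.Agent.Helper2.EtaleLocal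

variable {S : Scheme.{u}} {𝒳 𝒴 𝒴' 𝒵 𝒜 ℬ : BasedCategory.{u, u + 1} (Over S)}

theorem isQuasiCompact_of_isEquivOver (e : 𝒜 ⥤ᵇ ℬ) (he : FibCat.IsEquivOver e)
    (h : AlgSt.IsQuasiCompact 𝒜) : AlgSt.IsQuasiCompact ℬ := by
  obtain ⟨U, x, hU, h1, h2⟩ := h
  exact ⟨U, BasedFunctor.comp x e, hU, (repByAlgSpWith_comp_equiv _ x e he).2 h1,
    (repByAlgSpWith_comp_equiv _ x e he).2 h2⟩

theorem isQuasiCompact_iff_of_isEquivOver (e : 𝒜 ⥤ᵇ ℬ) (he : FibCat.IsEquivOver e) :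
    AlgSt.IsQuasiCompact 𝒜 ↔ AlgSt.IsQuasiCompact ℬ := by
  constructor
  · exact isQuasiCompact_of_isEquivOver e he
  · obtain ⟨e', he', -, -⟩ := isEquivOver_inverse he
    exact isQuasiCompact_of_isEquivOver e' he'

/-- Base change of a quasi-compact morphism. -/
theorem isQuasiCompactMor_fpFst (K : Precoverage Scheme.{u}) (f : 𝒳 ⥤ᵇ 𝒴) (g : 𝒴' ⥤ᵇ 𝒴)
    (hf : AlgSt.IsQuasiCompactMor K f) : AlgSt.IsQuasiCompactMor K (FibCat.fpFst g f) := by
  intro 𝒵 h𝒵 hq h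
  exact (isQuasiCompact_iff_of_isEquivOver (Paste.pasteB h g f)
    (Paste.pasteB_isEquivOver h g f)).2 (hf 𝒵 h𝒵 hq (BasedFunctor.comp h g))

/-- The 2-fibre product of algebraic stacks is an algebraic stack, for any topology. -/
theorem isAlgStack_fp (K : Precoverage Scheme.{u}) (h𝒳 : AlgSt.IsAlgStack K 𝒳)
    (h𝒴 : AlgSt.IsAlgStack K 𝒴) (h𝒵 : AlgSt.IsAlgStack K 𝒵) (f : 𝒳 ⥤ᵇ 𝒵) (g : 𝒴 ⥤ᵇ 𝒵) :
    AlgSt.IsAlgStack K (FibCat.fp f g) := by
  refine ⟨Groth.Agent.S12792.result _ f g h𝒳.isStack h𝒴.isStack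
    (isPrestack_of_isStack h𝒵.isStack), ?_, ?_⟩
  · exact repByAlgSp1_diag_fp h𝒳.isStack.1 h𝒴.isStack.1 h𝒵.isStack.1 f g h𝒳.diag h𝒴.diag h𝒵.diag
  · exact hasAtlas_smooth_fp h𝒳.isStack.1 h𝒴.isStack.1 h𝒵.isStack.1 h𝒵.diag f g h𝒳.atlas h𝒴.atlas

/-- Composition of quasi-compact morphisms. -/
theorem isQuasiCompactMor_comp (K : Precoverage Scheme.{u}) (h𝒴 : AlgSt.IsAlgStack K 𝒴)
    (h𝒵 : AlgSt.IsAlgStack K 𝒵) (f : 𝒳 ⥤ᵇ 𝒴) (g : 𝒴 ⥤ᵇ 𝒵)
    (hf : AlgSt.IsQuasiCompactMor K f) (hg : AlgSt.IsQuasiCompactMor K g) :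
    AlgSt.IsQuasiCompactMor K (BasedFunctor.comp f g) := by
  intro 𝒲 h𝒲 hq h
  have h1 : AlgSt.IsQuasiCompact (FibCat.fp h g) := hg 𝒲 h𝒲 hq h
  have h2 : AlgSt.IsAlgStack K (FibCat.fp h g) := isAlgStack_fp K h𝒲 h𝒴 h𝒵 h g
  have h3 := hf (FibCat.fp h g) h2 h1 (FibCat.fpSnd h g)
  exact isQuasiCompact_of_isEquivOver (Paste.pasteA h g f) (Paste.pasteA_isEquivOver h g f) h3

section SpaceQC

/-- A property of the functor of a map of algebraic spaces descends to the map. -/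
theorem prop_of_repByAlgSpWith_ofSpMap (P : MorphismProperty (AlgSp.Sp S)) (hPb : StableBC P)
    (hP : AtlasLocal P) {F G : AlgSp.Sp S} (hF : AlgSp.IsAlgSpace F) (hG : AlgSp.IsAlgSpace G)
    (a : F ⟶ G) (h : AlgSt.RepByAlgSpWith P (AlgSt.ofSpMap a)) : P a := by
  have hrep : AlgSp.RepBySp a.hom := (repBySh_iff a).1 (repBySh_of_isAlgSpace a hF hG.diag)
  have hwith := (repBySpWith_iff_repByAlgSpWith_ofPshMap' P (respectsIsoSp_of_stableBC hPb) a.hom
    hrep).2 h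
  have hwith' := (AlgSp.repBySpWith_hom_iff P a).1 hwith
  obtain ⟨V, p, hpe, hps⟩ := hG.atlas
  have sq := IsPullback.of_hasPullback a p
  obtain ⟨hX₁, hPsnd⟩ := hwith' p _ _ sq
  exact hP hG V p hpe hps a hF (pullback a p) (pullback.snd a p) (pullback.fst a p) hX₁ sq hPsnd

/-- A property of a functor from a scheme to an algebraic space descends to the corresponding
map of sheaves. -/
theorem prop_secMap_of_repByAlgSpWith (P : MorphismProperty (AlgSp.Sp S)) (hPb : StableBC P)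
    (hP : AtlasLocal P) {G : AlgSp.Sp S} (hG : AlgSp.IsAlgSpace G) {V : Over S}
    (x : FibCat.overCat V ⥤ᵇ AlgSt.ofSp G) (hx : AlgSt.RepByAlgSpWith P x) :
    P (ObjectProperty.homMk (secMap x) : (AlgSp.yon S).obj V ⟶ G) := by
  obtain ⟨θ⟩ := secMap_iso x
  apply prop_of_repByAlgSpWith_ofSpMap P hPb hP (AlgSp.IsAlgSpace.yon_obj V) hG
  have h1 : AlgSt.RepByAlgSpWith P (BasedFunctor.comp (AlgSt.toOverCat V) x) :=
    (repByAlgSpWith_of_square P x (BasedFunctor.comp (AlgSt.toOverCat V) x) (AlgSt.toOverCat V)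
      (BasedFunctor.id _) (toOverCat_isEquivOver V) ReprInv.isEquivOver_id (Iso.refl _)).1 hx
  exact (repByAlgSpWith_congr P θ).1 h1

/-- The category of a quasi-compact algebraic space is quasi-compact. -/
theorem isQuasiCompact_ofSp (F : AlgSp.Space S) (hq : AlgSp.IsQuasiCompactSp F.obj) :
    AlgSt.IsQuasiCompact (AlgSt.ofSp F.obj) := by
  obtain ⟨U, p, hU, hpe, hps⟩ := (isQuasiCompactSp_iff_exists_affine_chart F.property).mp hq
  refine ⟨U, ofSecMap p.hom, hU, ?_, ?_⟩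
  · apply repByAlgSpWith_ofSecMap_of_representable p hpe.rep
    intro T V g ξ fst sq
    have he : Etale g.left := hpe.property ξ fst g sq
    have hs : Smooth g.left := inferInstance
    exact locP_of_repWith @Smooth (AlgSp.IsAlgSpace.yon_obj V).diag _
      ((AlgSp.repWith_yon_map_iff @Smooth g).2 hs)
  · apply repByAlgSpWith_ofSecMap_of_representable p hpe.rep
    intro T V g ξ fst sq
    rw [surjectiveMor_yon_map_iff]
    exact (hps.property ξ fst g sq).surj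

/-- Conversely. -/
theorem isQuasiCompactSp_of_isQuasiCompact_ofSp (F : AlgSp.Space S)
    (h : AlgSt.IsQuasiCompact (AlgSt.ofSp F.obj)) : AlgSp.IsQuasiCompactSp F.obj := by
  obtain ⟨V, x, hV, -, hx2⟩ := h
  have hs := prop_secMap_of_repByAlgSpWith AlgSp.IsSurjectiveMor stableBC_isSurjectiveMor
    (atlasLocal_of_fppf isLocalOnBase_fppf_isSurjectiveMor) F.property x hx2
  exact isQuasiCompactSp_of_isSurjectiveMor (AlgSp.IsAlgSpace.yon_obj V) F.property _ hs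
    ((isQuasiCompactSp_yon_iff V).mpr inferInstance)

theorem isQuasiCompact_ofSp_iff (F : AlgSp.Space S) :
    AlgSt.IsQuasiCompact (AlgSt.ofSp F.obj) ↔ AlgSp.IsQuasiCompactSp F.obj :=
  ⟨isQuasiCompactSp_of_isQuasiCompact_ofSp F, isQuasiCompact_ofSp F⟩

/-- The target of a smooth surjective functor from a quasi-compact category is quasi-compact. -/
theorem isQuasiCompact_of_cover (h𝒜 : FibCat.IsFibGrpd 𝒜.p) (c : 𝒜 ⥤ᵇ ℬ)
    (hc1 : AlgSt.RepByAlgSpWith (AlgSp.LocP @Smooth) c)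
    (hc2 : AlgSt.RepByAlgSpWith AlgSp.IsSurjectiveMor c) (h : AlgSt.IsQuasiCompact 𝒜) :
    AlgSt.IsQuasiCompact ℬ := by
  obtain ⟨U, x, hU, h1, h2⟩ := h
  have := smooth_surjective_comp (isFibGrpd_overCat U) h𝒜 x c ⟨h1, h2⟩ ⟨hc1, hc2⟩
  exact ⟨U, BasedFunctor.comp x c, hU, this.1, this.2⟩

end SpaceQC

section Dictionary

theorem isQuasiCompact_overCat (Z : Over S) (hZ : IsAffine Z.left) :
    AlgSt.IsQuasiCompact (FibCat.overCat Z) :=
  isQuasiCompact_of_isEquivOver (AlgSt.toOverCat Z) (toOverCat_isEquivOver Z)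
    (isQuasiCompact_ofSp ⟨(AlgSp.yon S).obj Z, AlgSp.IsAlgSpace.yon_obj Z⟩
      ((isQuasiCompactSp_yon_iff Z).mpr inferInstance))

/-- For a functor representable by algebraic spaces, quasi-compactness in the sense of algebraic
spaces agrees with quasi-compactness in the sense of algebraic stacks. -/
theorem repByAlgSpWith_isQuasiCompactMor_iff (h𝒳 : FibCat.IsFibGrpd 𝒳.p)
    (h𝒴 : FibCat.IsFibGrpd 𝒴.p) (f : 𝒳 ⥤ᵇ 𝒴) (hf : AlgSt.RepByAlgSp1 f) :
    AlgSt.RepByAlgSpWith AlgSp.IsQuasiCompactMor f ↔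
      AlgSt.IsQuasiCompactMor Scheme.fppfPrecoverage f := by
  constructor
  · intro h 𝒵 h𝒵 hq g
    obtain ⟨U, u, hU, hu1, hu2⟩ := hq
    obtain ⟨F, e, he, ha⟩ := h U (BasedFunctor.comp u g)
    have hFq : AlgSp.IsQuasiCompactSp F.obj :=
      isQuasiCompactSp_of_isQuasiCompactMor_of_affine hU _ ha
    have h2 : AlgSt.IsQuasiCompact (FibCat.fp (BasedFunctor.comp u g) f) :=
      isQuasiCompact_of_isEquivOver e he (isQuasiCompact_ofSp F hFq)
    have h3 : AlgSt.IsQuasiCompact (FibCat.fp u (FibCat.fpFst g f)) :=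
      (isQuasiCompact_iff_of_isEquivOver (Paste.pasteB u g f)
        (Paste.pasteB_isEquivOver u g f)).2 h2
    have hfib : FibCat.IsFibGrpd (FibCat.fp u (FibCat.fpFst g f)).p :=
      isFibGrpd_fp _ _ (isFibGrpd_overCat U) (isFibGrpd_fp g f h𝒵.isStack.1 h𝒳 h𝒴)
        h𝒵.isStack.1
    exact isQuasiCompact_of_cover hfib (FibCat.fpSnd u (FibCat.fpFst g f))
      (repByAlgSpWith_fpSnd _ u (FibCat.fpFst g f) hu1)
      (repByAlgSpWith_fpSnd _ u (FibCat.fpFst g f) hu2) h3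
  · intro h U y
    obtain ⟨F, e, he⟩ := hf U y
    refine ⟨F, e, he, ?_⟩
    refine isQuasiCompactMor_of_affine F.property (AlgSp.IsAlgSpace.yon_obj U).diag _ ?_
    intro Z hZ g P fst snd sq
    obtain ⟨γ, rfl⟩ := (AlgSp.yon S).map_surjective g
    have h𝒵 : AlgSt.IsAlgStack Scheme.fppfPrecoverage (FibCat.overCat Z) :=
      (isDM_of_repByAlgSp (repByAlgSp_overCat Z)).1
    have h1 := h (FibCat.overCat Z) h𝒵 (isQuasiCompact_overCat Z hZ)
      (BasedFunctor.comp (AlgSt.overMap γ) y)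
    have h2 : AlgSt.IsQuasiCompact (FibCat.fp (AlgSt.overMap γ) (FibCat.fpFst y f)) :=
      (isQuasiCompact_iff_of_isEquivOver (Paste.pasteB (AlgSt.overMap γ) y f)
        (Paste.pasteB_isEquivOver (AlgSt.overMap γ) y f)).2 h1
    obtain ⟨E, hE, -⟩ := exists_equiv_fp_overMap (FibCat.fpFst y f) e he γ fst snd sq
    have hP : AlgSp.IsAlgSpace P :=
      isAlgSpace_of_isPullback (AlgSp.IsAlgSpace.yon_obj U).diag F.property
        (AlgSp.IsAlgSpace.yon_obj Z) _ _ fst snd sq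
    exact isQuasiCompactSp_of_isQuasiCompact_ofSp ⟨P, hP⟩
      ((isQuasiCompact_iff_of_isEquivOver E hE).2 h2)

end Dictionary

section Applications

/-- A closed immersion is quasi-compact. -/
theorem isQuasiCompactMor_of_isClosedImm (h𝒳 : FibCat.IsFibGrpd 𝒳.p)
    (h𝒴 : FibCat.IsFibGrpd 𝒴.p) (f : 𝒳 ⥤ᵇ 𝒴) (hf : AlgSt.IsClosedImm f) :
    AlgSt.IsQuasiCompactMor Scheme.fppfPrecoverage f := by
  refine (repByAlgSpWith_isQuasiCompactMor_iff h𝒳 h𝒴 f (repByAlgSp1_of_repByAlgSpWith f hf)).1 ?_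
  refine repByAlgSpWith_mono' f ?_ hf
  intro F T m hm
  exact isQuasiCompactMor_of_repWith F.property (AlgSp.IsAlgSpace.yon_obj T).diag m
    (repWith_mono (fun _ _ g (hg : IsClosedImmersion g) => (inferInstance : QuasiCompact g)) hm)

/-- Second projections of 2-fibre products of quasi-compact morphisms are quasi-compact. -/
theorem isQuasiCompactMor_fpSnd (K : Precoverage Scheme.{u}) (f : 𝒳 ⥤ᵇ 𝒴) (g : 𝒴' ⥤ᵇ 𝒴)
    (hf : AlgSt.IsQuasiCompactMor K f) : AlgSt.IsQuasiCompactMor K (FibCat.fpSnd f g) := by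
  intro 𝒵 h𝒵 hq h
  have h1 := isQuasiCompactMor_fpFst K f g hf 𝒵 h𝒵 hq h
  obtain ⟨Φ, hΦ, -⟩ := exists_equiv_fp_square_fst (FibCat.fpFst g f) (FibCat.fpSnd f g)
    (FpSwap.fpSwap f g) (BasedFunctor.id _) (FpSwap.fpSwap_isEquivOver f g)
    ReprInv.isEquivOver_id (Iso.refl _) h
  exact (isQuasiCompact_iff_of_isEquivOver Φ hΦ).2 h1

end Applications

section Cancel

/-- If `f ⋙ g` is quasi-compact and `g` is quasi-separated, then `f` is quasi-compact. -/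
theorem isQuasiCompactMor_of_comp_of_isQuasiSeparatedMor
    (h𝒳 : AlgSt.IsAlgStack Scheme.fppfPrecoverage 𝒳)
    (h𝒴 : AlgSt.IsAlgStack Scheme.fppfPrecoverage 𝒴)
    (h𝒵 : AlgSt.IsAlgStack Scheme.fppfPrecoverage 𝒵) (f : 𝒳 ⥤ᵇ 𝒴) (g : 𝒴 ⥤ᵇ 𝒵)
    (hfg : AlgSt.IsQuasiCompactMor Scheme.fppfPrecoverage (BasedFunctor.comp f g))
    (hg : AlgSt.IsQuasiSeparatedMor g) : AlgSt.IsQuasiCompactMor Scheme.fppfPrecoverage f := by
  have hΓ : AlgSt.RepByAlgSpWith AlgSp.IsQuasiCompactMor (graphOver f g) :=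
    repByAlgSpWith_mono (fun _ _ m hm => hm.1) _ (repByAlgSpWith_graphOver _ f g hg)
  have hfp : AlgSt.IsAlgStack Scheme.fppfPrecoverage (FibCat.fp (BasedFunctor.comp f g) g) :=
    isAlgStack_fp _ h𝒳 h𝒴 h𝒵 _ _
  have hΓ' : AlgSt.IsQuasiCompactMor Scheme.fppfPrecoverage (graphOver f g) :=
    (repByAlgSpWith_isQuasiCompactMor_iff h𝒳.isStack.1 hfp.isStack.1 _
      (repByAlgSp1_of_repByAlgSpWith _ hΓ)).1 hΓ
  have h2 : AlgSt.IsQuasiCompactMor Scheme.fppfPrecoverage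
      (FibCat.fpSnd (BasedFunctor.comp f g) g) :=
    isQuasiCompactMor_fpSnd _ (BasedFunctor.comp f g) g hfg
  have h3 := isQuasiCompactMor_comp _ hfp h𝒴 _ _ hΓ' h2
  rw [graphOver_snd] at h3
  exact h3

end Cancel

end Groth.Agent.Helper2.AlgStLib
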