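import Mathlib
import Groth.Prelude.Def_AlgSt4
import Groth.Agent.Lib.Helper2.AlgSt.QC
import Groth.Agent.Lib.Helper2.AlgSt.PFacts3
import Groth.Agent.Lib.Helper2.AlgSt.PFacts4
import Groth.Agent.Lib.Helper2.AlgSp.QC
import Groth.Agent.Lib.Helper2.AlgSp.Mor2

/-!
# Quasi-compactness over a quasi-separated base (helper2)
-/

set_option autoImplicit false
open CategoryTheory CategoryTheory.Functor CategoryTheory.Limits AlgebraicGeometry Opposite

universe u

namespace Groth.Agent.Helper2.AlgStLib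

open Groth.Agent.Helper2 Groth.Agent.Helper2.FibCatLib Groth.Agent.Helper2.StkLib
open Groth.Agent.Helper2.AlgSpBasic Groth.Agent.Helper2.EtaleLocal

variable {S : Scheme.{u}} {𝒳 𝒴 𝒴' 𝒵 𝒜 ℬ : BasedCategory.{u, u + 1} (Over S)}

section Terminal

/-- The slice over the terminal object is the base category. -/
theorem isEquivOver_toSelf_overCat_terminal :
    FibCat.IsEquivOver (FibCat.toSelf (FibCat.overCat (Over.mk (𝟙 S)))) := by
  have hT : IsTerminal (Over.mk (𝟙 S)) := Over.mkIdTerminal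
  have hfull : (FibCat.toSelf (FibCat.overCat (Over.mk (𝟙 S)))).toFunctor.Full := by
    refine ⟨fun {a b} m => ⟨Over.homMk m (hT.hom_ext _ _), rfl⟩⟩
  have hfaith : (FibCat.toSelf (FibCat.overCat (Over.mk (𝟙 S)))).toFunctor.Faithful :=
    inferInstanceAs (Over.forget (Over.mk (𝟙 S))).Faithful
  refine isEquivOver_of_fullyFaithful_of_exists_iso _ ?_
  intro η
  exact ⟨Over.mk (hT.from η), Iso.refl _, IsHomLift.id rfl⟩

theorem isAlgStack_selfOver :
    AlgSt.IsAlgStack Scheme.fppfPrecoverage (FibCat.selfOver (Over S)) :=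
  isAlgStack_of_isEquivOver _ _ isEquivOver_toSelf_overCat_terminal
    (isDM_of_repByAlgSp (repByAlgSp_overCat (Over.mk (𝟙 S)))).1

end Terminal

section Products

/-- The terminal sheaf is quasi-separated. -/
theorem isQuasiSeparatedSp_terminal : AlgSp.IsQuasiSeparatedSp (⊤_ (AlgSp.Sp S)) := by
  have : IsIso (Limits.diag (⊤_ (AlgSp.Sp S))) := by
    refine ⟨prod.fst, by simp only [Limits.diag, prod.lift_fst], ?_⟩
    apply Limits.prod.hom_ext <;> apply Subsingleton.elim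
  exact repWith_of_isIso @QuasiCompact _

/-- Over a quasi-separated base, the product of two quasi-compact schemes is quasi-compact. -/
theorem isQuasiCompactSp_prod_yon [QuasiSeparatedSpace ↥S] (U V : Over S)
    [CompactSpace ↥U.left] [CompactSpace ↥V.left] :
    AlgSp.IsQuasiCompactSp ((AlgSp.yon S).obj U ⨯ (AlgSp.yon S).obj V) := by
  have h1 : AlgSp.IsQuasiCompactMor (terminal.from ((AlgSp.yon S).obj U)) :=
    isQuasiCompactMor_from_compact_scheme isQuasiSeparatedSp_terminal _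
  exact h1 (AlgSp.IsAlgSpace.yon_obj V) ((isQuasiCompactSp_yon_iff V).mpr inferInstance)
    (terminal.from ((AlgSp.yon S).obj V)) prod.fst prod.snd
    (IsPullback.of_hasBinaryProduct' _ _)

/-- The product of the categories of two algebraic spaces with quasi-compact product is
quasi-compact. -/
theorem isQuasiCompact_prod_ofSp (F G : AlgSp.Space S)
    (hq : AlgSp.IsQuasiCompactSp (F.obj ⨯ G.obj)) :
    AlgSt.IsQuasiCompact
      (FibCat.fp (FibCat.toSelf (AlgSt.ofSp F.obj)) (FibCat.toSelf (AlgSt.ofSp G.obj))) := by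
  let W : AlgSp.Sp S := F.obj ⨯ G.obj
  have hW : AlgSp.IsAlgSpace W := isAlgSpace_prod F.property G.property
  have hlim : IsLimit (BinaryFan.mk (prod.fst : W ⟶ F.obj).hom (prod.snd : W ⟶ G.obj).hom) :=
    (isLimitMapConeBinaryFanEquiv (sheafToPresheaf (AlgSp.J S) (Type (u + 1)))
      (prod.fst : W ⟶ F.obj) (prod.snd : W ⟶ G.obj))
      (isLimitOfPreserves _ (prodIsProd F.obj G.obj))
  exact isQuasiCompact_of_isEquivOver (prodCmp _ _)
    (prodCmp_isEquivOver (isProdSec_of_isLimit hlim)) (isQuasiCompact_ofSp ⟨W, hW⟩ hq)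

/-- Over a quasi-separated base, the product of the slices over two quasi-compact schemes is
quasi-compact. -/
theorem isQuasiCompact_prod_overCat [QuasiSeparatedSpace ↥S] (U V : Over S)
    [CompactSpace ↥U.left] [CompactSpace ↥V.left] :
    AlgSt.IsQuasiCompact
      (FibCat.fp (FibCat.toSelf (FibCat.overCat U)) (FibCat.toSelf (FibCat.overCat V))) :=
  isQuasiCompact_of_isEquivOver (prodMap (AlgSt.toOverCat U) (AlgSt.toOverCat V))
    (prodMap_isEquivOver _ _ (toOverCat_isEquivOver U) (toOverCat_isEquivOver V))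
    (isQuasiCompact_prod_ofSp ⟨(AlgSp.yon S).obj U, AlgSp.IsAlgSpace.yon_obj U⟩
      ⟨(AlgSp.yon S).obj V, AlgSp.IsAlgSpace.yon_obj V⟩ (isQuasiCompactSp_prod_yon U V))

/-- Over a quasi-separated base, the structure functor of a quasi-compact category is
quasi-compact. -/
theorem isQuasiCompactMor_toSelf [QuasiSeparatedSpace ↥S] (h𝒳 : FibCat.IsFibGrpd 𝒳.p)
    (hq : AlgSt.IsQuasiCompact 𝒳) :
    AlgSt.IsQuasiCompactMor Scheme.fppfPrecoverage (FibCat.toSelf 𝒳) := by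
  intro 𝒵 h𝒵 hqZ g
  obtain ⟨U, u, hU, hu1, hu2⟩ := hqZ
  obtain ⟨V, v, hV, hv1, hv2⟩ := hq
  have hUf := isFibGrpd_overCat U
  have hVf := isFibGrpd_overCat V
  have hself : FibCat.IsFibGrpd (FibCat.selfOver (Over S)).p := DiagRepBack.isFibGrpd_selfOver
  have hsrc : AlgSt.IsQuasiCompact (FibCat.fp (BasedFunctor.comp u g)
      (BasedFunctor.comp v (FibCat.toSelf 𝒳))) := by
    rw [eq_toSelf (BasedFunctor.comp u g), eq_toSelf (BasedFunctor.comp v (FibCat.toSelf 𝒳))]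
    exact isQuasiCompact_prod_overCat U V
  have hfib : FibCat.IsFibGrpd (FibCat.fp (BasedFunctor.comp u g)
      (BasedFunctor.comp v (FibCat.toSelf 𝒳))).p := isFibGrpd_fp _ _ hUf hVf hself
  exact isQuasiCompact_of_cover hfib
    (BasedFunctor.comp (FpProd.F1 u g (BasedFunctor.comp v (FibCat.toSelf 𝒳)))
      (FpProd.F2 g v (FibCat.toSelf 𝒳)))
    (repByAlgSpWith_fpProd hUf hVf h𝒵.isStack.1 hself _ (stableBC_locP @Smooth)
      (stableComp_locP @Smooth) (atlasLocal_of_fppf isLocalOnBase_fppf_locP_smooth) u v g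
      (FibCat.toSelf 𝒳) hu1 hv1)
    (repByAlgSpWith_fpProd hUf hVf h𝒵.isStack.1 hself _ stableBC_isSurjectiveMor
      stableComp_isSurjectiveMor (atlasLocal_of_fppf isLocalOnBase_fppf_isSurjectiveMor) u v g
      (FibCat.toSelf 𝒳) hu2 hv2) hsrc

end Products

section Main

theorem isQuasiCompactMor_of_isQuasiCompact_of_isQuasiSeparatedOver [QuasiSeparatedSpace ↥S]
    (h𝒳 : AlgSt.IsAlgStack Scheme.fppfPrecoverage 𝒳)
    (h𝒴 : AlgSt.IsAlgStack Scheme.fppfPrecoverage 𝒴) (f : 𝒳 ⥤ᵇ 𝒴)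
    (hq : AlgSt.IsQuasiCompact 𝒳) (hs : AlgSt.IsQuasiSeparatedOver 𝒴) :
    AlgSt.IsQuasiCompactMor Scheme.fppfPrecoverage f := by
  refine isQuasiCompactMor_of_comp_of_isQuasiSeparatedMor h𝒳 h𝒴 isAlgStack_selfOver f
    (FibCat.toSelf 𝒴) ?_ hs
  rw [comp_toSelf]
  exact isQuasiCompactMor_toSelf h𝒳.isStack.1 hq

/-- `fp id h` is equivalent to the source of `h`. -/
theorem isQuasiCompact_of_isQuasiCompactMor (K : Precoverage Scheme.{u})
    (h𝒴 : AlgSt.IsAlgStack K 𝒴) (hq : AlgSt.IsQuasiCompact 𝒴) (h : 𝒳 ⥤ᵇ 𝒴)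
    (hh : AlgSt.IsQuasiCompactMor K h) : AlgSt.IsQuasiCompact 𝒳 := by
  have h1 := hh 𝒴 h𝒴 hq (BasedFunctor.id 𝒴)
  have h2 : AlgSt.IsQuasiCompact (FibCat.fp h (BasedFunctor.id 𝒴)) :=
    isQuasiCompact_of_isEquivOver (FpSwap.fpSwap (BasedFunctor.id 𝒴) h)
      (FpSwap.fpSwap_isEquivOver _ _) h1
  exact (isQuasiCompact_iff_of_isEquivOver (FpId.graphE h) (FpId.graphE_isEquivOver h)).2 h2

theorem qcqs_fp [QuasiSeparatedSpace ↥S]
    (h𝒳 : AlgSt.IsAlgStack Scheme.fppfPrecoverage 𝒳)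
    (h𝒴 : AlgSt.IsAlgStack Scheme.fppfPrecoverage 𝒴)
    (h𝒵 : AlgSt.IsAlgStack Scheme.fppfPrecoverage 𝒵) (a : 𝒳 ⥤ᵇ 𝒴) (b : 𝒵 ⥤ᵇ 𝒴)
    (hX1 : AlgSt.IsQuasiCompact 𝒳) (hX2 : AlgSt.IsQuasiSeparatedOver 𝒳)
    (hY2 : AlgSt.IsQuasiSeparatedOver 𝒴)
    (hZ1 : AlgSt.IsQuasiCompact 𝒵) (hZ2 : AlgSt.IsQuasiSeparatedOver 𝒵) :
    AlgSt.IsQuasiCompact (FibCat.fp a b) ∧ AlgSt.IsQuasiSeparatedOver (FibCat.fp a b) := by
  constructor
  · have hb : AlgSt.IsQuasiCompactMor Scheme.fppfPrecoverage b :=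
      isQuasiCompactMor_of_isQuasiCompact_of_isQuasiSeparatedOver h𝒵 h𝒴 b hZ1 hY2
    exact isQuasiCompact_of_isQuasiCompactMor _ h𝒳 hX1 (FibCat.fpFst a b)
      (isQuasiCompactMor_fpFst _ b a hb)
  · have hY2' : AlgSt.RepByAlgSpWith AlgSp.IsQuasiSeparatedMor
        (FibCat.diag (FibCat.toSelf 𝒴)) :=
      repByAlgSpWith_mono (fun _ _ m hm => hm.2) _ hY2
    have hb : AlgSt.RepByAlgSpWith (AlgSp.IsQuasiCompactMor ⊓ AlgSp.IsQuasiSeparatedMor)
        (FibCat.diag b) :=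
      repByAlgSpWith_diag_of_toSelf _ _ stableBC_qcqs cancelSp_qcqs b hZ2 hY2'
    have hfst := repByAlgSpWith_diag_fpFst _ b a hb
    have hfp : FibCat.IsFibGrpd (FibCat.fp a b).p :=
      isFibGrpd_fp a b h𝒳.isStack.1 h𝒵.isStack.1 h𝒴.isStack.1
    have h1 := repByAlgSpWith_diag_comp hfp h𝒳.isStack.1 _ stableBC_qcqs stableComp_qcqs
      isLocalOnBase_fppf_qcqs (FibCat.fpFst a b) (FibCat.toSelf 𝒳) hfst hX2
    rw [comp_toSelf] at h1
    exact h1

end Main

end Groth.Agent.Helper2.AlgStLib
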