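import Mathlib
import Groth.Prelude.Def_AlgSt4
import Groth.Agent.Lib.Helper2.AlgSt.OpenCover.OpenMap
import Groth.Agent.Lib.Helper2.AlgSt.Setoid
import Groth.Agent.Lib.Helper2.SmBoot.Main2

/-!
# An algebraic stack fibred in setoids is representable by an algebraic space (helper2)
-/

set_option autoImplicit false
set_option maxHeartbeats 4000000
set_option synthInstance.maxHeartbeats 400000
set_option linter.style.haveILetI false
set_option linter.unusedSectionVars false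
set_option linter.unusedVariables false
set_option linter.unusedSimpArgs false
set_option linter.unnecessarySimpa false

open CategoryTheory CategoryTheory.Functor CategoryTheory.Limits AlgebraicGeometry Opposite

universe w u

namespace Groth.Agent.Helper2.AlgStLib.SmBootApp

open Groth.Agent.Helper2 Groth.Agent.Helper2.FibCatLib Groth.Agent.Helper2.StkLib
open Groth.Agent.Helper2.AlgSpBasic Groth.Agent.Helper2.EtaleLocal
open Groth.Agent.Helper2.AlgStLib Groth.Agent.Helper2.AlgStLib.Pts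
open Groth.Agent.Helper2.AlgStLib.LocQ Groth.Agent.Helper2.AlgStLib.Substack
open Groth.Agent.Helper2.AlgStLib.OpenCover

variable {S : Scheme.{u}} {𝒳 : BasedCategory.{u, u + 1} (Over S)}

theorem respectsIsoSp_locP_smooth : RespectsIsoSp (S := S) (AlgSp.LocP @Smooth) := by
  intro X₁ X₂ Y h₁ h₂ hY c _ a ha
  exact locP_comp @Smooth h₂ h₁ hY c a (locP_of_isIso @Smooth h₁.diag c) ha

theorem respectsIsoSp_isSurjectiveMor : RespectsIsoSp (S := S) AlgSp.IsSurjectiveMor := by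
  intro X₁ X₂ Y h₁ h₂ hY c _ a ha y
  obtain ⟨x, hx⟩ := ha y
  refine ⟨AlgSp.Points.map (inv c) x, ?_⟩
  rw [AlgSp.Points.map_comp, ← AlgSp.Points.map_comp (inv c) c, IsIso.inv_hom_id,
    AlgSp.Points.map_id, hx]

/-- A chart of a stack equivalent to the category of a sheaf gives a map of sheaves with the same
properties. -/
theorem exists_map_of_chart (F : AlgSp.Sp S) (e : AlgSt.ofSp F ⥤ᵇ 𝒳)
    (he : FibCat.IsEquivOver e) {U : Over S} (x : FibCat.overCat U ⥤ᵇ 𝒳) :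
    ∃ c₀ : (AlgSp.yon S).obj U ⟶ F, ∀ (P : MorphismProperty (AlgSp.Sp S)), RespectsIsoSp P →
      AlgSt.RepByAlgSpWith P x → AlgSp.RepBySpWith P c₀.hom := by
  have he0 := he
  obtain ⟨e', ⟨ε⟩, ⟨β⟩⟩ := he0
  obtain ⟨c₀, hc0⟩ : ∃ c₀ : (AlgSp.yon S).obj U ⟶ F, c₀.hom = mapOfFunctor
      (BasedFunctor.comp (BasedFunctor.comp (AlgSt.toOverCat U) x) e') :=
    ⟨ObjectProperty.homMk _, rfl⟩
  obtain ⟨κ⟩ := ofPshMap_mapOfFunctor_iso
    (BasedFunctor.comp (BasedFunctor.comp (AlgSt.toOverCat U) x) e')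
  rw [← hc0] at κ
  have θ : BasedFunctor.comp (AlgSt.ofSpMap c₀) e ≅
      BasedFunctor.comp (AlgSt.toOverCat U) x :=
    (PushPull.whiskerRightIso κ e) ≪≫
      (whiskerLeftIso (BasedFunctor.comp (AlgSt.toOverCat U) x) β)
  refine ⟨c₀, fun P hP hx => ?_⟩
  have h1 : AlgSt.RepByAlgSpWith P (AlgSt.ofSpMap c₀) :=
    (repByAlgSpWith_of_square P x (AlgSt.ofSpMap c₀) (AlgSt.toOverCat U) e
      (toOverCat_isEquivOver U) he θ).1 hx
  have hrep1 : AlgSt.RepByAlgSp1 (AlgSt.ofSpMap c₀) := repByAlgSp1_of_repByAlgSpWith _ h1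
  have hrepSp : AlgSp.RepBySp c₀.hom := (repBySp_iff_repByAlgSp1_ofPshMap c₀.hom).2 hrep1
  exact (repBySpWith_iff_repByAlgSpWith_ofPshMap' P hP c₀.hom hrepSp).2 h1

/-- An algebraic stack fibred in setoids is representable by an algebraic space. -/
theorem repByAlgSp_of_isFibSetoid (h𝒳 : AlgSt.IsAlgStack Scheme.fppfPrecoverage 𝒳)
    (hset : FibCat.IsFibSetoid 𝒳.p) : AlgSt.RepByAlgSp 𝒳 := by
  obtain ⟨F, e, he⟩ := exists_sheaf_equiv h𝒳 hset
  obtain ⟨U, x, hxsm, hxsurj⟩ := h𝒳.atlas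
  obtain ⟨c₀, hc₀⟩ := exists_map_of_chart F e he x
  have h1 := hc₀ _ respectsIsoSp_locP_smooth hxsm
  have h2 := hc₀ _ respectsIsoSp_isSurjectiveMor hxsurj
  have h3 : AlgSp.RepBySpWith (AlgSp.IsSurjectiveMor ⊓ AlgSp.LocP @Smooth) c₀.hom := by
    rw [AlgSp.repBySpWith_hom_iff] at h1 h2 ⊢
    intro T ξ F' fst snd sq
    exact ⟨(h1 ξ fst snd sq).1, (h2 ξ fst snd sq).2, (h1 ξ fst snd sq).2⟩
  have hF : AlgSp.IsAlgSpace F :=
    SmBoot.isAlgSpace_of_smooth_cover (AlgSp.IsAlgSpace.yon_obj U) c₀ h3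
  exact ⟨⟨F, hF⟩, e, he⟩

end Groth.Agent.Helper2.AlgStLib.SmBootApp
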