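import Mathlib
import Groth.Prelude.Def_AlgSt4
import Groth.Agent.Lib.Helper2.AlgSt.SmBootApp
import Groth.Agent.Lib.Helper2.AlgSt.QC
import Groth.Agent.Lib.Helper2.AlgSt.Mono
import Groth.Agent.Lib.Helper2.AlgSt.Pts.Homeo
import Groth.Agent.Lib.Helper2.FibCat.Inertia
import Groth.Agent.Lib.Helper1.FibCatL
import Groth.Agent.S12774

/-!
# Faithful morphisms of algebraic stacks are representable by algebraic spaces (helper2)

Criteria for faithfulness in terms of the relative inertia, the double diagonal and kernels of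
automorphism groups; faithful ⇒ representable by algebraic spaces (via the smooth bootstrap).
-/

set_option autoImplicit false
set_option synthInstance.maxHeartbeats 400000
set_option maxHeartbeats 4000000
set_option linter.style.haveILetI false
set_option linter.unusedSectionVars false
set_option linter.unusedVariables false
set_option linter.unusedSimpArgs false
set_option linter.unnecessarySimpa false

open CategoryTheory CategoryTheory.Functor CategoryTheory.Limits AlgebraicGeometry Opposite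

universe w' v' w v₄ u₄ v₃ u₃ v₂ u₂ v u

namespace Groth.Agent.Helper2.AlgStLib.FaithfulCrit

open Groth.Agent.Helper2 Groth.Agent.Helper2.FibCatLib Groth.Agent.Helper2.StkLib

section General

variable {C : Type u} [Category.{v} C]
variable {𝒳 : BasedCategory.{v₂, u₂} C} {𝒴 : BasedCategory.{v₃, u₃} C} (f : 𝒳 ⥤ᵇ 𝒴)

/-- The kernel of `Aut(x) ⟶ Aut(f x)` is trivial for every object `x`. -/
def KerTriv : Prop :=
  ∀ (a : 𝒳.obj) (φ : a ⟶ a), 𝒳.p.map φ = 𝟙 (𝒳.p.obj a) → f.map φ = 𝟙 (f.obj a) → φ = 𝟙 a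

/-- The relative inertia is trivial. -/
def Triv : Prop := ∀ A : FibCat.InertiaObj f, A.aut.hom = 𝟙 A.pt

theorem kerTriv_of_faithful [f.toFunctor.Faithful] : KerTriv f := fun a φ _ h =>
  f.toFunctor.map_injective (h.trans (f.toFunctor.map_id a).symm)

theorem map_p_eq_of_isHomLift {U : C} {a b : 𝒳.obj} (m m' : a ⟶ b)
    (hm : 𝒳.p.IsHomLift (𝟙 U) m) (hm' : 𝒳.p.IsHomLift (𝟙 U) m') : 𝒳.p.map m = 𝒳.p.map m' :=
  (IsHomLift.fac' 𝒳.p (𝟙 U) m).trans (IsHomLift.fac' 𝒳.p (𝟙 U) m').symm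

theorem eq_of_kerTriv (h𝒳 : FibCat.IsFibGrpd 𝒳.p) (hk : KerTriv f) {U : C} {a b : 𝒳.obj}
    (m m' : a ⟶ b) (hm : 𝒳.p.IsHomLift (𝟙 U) m) (hm' : 𝒳.p.IsHomLift (𝟙 U) m')
    (h : f.map m = f.map m') : m = m' := by
  haveI : IsIso m' := IsFibGrpd.isIso_of_isHomLift_id 𝒳.p h𝒳 (S := U) m'
  have hp : 𝒳.p.map m = 𝒳.p.map m' := map_p_eq_of_isHomLift m m' hm hm'
  have h1 : 𝒳.p.map (m ≫ inv m') = 𝟙 (𝒳.p.obj a) := by
    rw [𝒳.p.map_comp, hp, ← 𝒳.p.map_comp, IsIso.hom_inv_id]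
    exact 𝒳.p.map_id a
  have h2 : f.toFunctor.map (m ≫ inv m') = 𝟙 (f.toFunctor.obj a) := by
    have h' : f.toFunctor.map m = f.toFunctor.map m' := h
    rw [f.toFunctor.map_comp, h', ← f.toFunctor.map_comp, IsIso.hom_inv_id]
    exact f.toFunctor.map_id a
  have h3 : m ≫ inv m' = 𝟙 a := hk a (m ≫ inv m') h1 h2
  have h4 := (IsIso.comp_inv_eq m').1 h3
  rw [Category.id_comp] at h4
  exact h4

theorem faithful_of_kerTriv (h𝒳 : FibCat.IsFibGrpd 𝒳.p) (h𝒴 : FibCat.IsFibGrpd 𝒴.p)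
    (hk : KerTriv f) : f.toFunctor.Faithful :=
  faithful_of_fiber h𝒳 h𝒴 f (fun U a b m m' hm hm' h => eq_of_kerTriv f h𝒳 hk m m' hm hm' h)

theorem map_p_aut (A : FibCat.InertiaObj f) : 𝒳.p.map A.aut.hom = 𝟙 (𝒳.p.obj A.pt) := by
  have h1 : 𝒳.p.IsHomLift (𝟙 (𝒳.p.obj A.pt)) A.aut.hom :=
    Inertia.isHomLift_of_map_eq_id f A.aut.hom A.map_aut
  have h2 := IsHomLift.fac' 𝒳.p (𝟙 (𝒳.p.obj A.pt)) A.aut.hom
  simpa using h2

theorem triv_of_kerTriv (hk : KerTriv f) : Triv f := fun A =>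
  hk _ _ (map_p_aut f A) A.map_aut

theorem kerTriv_of_triv (h𝒳 : FibCat.IsFibGrpd 𝒳.p) (ht : Triv f) : KerTriv f := by
  intro a φ hp hf
  have h0 : 𝒳.p.IsHomLift (𝒳.p.map φ) φ := inferInstance
  rw [hp] at h0
  haveI : IsIso φ := IsFibGrpd.isIso_of_isHomLift_id 𝒳.p h𝒳 (S := 𝒳.p.obj a) φ
  exact ht ⟨a, asIso φ, hf⟩

theorem triv_iff_faithful (h𝒳 : FibCat.IsFibGrpd 𝒳.p) (h𝒴 : FibCat.IsFibGrpd 𝒴.p) :
    Triv f ↔ f.toFunctor.Faithful :=
  ⟨fun ht => faithful_of_kerTriv f h𝒳 h𝒴 (kerTriv_of_triv f h𝒳 ht),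
    fun hf => triv_of_kerTriv f (@kerTriv_of_faithful _ _ _ _ f hf)⟩

theorem kerTriv_iff_faithful (h𝒳 : FibCat.IsFibGrpd 𝒳.p) (h𝒴 : FibCat.IsFibGrpd 𝒴.p) :
    KerTriv f ↔ f.toFunctor.Faithful :=
  ⟨fun hk => faithful_of_kerTriv f h𝒳 h𝒴 hk, fun hf => @kerTriv_of_faithful _ _ _ _ f hf⟩

/-- The structure functor of the relative inertia is an equivalence iff the inertia is trivial. -/
theorem isEquivOver_inertiaToBase_iff :
    FibCat.IsEquivOver (FibCat.inertiaToBase f) ↔ Triv f := by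
  constructor
  · intro h A
    obtain ⟨⟨hfull, -⟩, -⟩ := (isEquivOver_iff _).1 h
    obtain ⟨g, hg⟩ := hfull.map_surjective (X := A)
      (Y := (⟨A.pt, Iso.refl A.pt, f.toFunctor.map_id A.pt⟩ : FibCat.InertiaObj f)) (𝟙 A.pt)
    have hg' : g.hom = 𝟙 A.pt := hg
    have hc : A.aut.hom ≫ g.hom = g.hom ≫ 𝟙 A.pt := g.comm
    rw [hg', Category.comp_id, Category.comp_id] at hc
    exact hc
  · intro ht
    haveI : (FibCat.inertiaToBase f).toFunctor.Full :=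
      ⟨fun {A B} φ => ⟨⟨φ, by
        have φ' : A.pt ⟶ B.pt := φ
        change A.aut.hom ≫ φ = φ ≫ B.aut.hom
        rw [ht A, ht B]
        exact (Category.id_comp _).trans (Category.comp_id _).symm⟩, rfl⟩⟩
    haveI : (FibCat.inertiaToBase f).toFunctor.Faithful :=
      ⟨fun {A B} g g' h => FibCat.InertiaObj.hom_ext h⟩
    refine isEquivOver_of_fullyFaithful_of_exists_iso _
      (fun η => ⟨⟨η, Iso.refl η, f.toFunctor.map_id η⟩, Iso.refl _, ?_⟩)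
    change 𝒳.p.IsHomLift (𝟙 (𝒳.p.obj η)) (𝟙 η)
    infer_instance

theorem diag_full_of_faithful [f.toFunctor.Faithful] : (FibCat.diag f).toFunctor.Full where
  map_surjective {x y} m := by
    have hw := m.hom.w
    have h2 : f.toFunctor.map (m.hom.fst : x ⟶ y) ≫ 𝟙 _ = 𝟙 _ ≫ f.toFunctor.map (m.hom.snd : x ⟶ y) :=
      hw
    rw [Category.comp_id, Category.id_comp] at h2
    have h3 : (m.hom.fst : x ⟶ y) = (m.hom.snd : x ⟶ y) := f.toFunctor.map_injective h2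
    refine ⟨(m.hom.fst : x ⟶ y), ?_⟩
    apply ObjectProperty.hom_ext
    apply CategoricalPullback.hom_ext
    · rfl
    · exact h3

theorem diag_faithful : (FibCat.diag f).toFunctor.Faithful where
  map_injective {x y} φ ψ h := congrArg (fun t => t.hom.fst) h

theorem isEquivOver_diag_diag_of_faithful [f.toFunctor.Faithful] :
    FibCat.IsEquivOver (FibCat.diag (FibCat.diag f)) := by
  haveI := diag_full_of_faithful f
  haveI := diag_faithful f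
  exact Groth.Agent.Helper1.FibCatL.isEquivOver_diag_of_fullyFaithful (FibCat.diag f)

theorem triv_of_isEquivOver_diag_diag
    (hD : FibCat.IsEquivOver (FibCat.diag (FibCat.diag f))) : Triv f := by
  intro A
  obtain ⟨x, θ, -⟩ := exists_iso_over_of_isEquivOver hD (Inertia.eObj f A)
  obtain ⟨t₁, ht₁⟩ : ∃ t : x ⟶ A.pt, t = θ.hom.hom.fst := ⟨_, rfl⟩
  obtain ⟨t₂, ht₂⟩ : ∃ t : x ⟶ A.pt, t = θ.hom.hom.snd := ⟨_, rfl⟩
  obtain ⟨s, hs⟩ : ∃ t : A.pt ⟶ x, t = θ.inv.hom.fst := ⟨_, rfl⟩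
  have hw := θ.hom.hom.w
  have h1 : t₁ ≫ A.aut.hom = 𝟙 x ≫ t₂ := by
    rw [ht₁, ht₂]
    exact congrArg (fun t => t.hom.fst) hw
  have h2 : t₁ ≫ 𝟙 A.pt = 𝟙 x ≫ t₂ := by
    rw [ht₁, ht₂]
    exact congrArg (fun t => t.hom.snd) hw
  have h3 : s ≫ t₁ = 𝟙 A.pt := by
    rw [hs, ht₁]
    exact congrArg (fun t => t.hom.fst) θ.inv_hom_id
  rw [Category.comp_id] at h2
  rw [← h2] at h1
  have e1 : (s ≫ t₁) ≫ A.aut.hom = s ≫ t₁ :=
    (Category.assoc _ _ _).trans (congrArg (fun t => s ≫ t) h1)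
  rw [h3, Category.id_comp] at e1
  exact e1

theorem kerTriv_of_diag_full (h : (FibCat.diag f).toFunctor.Full) : KerTriv f := by
  intro a φ _ hf
  let m : (FibCat.diag f).toFunctor.obj a ⟶ (FibCat.diag f).toFunctor.obj a :=
    ObjectProperty.homMk ⟨φ, 𝟙 a, by
      change f.toFunctor.map φ ≫ 𝟙 _ = 𝟙 _ ≫ f.toFunctor.map (𝟙 a)
      have hf' : f.toFunctor.map φ = 𝟙 (f.toFunctor.obj a) := hf
      rw [hf', f.toFunctor.map_id]⟩
  obtain ⟨k, hk⟩ := h.map_surjective m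
  have h1 : k = φ := congrArg (fun t => t.hom.fst) hk
  have h2 : k = 𝟙 a := congrArg (fun t => t.hom.snd) hk
  exact h1.symm.trans h2

/-- Thin fibres in terms of the absolute inertia. -/
theorem isFibSetoid_iff_triv_toSelf (h𝒳 : FibCat.IsFibGrpd 𝒳.p) :
    FibCat.IsFibSetoid 𝒳.p ↔ Triv (FibCat.toSelf 𝒳) := by
  constructor
  · intro hs A
    haveI h1 : 𝒳.p.IsHomLift (𝟙 (𝒳.p.obj A.pt)) A.aut.hom :=
      Inertia.isHomLift_of_map_eq_id (FibCat.toSelf 𝒳) A.aut.hom A.map_aut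
    haveI h2 : 𝒳.p.IsHomLift (𝟙 (𝒳.p.obj A.pt)) (𝟙 A.pt) := inferInstance
    exact eq_of_isThin_fiber 𝒳.p (hs.2 (𝒳.p.obj A.pt)) A.aut.hom (𝟙 A.pt)
  · intro ht
    refine ⟨h𝒳, fun U a b => ⟨fun m m' => ?_⟩⟩
    apply Subtype.ext
    have hm : 𝒳.p.IsHomLift (𝟙 U) m.1 := m.2
    have hm' : 𝒳.p.IsHomLift (𝟙 U) m'.1 := m'.2
    exact eq_of_kerTriv (FibCat.toSelf 𝒳) h𝒳 (kerTriv_of_triv _ h𝒳 ht) m.1 m'.1 hm hm'
      (map_p_eq_of_isHomLift m.1 m'.1 hm hm')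

/-- 2-fibre product with a faithful functor on the right and a setoid on the left. -/
theorem isFibSetoid_fp_of_faithful_right {𝒮 : BasedCategory.{v₄, u₄} C}
    (h𝒮 : FibCat.IsFibGrpd 𝒮.p) (h𝒴 : FibCat.IsFibGrpd 𝒴.p) (h𝒳 : FibCat.IsFibSetoid 𝒳.p)
    (g : 𝒳 ⥤ᵇ 𝒮) (k : 𝒴 ⥤ᵇ 𝒮) [k.toFunctor.Faithful] :
    FibCat.IsFibSetoid (FibCat.fp g k).p := by
  refine ⟨isFibGrpd_fp g k h𝒳.1 h𝒴 h𝒮, fun U A B => ⟨fun m m' => ?_⟩⟩
  apply Subtype.ext
  have hm : (FibCat.fp g k).p.IsHomLift (𝟙 U) m.1 := m.2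
  have hm' : (FibCat.fp g k).p.IsHomLift (𝟙 U) m'.1 := m'.2
  have hs : 𝒳.p.IsHomLift (𝟙 U) m.1.hom.fst :=
    BasedFunctor.preserves_isHomLift (FibCat.fpFst g k) (𝟙 U) m.1
  have hs' : 𝒳.p.IsHomLift (𝟙 U) m'.1.hom.fst :=
    BasedFunctor.preserves_isHomLift (FibCat.fpFst g k) (𝟙 U) m'.1
  have e1 : m.1.hom.fst = m'.1.hom.fst := eq_of_isThin_fiber 𝒳.p (h𝒳.2 U) _ _
  have e2 : m.1.hom.snd = m'.1.hom.snd := by
    apply k.toFunctor.map_injective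
    have w := m.1.hom.w
    have w' := m'.1.hom.w
    rw [e1] at w
    exact (cancel_epi _).1 (w.symm.trans w')
  apply ObjectProperty.hom_ext
  exact CategoricalPullback.hom_ext e1 e2

/-- Base change of a full functor is full. -/
theorem fpFst_full_of_full {𝒮 : BasedCategory.{v₄, u₄} C} (g : 𝒳 ⥤ᵇ 𝒮) (k : 𝒴 ⥤ᵇ 𝒮)
    [k.toFunctor.Full] : (FibCat.fpFst g k).toFunctor.Full where
  map_surjective {A B} φ := by
    obtain ⟨φ', hφ'⟩ : ∃ φ' : A.obj.fst ⟶ B.obj.fst, φ' = φ := ⟨φ, rfl⟩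
    obtain ⟨t, ht⟩ := k.toFunctor.map_surjective
      (A.obj.iso.inv ≫ g.toFunctor.map φ' ≫ B.obj.iso.hom)
    have hw : g.toFunctor.map φ' ≫ B.obj.iso.hom = A.obj.iso.hom ≫ k.toFunctor.map t := by
      rw [ht, Iso.hom_inv_id_assoc]
    exact ⟨ObjectProperty.homMk ⟨φ', t, hw⟩, hφ'⟩

end General

section Presheaf

variable {C : Type u} [Category.{v} C] {P Q : Cᵒᵖ ⥤ Type w}

theorem injective_of_ofPshMap_full (φ : P ⟶ Q) (h : (Stk.ofPshMap φ).toFunctor.Full) (T : Cᵒᵖ) :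
    Function.Injective (φ.app T) := by
  intro s s' hs
  let a : Stk.EltObj P := ⟨T.unop, s⟩
  let b : Stk.EltObj P := ⟨T.unop, s'⟩
  let g : (Stk.ofPshMap φ).toFunctor.obj a ⟶ (Stk.ofPshMap φ).toFunctor.obj b :=
    ⟨𝟙 T.unop, by
      change Q.map (𝟙 T.unop).op (φ.app _ s') = φ.app _ s
      rw [op_id]
      exact (Q.map_id_apply _ _).trans hs.symm⟩
  obtain ⟨k, hk⟩ := h.map_surjective g
  have hk' : k.hom = 𝟙 T.unop := congrArg (fun t => t.hom) hk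
  have h2 : P.map k.hom.op s' = s := k.map_sec
  rw [hk', op_id] at h2
  exact ((P.map_id_apply _ _).symm.trans h2).symm

end Presheaf

section AlgSt

variable {S : Scheme.{u}}

/-- A full functor to `(Sch/U)` from a category equivalent to the category of a sheaf is
represented by a monomorphism of sheaves. -/
theorem mono_spMapOfOver_of_full {U : Over S} {𝒜 : BasedCategory.{v, w} (Over S)}
    (π : 𝒜 ⥤ᵇ FibCat.overCat U) {F : AlgSp.Sp S} (e : AlgSt.ofSp F ⥤ᵇ 𝒜)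
    (hπ : π.toFunctor.Full) (he : e.toFunctor.Full) :
    Mono (AlgSt.spMapOfOver (BasedFunctor.comp e π)) := by
  obtain ⟨q, hq⟩ : ∃ q : F ⟶ (AlgSp.yon S).obj U, q = AlgSt.spMapOfOver (BasedFunctor.comp e π) :=
    ⟨_, rfl⟩
  rw [← hq]
  obtain ⟨θ⟩ := ofSpMap_spMapOfOver_iso (BasedFunctor.comp e π)
  rw [← hq] at θ
  let θ' : (AlgSt.ofSpMap q).toFunctor ⋙ (AlgSt.toOverCat U).toFunctor ≅
      e.toFunctor ⋙ π.toFunctor := (BasedNatTrans.forgetful _ _).mapIso θ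
  have h4 : (e.toFunctor ⋙ π.toFunctor).Full := inferInstance
  have h3 : ((AlgSt.ofSpMap q).toFunctor ⋙ (AlgSt.toOverCat U).toFunctor).Full :=
    Functor.Full.of_iso θ'.symm
  have h2 : (AlgSt.toOverCat U).toFunctor.IsEquivalence :=
    FibCatLib.isEquivalence_of_isEquivOver (toOverCat_isEquivOver U)
  have h1 : (AlgSt.ofSpMap q).toFunctor.Full :=
    Functor.Full.of_comp_faithful _ (AlgSt.toOverCat U).toFunctor
  have hinj : ∀ T, Function.Injective (q.hom.app T) := fun T =>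
    injective_of_ofPshMap_full q.hom h1 T
  haveI : ∀ T, Mono (q.hom.app T) := fun T => (mono_iff_injective _).2 (hinj T)
  haveI : Mono q.hom := NatTrans.mono_of_mono_app q.hom
  exact Sheaf.Hom.mono_of_presheaf_mono _ _ q

variable {𝒳 𝒴 : BasedCategory.{u, u + 1} (Over S)}

/-- **Faithful ⇒ representable by algebraic spaces** for morphisms of algebraic stacks. -/
theorem repByAlgSp1_of_faithful (h𝒳 : AlgSt.IsAlgStack Scheme.fppfPrecoverage 𝒳)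
    (h𝒴 : AlgSt.IsAlgStack Scheme.fppfPrecoverage 𝒴) (f : 𝒳 ⥤ᵇ 𝒴) (hf : f.toFunctor.Faithful) :
    AlgSt.RepByAlgSp1 f := by
  intro U y
  haveI := hf
  exact SmBootApp.repByAlgSp_of_isFibSetoid
    (isAlgStack_fp _ (Pts.isAlgStack_overCat U) h𝒳 h𝒴 y f)
    (isFibSetoid_fp_of_faithful_right h𝒴.isStack.1 h𝒳.isStack.1
      (isFibSetoid_of_repByAlgSp (repByAlgSp_overCat U)) y f)

theorem repByAlgSp1_iff_faithful (h𝒳 : AlgSt.IsAlgStack Scheme.fppfPrecoverage 𝒳)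
    (h𝒴 : AlgSt.IsAlgStack Scheme.fppfPrecoverage 𝒴) (f : 𝒳 ⥤ᵇ 𝒴) :
    AlgSt.RepByAlgSp1 f ↔ f.toFunctor.Faithful :=
  ⟨faithful_of_repByAlgSp1 h𝒳.isStack.1 h𝒴.isStack.1 f, repByAlgSp1_of_faithful h𝒳 h𝒴 f⟩

/-- Fully faithful ⇒ monomorphism. -/
theorem isMono_of_fullyFaithful (h𝒳 : AlgSt.IsAlgStack Scheme.fppfPrecoverage 𝒳)
    (h𝒴 : AlgSt.IsAlgStack Scheme.fppfPrecoverage 𝒴) (f : 𝒳 ⥤ᵇ 𝒴) (hfull : f.toFunctor.Full)
    (hf : f.toFunctor.Faithful) : AlgSt.IsMono f := by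
  intro U y
  obtain ⟨F, e, he⟩ := repByAlgSp1_of_faithful h𝒳 h𝒴 f hf U y
  refine ⟨F, e, he, ?_⟩
  haveI := hfull
  have h1 : (FibCat.fpFst y f).toFunctor.Full := fpFst_full_of_full y f
  have h2 : e.toFunctor.IsEquivalence := FibCatLib.isEquivalence_of_isEquivOver he
  have h3 : e.toFunctor.Full := inferInstance
  exact mono_spMapOfOver_of_full (FibCat.fpFst y f) e h1 h3

/-- Monomorphic diagonal ⇒ faithful. -/
theorem faithful_of_isMono_diag (h𝒳 : AlgSt.IsAlgStack Scheme.fppfPrecoverage 𝒳)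
    (h𝒴 : AlgSt.IsAlgStack Scheme.fppfPrecoverage 𝒴) (f : 𝒳 ⥤ᵇ 𝒴)
    (h : AlgSt.IsMono (FibCat.diag f)) : f.toFunctor.Faithful := by
  have hfp : FibCat.IsFibGrpd (FibCat.fp f f).p :=
    isFibGrpd_fp f f h𝒳.isStack.1 h𝒳.isStack.1 h𝒴.isStack.1
  obtain ⟨hfull, -⟩ := Groth.Agent.S12774.result h𝒳.isStack.1 hfp (FibCat.diag f) h
  exact faithful_of_kerTriv f h𝒳.isStack.1 h𝒴.isStack.1 (kerTriv_of_diag_full f hfull)

end AlgSt

end Groth.Agent.Helper2.AlgStLib.FaithfulCrit
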