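import Mathlib
import Groth.Prelude.Def_AlgSt4
import Groth.Agent.Lib.Helper2.AlgSt.Inertia
import Groth.Agent.Lib.Helper2.AlgSt.DiagCover
import Groth.Agent.Lib.Helper2.AlgSt.SepDiag
import Groth.Agent.Lib.Helper2.AlgSt.FpAlg
import Groth.Agent.Lib.Helper2.AlgSt.PFacts2
import Groth.Agent.Lib.Helper2.AlgSt.FaithfulCrit
import Groth.Agent.Lib.Helper2.Stk.OfPshFun
import Groth.Agent.Lib.Helper2.AlgSt.LocalBase
import Groth.Agent.Lib.Helper2.FibCat.Yoneda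
import Groth.Agent.Lib.Helper2.FibCat.EquivCrit
import Groth.Agent.Lib.Helper2.AlgSt.Pts.Space
import Groth.Agent.Lib.Helper2.AlgSp.Mono
import Groth.Agent.Lib.Helper2.AlgSp.Mor2
import Groth.Agent.Lib.Helper2.AlgSp.LargestOpen
import Groth.Agent.Lib.Helper2.FibCat.InertiaFp
import Groth.Agent.Lib.Helper2.FibGrpd

/-!
# A functor between Deligne–Mumford stacks injective on automorphism groups of geometric points
is representable by algebraic spaces (helper2)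
-/

set_option backward.isDefEq.respectTransparency.types false
set_option autoImplicit false
set_option synthInstance.maxHeartbeats 400000
set_option maxHeartbeats 4000000
set_option linter.style.haveILetI false
set_option linter.unusedSectionVars false
set_option linter.unusedVariables false
set_option linter.unusedSimpArgs false
set_option linter.unnecessarySimpa false

open CategoryTheory CategoryTheory.Functor CategoryTheory.Limits AlgebraicGeometry Opposite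

universe u

namespace Groth.Agent.Helper2.AlgStLib.DMRepAut

open Groth.Agent.Helper2 Groth.Agent.Helper2.FibCatLib Groth.Agent.Helper2.StkLib
open Groth.Agent.Helper2.AlgSpBasic Groth.Agent.Helper2.EtaleLocal
open Groth.Agent.Helper2.AlgStLib Groth.Agent.Helper2.AlgStLib.SepDiag

variable {S : Scheme.{u}} {𝒢 ℱ : BasedCategory.{u, u + 1} (Over S)}

/-- The diagonal over the base of a category fibred in groupoids with representable diagonal and
an étale atlas is unramified. -/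
theorem repByAlgSpWith_unr_diag_toSelf_of_etale_atlas (h𝒳 : FibCat.IsFibGrpd 𝒢.p)
    (hΔ : AlgSt.RepByAlgSp1 (FibCat.diag (FibCat.toSelf 𝒢)))
    (hat : AlgSt.HasAtlas AlgSp.IsEtaleMor 𝒢) :
    AlgSt.RepByAlgSpWith (AlgSp.LocP (@LocallyOfFiniteType ⊓ @FormallyUnramified))
      (FibCat.diag (FibCat.toSelf 𝒢)) := by
  obtain ⟨U, x, hx1, hx2⟩ := hasAtlas_isEtaleMor_iff.1 hat
  exact repByAlgSpWith_diag_toSelf_of_cover h𝒳 (isFibGrpd_overCat U) _
    (stableBC_locP _) isLocalOnBase_fppf_locP_unramified (cancelSp_unramified ⊤) hΔ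
    (repByAlgSp_overCat U) x
    (repByAlgSpWith_locP_mono (fun _ _ g (hg : Etale g) => (inferInstance : Flat g)) x hx1)
    (repByAlgSpWith_locP_mono (fun _ _ g (hg : Etale g) =>
      (inferInstance : LocallyOfFinitePresentation g)) x hx1) hx2
    (repByAlgSpWith_locP_mono (fun _ _ g (hg : Etale g) =>
      ⟨(inferInstance : LocallyOfFiniteType g), (inferInstance : FormallyUnramified g)⟩) x hx1)

/-- If automorphisms of geometric points killed by `g` are trivial, the neutral section of the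
relative inertia is surjective on points. -/
theorem isSurjective_inertiaNeutral (h𝒢 : FibCat.IsFibGrpd 𝒢.p) (hℱ : FibCat.IsFibGrpd ℱ.p)
    (g : 𝒢 ⥤ᵇ ℱ)
    (hinj : ∀ (k : Type u) [Field k] [IsAlgClosed k] (s : Spec (CommRingCat.of k) ⟶ S)
      (ξ : 𝒢.obj) (hξ : 𝒢.p.obj ξ = Over.mk s) (a : ξ ⟶ ξ),
      𝒢.p.IsHomLift (𝟙 (𝒢.p.obj ξ)) a → g.map a = 𝟙 (g.obj ξ) → a = 𝟙 ξ) :
    AlgSt.IsSurjective (FibCat.inertiaNeutral g) := by
  intro y
  obtain ⟨⟨K, str, A, lies⟩, rfl⟩ := AlgSt.Points.mk_surjective y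
  have lies' : 𝒢.p.obj A.pt = Over.mk str := lies
  obtain ⟨s, hs⟩ : ∃ s : Spec (CommRingCat.of (AlgebraicClosure K)) ⟶ S,
      s = Spec.map (CommRingCat.ofHom (algebraMap K (AlgebraicClosure K))) ≫ str := ⟨_, rfl⟩
  obtain ⟨f, hf⟩ : ∃ f : Over.mk s ⟶ Over.mk str,
      f.left = Spec.map (CommRingCat.ofHom (algebraMap K (AlgebraicClosure K))) :=
    ⟨Over.homMk (Spec.map (CommRingCat.ofHom (algebraMap K (AlgebraicClosure K)))) hs.symm, rfl⟩
  obtain ⟨ξ', φ, hφ⟩ := IsFibGrpd.exists_lift_of_eq 𝒢.p h𝒢 lies' f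
  haveI := hφ
  have hξ' : 𝒢.p.obj ξ' = Over.mk s := IsHomLift.domain_eq 𝒢.p f φ
  haveI h0 : 𝒢.p.IsHomLift (𝟙 (𝒢.p.obj A.pt)) A.aut.hom :=
    (isHomLift_iff_map_eq 𝒢.p _ _).2 (FaithfulCrit.map_p_aut g A)
  haveI h1 : 𝒢.p.IsHomLift (𝟙 (Over.mk str)) A.aut.hom := isHomLift_id_of_eq 𝒢.p lies' A.aut.hom
  obtain ⟨a', ⟨ha'1, ha'2⟩, -⟩ := IsFibGrpd.existsUnique 𝒢.p h𝒢 (𝟙 (Over.mk s)) f f
    (Category.id_comp f).symm φ (φ ≫ A.aut.hom)
  haveI := ha'1
  have hga : g.map a' = 𝟙 (g.obj ξ') := by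
    haveI : ℱ.p.IsHomLift f (g.map φ) := inferInstance
    haveI : ℱ.p.IsHomLift (𝟙 (Over.mk s)) (g.map a') := inferInstance
    haveI : ℱ.p.IsHomLift (𝟙 (Over.mk s)) (𝟙 (g.obj ξ')) :=
      IsHomLift.id ((g.w_obj ξ').trans hξ')
    refine IsFibGrpd.ext_of_comp ℱ.p hℱ (𝟙 (Over.mk s)) (g.map φ) ?_
    rw [Category.id_comp, ← Functor.map_comp, ha'2, Functor.map_comp, A.map_aut, Category.comp_id]
  have ha'id : a' = 𝟙 ξ' := by
    haveI : 𝒢.p.IsHomLift (𝟙 (𝒢.p.obj ξ')) a' := isHomLift_id_of_eq 𝒢.p hξ'.symm a'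
    exact hinj (AlgebraicClosure K) s ξ' hξ' a' this hga
  refine ⟨AlgSt.Points.mk ⟨AlgebraicClosure K, s, ξ', hξ'⟩, ?_⟩
  rw [AlgSt.Points.map_mk]
  refine Pts.mk_eq_of_hom (q := ⟨K, str, A, lies⟩) ?_
  refine ⟨φ, ?_⟩
  change 𝟙 ξ' ≫ φ = φ ≫ A.aut.hom
  rw [← ha'2, ha'id]

/-- A functor from a sheaf to a slice whose map of sheaves is an isomorphism is essentially
surjective. -/
theorem essSurj_of_isIso_spMapOfOver' {F : AlgSp.Sp S} {U : Over S}
    (Φ : AlgSt.ofSp F ⥤ᵇ FibCat.overCat U) (h : IsIso (AlgSt.spMapOfOver Φ)) :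
    Φ.toFunctor.EssSurj := by
  obtain ⟨θ⟩ := ofSpMap_spMapOfOver_iso Φ
  have h0 : IsIso ((sheafToPresheaf _ _).map (AlgSt.spMapOfOver Φ)) := inferInstance
  have h1 : IsIso (AlgSt.spMapOfOver Φ).hom := h0
  have h2 : FibCat.IsEquivOver (AlgSt.ofSpMap (AlgSt.spMapOfOver Φ)) :=
    isEquivOver_ofPshMap_of_isIso (AlgSt.spMapOfOver Φ).hom
  have h3 : (AlgSt.ofSpMap (AlgSt.spMapOfOver Φ)).toFunctor.IsEquivalence :=
    FibCatLib.isEquivalence_of_isEquivOver h2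
  have h4 : (AlgSt.toOverCat U).toFunctor.IsEquivalence :=
    FibCatLib.isEquivalence_of_isEquivOver (toOverCat_isEquivOver U)
  have h5 : ((AlgSt.ofSpMap (AlgSt.spMapOfOver Φ)).toFunctor ⋙
      (AlgSt.toOverCat U).toFunctor).EssSurj := inferInstance
  let θ' : (AlgSt.ofSpMap (AlgSt.spMapOfOver Φ)).toFunctor ⋙ (AlgSt.toOverCat U).toFunctor ≅
      Φ.toFunctor := (BasedNatTrans.forgetful _ _).mapIso θ
  exact Functor.essSurj_of_iso θ'

/-- A functor representable by isomorphisms of algebraic spaces is essentially surjective. -/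
theorem exists_iso_of_repByAlgSpWith_isomorphisms {𝒳 𝒴 : BasedCategory.{u, u + 1} (Over S)}
    (h𝒴 : FibCat.IsFibGrpd 𝒴.p) (f : 𝒳 ⥤ᵇ 𝒴)
    (hf : AlgSt.RepByAlgSpWith (MorphismProperty.isomorphisms (AlgSp.Sp S)) f) (η : 𝒴.obj) :
    ∃ z : 𝒳.obj, Nonempty (f.obj z ≅ η) := by
  have : 𝒴.p.IsFibered := isFibered_of_isFibGrpd 𝒴.p h𝒴
  have hlies : 𝒴.p.obj η = 𝒴.p.obj η := rfl
  obtain ⟨e₀, -⟩ := yonedaFunctor_obj_id_iso hlies
  obtain ⟨F, e, he, hiso⟩ := hf (𝒴.p.obj η) (yonedaFunctor hlies)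
  have hes := essSurj_of_isIso_spMapOfOver' _ hiso
  obtain ⟨s, ⟨ε⟩⟩ := Functor.EssSurj.mem_essImage
    (BasedFunctor.comp e (FibCat.fpFst (yonedaFunctor hlies) f)).toFunctor
    (Over.mk (𝟙 (𝒴.p.obj η)))
  let w : (FibCat.fp (yonedaFunctor hlies) f).obj := e.obj s
  have i1 : (yonedaFunctor hlies).obj w.obj.fst ≅ f.obj w.obj.snd := w.obj.iso
  have i2 : (yonedaFunctor hlies).obj w.obj.fst ≅
      (yonedaFunctor hlies).obj (Over.mk (𝟙 (𝒴.p.obj η))) :=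
    (yonedaFunctor hlies).toFunctor.mapIso ε
  exact ⟨w.obj.snd, ⟨i1.symm ≪≫ i2 ≪≫ e₀⟩⟩

/-- A functor between Deligne–Mumford stacks which is injective on automorphism groups of
geometric points is representable by algebraic spaces. -/
theorem main (h𝒢 : AlgSt.IsDM Scheme.fppfPrecoverage 𝒢) (hℱ : AlgSt.IsDM Scheme.fppfPrecoverage ℱ)
    (g : 𝒢 ⥤ᵇ ℱ)
    (hinj : ∀ (k : Type u) [Field k] [IsAlgClosed k] (s : Spec (CommRingCat.of k) ⟶ S)
      (ξ : 𝒢.obj) (hξ : 𝒢.p.obj ξ = Over.mk s) (a : ξ ⟶ ξ),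
      𝒢.p.IsHomLift (𝟙 (𝒢.p.obj ξ)) a → g.map a = 𝟙 (g.obj ξ) → a = 𝟙 ξ) :
    AlgSt.RepByAlgSp1 g := by
  have hf𝒢 : FibCat.IsFibGrpd 𝒢.p := h𝒢.1.isStack.1
  have hfℱ : FibCat.IsFibGrpd ℱ.p := hℱ.1.isStack.1
  have hDM𝒢 := repByAlgSpWith_unr_diag_toSelf_of_etale_atlas hf𝒢 h𝒢.1.diag h𝒢.2
  have hDMg : AlgSt.RepByAlgSpWith (AlgSp.LocP (@LocallyOfFiniteType ⊓ @FormallyUnramified))
      (FibCat.diag g) :=
    repByAlgSpWith_diag_of_toSelf _ ⊤ (stableBC_locP _) (cancelSp_unramified ⊤) g hDM𝒢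
      ((repByAlgSp1_iff_top _).1 hℱ.1.diag)
  have hI := repByAlgSpWith_inertiaToBase_of_diag _ g hDMg
  have hN : AlgSt.IsOpenImm (FibCat.inertiaNeutral g) :=
    repByAlgSpWith_inertiaNeutral_of_diag _ g (isOpenImm_diag_of_unramified _ hI)
  have hfI : FibCat.IsFibGrpd (FibCat.inertia g).p :=
    (isFibGrpd_iff_of_isEquivOver (InertiaFp.Φ g) (InertiaFp.Φ_isEquivOver g)).1
      (isFibGrpd_fp (FibCat.diag g) (FibCat.diag g) hf𝒢 hf𝒢 (isFibGrpd_fp g g hf𝒢 hf𝒢 hfℱ))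
  have hS := isSurjective_inertiaNeutral hf𝒢 hfℱ g hinj
  have hNs : AlgSt.RepByAlgSpWith AlgSp.IsSurjectiveMor (FibCat.inertiaNeutral g) :=
    Pts.repByAlgSpWith_of_isSurjective hf𝒢 hfI (FibCat.inertiaNeutral g)
      (repByAlgSp1_of_repByAlgSpWith _ hN) hS
  have hNiso : AlgSt.RepByAlgSpWith (MorphismProperty.isomorphisms (AlgSp.Sp S))
      (FibCat.inertiaNeutral g) :=
    repByAlgSpWith_of_forall₂ (respectsIsoSp_of_stableBC stableBC_isSurjectiveMor) _ hN hNs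
      (fun X Y hX hY a ha hs => by
        haveI : Mono a := mono_of_repWith_monomorphisms a (repWith_mono (fun _ _ g
          (hg : IsOpenImmersion g) => (inferInstance : Mono g)) ha)
        exact isIso_of_mono_of_locP_etale_surjective hX hY a
          (locP_etale_of_repWith_isOpenImmersion hX a ha) hs)
  have hT : FaithfulCrit.Triv g := fun A => by
    obtain ⟨ξ, ⟨ε⟩⟩ := exists_iso_of_repByAlgSpWith_isomorphisms hfI
      (FibCat.inertiaNeutral g) hNiso A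
    have hc : ε.hom.hom = ε.hom.hom ≫ A.aut.hom := by
      have h := ε.hom.comm
      have h2 : ((FibCat.inertiaNeutral g).obj ξ).aut.hom = 𝟙 _ := rfl
      rw [h2, Category.id_comp] at h
      exact h
    have h1 : ε.inv.hom ≫ ε.hom.hom = 𝟙 A.pt :=
      congrArg FibCat.InertiaObj.Hom.hom ε.inv_hom_id
    calc A.aut.hom = (ε.inv.hom ≫ ε.hom.hom) ≫ A.aut.hom := by rw [h1, Category.id_comp]
      _ = ε.inv.hom ≫ (ε.hom.hom ≫ A.aut.hom) := Category.assoc _ _ _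
      _ = ε.inv.hom ≫ ε.hom.hom := congrArg (fun t => ε.inv.hom ≫ t) hc.symm
      _ = 𝟙 A.pt := h1
  have hfa : g.toFunctor.Faithful := (FaithfulCrit.triv_iff_faithful g hf𝒢 hfℱ).1 hT
  exact FaithfulCrit.repByAlgSp1_of_faithful h𝒢.1 hℱ.1 g hfa

end Groth.Agent.Helper2.AlgStLib.DMRepAut
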