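import Mathlib
import Groth.Prelude.Def_AlgSt3
import Groth.Agent.S12781
import Groth.Agent.Lib.Helper2.AlgSt.DiagStack
import Groth.Agent.Lib.Helper2.AlgSt.FppfLift

/-!
# Descent of properties of the diagonal along fppf coverings of the target (helper2)
-/

set_option autoImplicit false
open CategoryTheory CategoryTheory.Functor CategoryTheory.Limits AlgebraicGeometry Opposite

universe u

namespace Groth.Agent.Helper2.AlgStLib

open Groth.Agent.Helper2 Groth.Agent.Helper2.FibCatLib Groth.Agent.Helper2.StkLib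
open Groth.Agent.Helper2.AlgSpBasic Groth.Agent.Helper2.EtaleLocal

variable {S : Scheme.{u}} {𝒳 𝒴 𝒲 : BasedCategory.{u, u + 1} (Over S)}

/-- Descent along an fppf covering of the target for functors representable by algebraic
spaces. -/
theorem repByAlgSpWith_of_fpFst_fppf_cover (h𝒳 : FibCat.IsFibGrpd 𝒳.p)
    (h𝒴 : FibCat.IsFibGrpd 𝒴.p) (h𝒲 : FibCat.IsFibGrpd 𝒲.p)
    (P : MorphismProperty (AlgSp.Sp S)) (hPb : StableBC P)
    (hP : AlgSp.IsLocalOnBase AlgSp.IsFppfCover P) (f : 𝒳 ⥤ᵇ 𝒴) (hf : AlgSt.RepByAlgSp1 f)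
    (w : 𝒲 ⥤ᵇ 𝒴) (hw₁ : AlgSt.RepByAlgSpWith (AlgSp.LocP @Flat) w)
    (hw₂ : AlgSt.RepByAlgSpWith (AlgSp.LocP @LocallyOfFinitePresentation) w)
    (hw₃ : AlgSt.RepByAlgSpWith AlgSp.IsSurjectiveMor w)
    (h' : AlgSt.RepByAlgSpWith P (FibCat.fpFst w f)) : AlgSt.RepByAlgSpWith P f :=
  Groth.Agent.S12781.result h𝒳 h𝒴 h𝒲 P hPb hP f hf w
    (exists_local_lift_of_fppf h𝒲 w hw₁ hw₂ hw₃) h'

/-- Descent of a property of the diagonal along an fppf covering of the target. -/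
theorem repByAlgSpWith_diag_of_fpFst_fppf_cover (h𝒳 : FibCat.IsFibGrpd 𝒳.p)
    (h𝒴 : FibCat.IsFibGrpd 𝒴.p) (h𝒲 : FibCat.IsFibGrpd 𝒲.p)
    (P : MorphismProperty (AlgSp.Sp S)) (hPb : StableBC P)
    (hP : AlgSp.IsLocalOnBase AlgSp.IsFppfCover P) (f : 𝒳 ⥤ᵇ 𝒴)
    (hΔ : AlgSt.RepByAlgSp1 (FibCat.diag f))
    (w : 𝒲 ⥤ᵇ 𝒴) (hw₁ : AlgSt.RepByAlgSpWith (AlgSp.LocP @Flat) w)
    (hw₂ : AlgSt.RepByAlgSpWith (AlgSp.LocP @LocallyOfFinitePresentation) w)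
    (hw₃ : AlgSt.RepByAlgSpWith AlgSp.IsSurjectiveMor w)
    (h' : AlgSt.RepByAlgSpWith P (FibCat.diag (FibCat.fpFst w f))) :
    AlgSt.RepByAlgSpWith P (FibCat.diag f) := by
  have hfp : FibCat.IsFibGrpd (FibCat.fp w f).p := isFibGrpd_fp w f h𝒲 h𝒳 h𝒴
  have hK : AlgSt.RepByAlgSpWith P (FibCat.fpFst (DiagBC.K f w) (FibCat.diag f)) :=
    (repByAlgSpWith_of_square P (FibCat.fpFst (DiagBC.K f w) (FibCat.diag f))
      (FibCat.diag (FibCat.fpFst w f)) (DiagBC.Ψ f w) (BasedFunctor.id _)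
      (DiagBC.Ψ_isEquivOver f w) ReprInv.isEquivOver_id (Iso.refl _)).2 h'
  refine Groth.Agent.S12781.result h𝒳 (isFibGrpd_fp f f h𝒳 h𝒳 h𝒴)
    (isFibGrpd_fp (FibCat.fpFst w f) (FibCat.fpFst w f) hfp hfp h𝒲) P hPb hP (FibCat.diag f) hΔ
    (DiagBC.K f w) ?_ hK
  intro U y
  obtain ⟨R, hR, hlift⟩ := exists_local_lift_of_fppf h𝒲 w hw₁ hw₂ hw₃ U
    (BasedFunctor.comp (BasedFunctor.comp y (FibCat.fpFst f f)) f)
  refine ⟨R, hR, fun V h hh => ?_⟩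
  obtain ⟨z, ⟨θ⟩⟩ := hlift h hh
  exact ⟨DiagBC.liftK f w (BasedFunctor.comp (AlgSt.overMap h) y) z θ,
    ⟨DiagBC.liftKIso f w (BasedFunctor.comp (AlgSt.overMap h) y) z θ⟩⟩

end Groth.Agent.Helper2.AlgStLib
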