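import Mathlib
import Groth.Prelude.Def_AlgSt4
import Groth.Agent.S12774
import Groth.Agent.Lib.Helper2.AlgSt.QC
import Groth.Agent.Lib.Helper2.FibCat.EquivCrit
import Groth.Agent.Lib.Helper2.Stk.LocAut

/-!
# The diagonal square of a monomorphism is 2-cartesian (helper2)
-/

set_option autoImplicit false
open CategoryTheory CategoryTheory.Functor CategoryTheory.Limits AlgebraicGeometry Opposite

universe u

namespace Groth.Agent.Helper2.AlgStLib.DiagMono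

open Groth.Agent.Helper2 Groth.Agent.Helper2.FibCatLib Groth.Agent.Helper2.StkLib
open Groth.Agent.Helper2.AlgStLib

variable {S : Scheme.{u}} {𝒳 𝒳' 𝒴 : AlgSt.Cat S} (i : 𝒳 ⥤ᵇ 𝒳') (g : 𝒳' ⥤ᵇ 𝒴)

/-- The functor `𝒳 ×_𝒴 𝒳 ⟶ 𝒳' ×_𝒴 𝒳'` induced by `i` on both factors. -/
abbrev prodMap : FibCat.fp (BasedFunctor.comp i g) (BasedFunctor.comp i g) ⥤ᵇ FibCat.fp g g :=
  FibCat.fpLift
    (BasedFunctor.comp (FibCat.fpFst (BasedFunctor.comp i g) (BasedFunctor.comp i g)) i)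
    (BasedFunctor.comp (FibCat.fpSnd (BasedFunctor.comp i g) (BasedFunctor.comp i g)) i)
    (FibCat.fpIso (BasedFunctor.comp i g) (BasedFunctor.comp i g))

/-- The comparison functor of the diagonal square. -/
abbrev cmp : 𝒳 ⥤ᵇ FibCat.fp (prodMap i g) (FibCat.diag g) :=
  FibCat.fpLift (F := prodMap i g) (G := FibCat.diag g) (FibCat.diag (BasedFunctor.comp i g)) i
    (Iso.refl _)

instance : (cmp i g).toFunctor.Faithful where
  map_injective {x x'} m m' h := by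
    have h1 : ((cmp i g).toFunctor.map m).hom.fst.hom.fst =
        ((cmp i g).toFunctor.map m').hom.fst.hom.fst := by rw [h]
    exact h1

theorem full_cmp (hfaith : i.toFunctor.Faithful) : (cmp i g).toFunctor.Full where
  map_surjective {x x'} μ := by
    have hw := μ.hom.w
    have h1 := congrArg (fun t => t.hom.fst) hw
    have h2 := congrArg (fun t => t.hom.snd) hw
    have h1' : i.map μ.hom.fst.hom.fst ≫ 𝟙 _ = 𝟙 _ ≫ μ.hom.snd := h1
    have h2' : i.map μ.hom.fst.hom.snd ≫ 𝟙 _ = 𝟙 _ ≫ μ.hom.snd := h2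
    rw [Category.comp_id, Category.id_comp] at h1' h2'
    have h3 : μ.hom.fst.hom.fst = μ.hom.fst.hom.snd :=
      i.toFunctor.map_injective (h1'.trans h2'.symm)
    refine ⟨μ.hom.fst.hom.fst, ?_⟩
    apply ObjectProperty.hom_ext
    apply CategoricalPullback.hom_ext
    · apply ObjectProperty.hom_ext
      apply CategoricalPullback.hom_ext
      · rfl
      · exact h3
    · exact h1'

theorem exists_iso_cmp (hfull : i.toFunctor.Full)
    (h𝒬 : FibCat.IsFibGrpd (FibCat.fp (prodMap i g) (FibCat.diag g)).p)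
    (η : (FibCat.fp (prodMap i g) (FibCat.diag g)).obj) :
    ∃ (ξ : 𝒳.obj) (e : (cmp i g).toFunctor.obj ξ ≅ η),
      (FibCat.fp (prodMap i g) (FibCat.diag g)).p.IsHomLift
        (𝟙 ((FibCat.fp (prodMap i g) (FibCat.diag g)).p.obj η)) e.hom := by
  -- components of `η`
  let a₀ : 𝒳.obj := η.obj.fst.obj.fst
  let b₀ : 𝒳.obj := η.obj.fst.obj.snd
  let θ₁ : i.obj a₀ ⟶ η.obj.snd := η.obj.iso.hom.hom.fst
  let θ₂ : i.obj b₀ ⟶ η.obj.snd := η.obj.iso.hom.hom.snd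
  let θ₂' : η.obj.snd ⟶ i.obj b₀ := η.obj.iso.inv.hom.snd
  have hθ₂ : θ₂' ≫ θ₂ = 𝟙 _ := congrArg (fun t => t.hom.snd) η.obj.iso.inv_hom_id
  have hθ₂' : θ₂ ≫ θ₂' = 𝟙 _ := congrArg (fun t => t.hom.snd) η.obj.iso.hom_inv_id
  let γ : g.toFunctor.obj (i.toFunctor.obj a₀) ⟶ g.toFunctor.obj (i.toFunctor.obj b₀) :=
    η.obj.fst.obj.iso.hom
  have hw : g.toFunctor.map θ₁ ≫ 𝟙 _ = γ ≫ g.toFunctor.map θ₂ := η.obj.iso.hom.hom.w
  rw [Category.comp_id] at hw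
  obtain ⟨ρ, hρ⟩ := hfull.map_surjective (θ₁ ≫ θ₂')
  have hρ' : i.toFunctor.map ρ = θ₁ ≫ θ₂' := hρ
  have e1 : g.toFunctor.map (i.toFunctor.map (𝟙 a₀)) = 𝟙 _ := by
    rw [i.toFunctor.map_id, g.toFunctor.map_id]
  have e2 : g.toFunctor.map (i.toFunctor.map ρ) =
      g.toFunctor.map θ₁ ≫ g.toFunctor.map θ₂' := by
    rw [← g.toFunctor.map_comp]
    exact congrArg (fun t => g.toFunctor.map t) hρ'
  have e3 : g.toFunctor.map θ₂ ≫ g.toFunctor.map θ₂' = 𝟙 _ := by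
    rw [← g.toFunctor.map_comp, ← g.toFunctor.map_id]
    exact congrArg (fun t => g.toFunctor.map t) hθ₂'
  have key : γ = g.toFunctor.map (i.toFunctor.map ρ) := by
    rw [e2, hw, Category.assoc, e3, Category.comp_id]
  have w1' : g.toFunctor.map (i.toFunctor.map (𝟙 a₀)) ≫ γ =
      𝟙 _ ≫ g.toFunctor.map (i.toFunctor.map ρ) := by
    rw [e1, Category.id_comp, Category.id_comp]
    exact key
  -- the morphism on first components
  have w1 : (BasedFunctor.comp i g).map (𝟙 a₀) ≫ η.obj.fst.obj.iso.hom =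
      𝟙 _ ≫ (BasedFunctor.comp i g).map ρ := w1'
  let m₁ : ((cmp i g).toFunctor.obj a₀).obj.fst ⟶ η.obj.fst :=
    fpMkHom (F := BasedFunctor.comp i g) (G := BasedFunctor.comp i g)
      (Z := (FibCat.diag (BasedFunctor.comp i g)).obj a₀) (Z' := η.obj.fst) (𝟙 a₀) ρ w1
  have w2 : (prodMap i g).map m₁ ≫ η.obj.iso.hom =
      ((cmp i g).toFunctor.obj a₀).obj.iso.hom ≫ (FibCat.diag g).map θ₁ := by
    apply ObjectProperty.hom_ext
    apply CategoricalPullback.hom_ext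
    · change i.map (𝟙 a₀) ≫ θ₁ = 𝟙 _ ≫ θ₁
      rw [show i.map (𝟙 a₀) = 𝟙 _ from i.toFunctor.map_id _]
    · change i.map ρ ≫ θ₂ = 𝟙 _ ≫ θ₁
      rw [hρ', Category.assoc, hθ₂, Category.comp_id, Category.id_comp]
  let m : (cmp i g).toFunctor.obj a₀ ⟶ η :=
    fpMkHom (F := prodMap i g) (G := FibCat.diag g) m₁ θ₁ w2
  have hm₁ : (FibCat.fp (BasedFunctor.comp i g) (BasedFunctor.comp i g)).p.IsHomLift
      (𝟙 (𝒳.p.obj a₀)) m₁ :=
    fp_isHomLift_of_fst (F := BasedFunctor.comp i g) (G := BasedFunctor.comp i g) _ m₁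
      (IsHomLift.id rfl)
  have hm : (FibCat.fp (prodMap i g) (FibCat.diag g)).p.IsHomLift (𝟙 (𝒳.p.obj a₀)) m :=
    fp_isHomLift_of_fst (F := prodMap i g) (G := FibCat.diag g) _ m hm₁
  haveI := hm
  haveI : IsIso m := IsFibGrpd.isIso_of_isHomLift_id _ h𝒬 (S := 𝒳.p.obj a₀) m
  exact ⟨a₀, asIso m, hm⟩

/-- **`S12876`.** -/
theorem isTwoCartOver_diag_sq (h𝒳 : AlgSt.IsAlgStack Scheme.fppfPrecoverage 𝒳)
    (h𝒳' : AlgSt.IsAlgStack Scheme.fppfPrecoverage 𝒳')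
    (h𝒴 : AlgSt.IsAlgStack Scheme.fppfPrecoverage 𝒴) (hi : AlgSt.IsMono i) :
    FibCat.IsEquivOver (cmp i g) := by
  obtain ⟨hfull, hfaith⟩ := Groth.Agent.S12774.result h𝒳.isStack.1 h𝒳'.isStack.1 i hi
  have h𝒫 : AlgSt.IsAlgStack Scheme.fppfPrecoverage
      (FibCat.fp (BasedFunctor.comp i g) (BasedFunctor.comp i g)) :=
    isAlgStack_fp _ h𝒳 h𝒳 h𝒴 _ _
  have h𝒫' : AlgSt.IsAlgStack Scheme.fppfPrecoverage (FibCat.fp g g) :=
    isAlgStack_fp _ h𝒳' h𝒳' h𝒴 _ _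
  have h𝒬 : AlgSt.IsAlgStack Scheme.fppfPrecoverage (FibCat.fp (prodMap i g) (FibCat.diag g)) :=
    isAlgStack_fp _ h𝒫 h𝒳' h𝒫' _ _
  haveI := full_cmp i g hfaith
  exact isEquivOver_of_fullyFaithful_of_exists_iso (cmp i g)
    (exists_iso_cmp i g hfull h𝒬.isStack.1)

end Groth.Agent.Helper2.AlgStLib.DiagMono
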