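import Mathlib
import Groth.Prelude.Def_StGerb
import Groth.Agent.Lib.Helper2.AlgSt.LocQ.Calc
import Groth.Agent.Lib.Helper2.AlgSt.LocQ.Space
import Groth.Agent.Lib.Helper2.AlgSt.LocQ.Tower
import Groth.Agent.Lib.Helper2.AlgSp.FieldPt

/-! Morphisms from spectra of fields to algebraic stacks. -/
namespace Groth.Agent.Helper2.AlgStLib.FieldPt
open CategoryTheory CategoryTheory.Functor CategoryTheory.Limits AlgebraicGeometry Opposite
open Groth.Agent.Helper2 Groth.Agent.Helper2.FibCatLib Groth.Agent.Helper2.StkLib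
open Groth.Agent.Helper2.AlgSpBasic Groth.Agent.Helper2.EtaleLocal
open Groth.Agent.Helper2.AlgStLib Groth.Agent.Helper2.AlgStLib.Pts
open Groth.Agent.Helper2.AlgStLib.LocQ
universe u

variable {S : Scheme.{u}} {𝒵 𝒬 : BasedCategory.{u, u + 1} (Over S)}

section

variable {k : Type u} [Field k] (a : Spec (CommRingCat.of k) ⟶ S)

instance : Subsingleton (AlgSt.Points (FibCat.overCat (Over.mk a))) := by
  haveI : Subsingleton ↥(Over.mk a).left :=
    (inferInstance : Subsingleton ↥(Spec (CommRingCat.of k)))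
  exact (ptEquiv (Over.mk a)).symm.injective.subsingleton

instance : Nonempty (AlgSt.Points (FibCat.overCat (Over.mk a))) :=
  ⟨ptEquiv (Over.mk a) (show ↥(Spec (CommRingCat.of k)) from default)⟩

/-- Every functor from an algebraic stack to the spectrum of a field is flat. -/
theorem locQ_flat_to_field (h𝒬 : AlgSt.IsAlgStack Scheme.fppfPrecoverage 𝒬)
    (π : 𝒬 ⥤ᵇ FibCat.overCat (Over.mk a)) : AlgSt.LocQ (AlgSp.LocP @Flat) π := by
  obtain ⟨T, x, hx1, hx2⟩ := h𝒬.atlas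
  obtain ⟨θ⟩ := nonempty_iso_overMap_classify (BasedFunctor.comp x π)
  haveI : Smooth (Over.Hom.left (𝟙 (Over.mk a))) := by
    show Smooth (𝟙 (Over.mk a).left)
    infer_instance
  refine ⟨T, Over.mk a, x, AlgSt.overMap (𝟙 (Over.mk a)), OverFun.classify (BasedFunctor.comp x π),
    θ ≪≫ eqToIso (congrArg AlgSt.overMap (Category.comp_id _).symm) ≪≫
      (overMapCompIso _ (𝟙 (Over.mk a))).symm, hx1, hx2, sm_overMap _, ?_⟩
  rw [locP_yon_map_iff]
  show Flat (X := T.left) (Y := Spec (CommRingCat.of k)) _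
  infer_instance

end

/-- `S16804`: if some field point of an algebraic stack is flat and surjective, all are. -/
theorem flat_surjective_of_fieldPt (h𝒵 : AlgSt.IsAlgStack Scheme.fppfPrecoverage 𝒵)
    {k : Type u} [Field k] (a : Spec (CommRingCat.of k) ⟶ S)
    (z : FibCat.overCat (Over.mk a) ⥤ᵇ 𝒵)
    (hzs : AlgSt.RepByAlgSpWith AlgSp.IsSurjectiveMor z)
    (hzf : AlgSt.RepByAlgSpWith (AlgSp.LocP @Flat) z)
    {k' : Type u} [Field k'] (a' : Spec (CommRingCat.of k') ⟶ S)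
    (z' : FibCat.overCat (Over.mk a') ⥤ᵇ 𝒵) :
    AlgSt.RepByAlgSpWith AlgSp.IsSurjectiveMor z' ∧
      AlgSt.RepByAlgSpWith (AlgSp.LocP @Flat) z' := by
  have hK := isAlgStack_overCat (S := S) (Over.mk a)
  have hK' := isAlgStack_overCat (S := S) (Over.mk a')
  have hzsurj : AlgSt.IsSurjective z := isSurjective_of_repByAlgSpWith h𝒵.isStack.1 z hzs
  have hsub : Subsingleton (AlgSt.Points 𝒵) := by
    refine ⟨fun p q => ?_⟩
    obtain ⟨x, rfl⟩ := hzsurj p
    obtain ⟨y, rfl⟩ := hzsurj q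
    rw [Subsingleton.elim x y]
  have hz'surj : AlgSt.IsSurjective z' := by
    intro y
    obtain ⟨x⟩ := (inferInstance : Nonempty (AlgSt.Points (FibCat.overCat (Over.mk a'))))
    exact ⟨x, Subsingleton.elim _ _⟩
  refine ⟨repByAlgSpWith_of_isSurjective (isFibGrpd_overCat _) h𝒵.isStack.1 z'
    (repByAlgSp1_chart h𝒵 z') hz'surj, ?_⟩
  have h𝒬 : AlgSt.IsAlgStack Scheme.fppfPrecoverage (FibCat.fp z' z) :=
    isAlgStack_fp _ hK' hK h𝒵 z' z
  have hst : IsSmoothStable (S := S) (AlgSp.LocP @Flat) :=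
    IsSmoothStable.of_local isSmoothLocalST_locP_flat
  have hf₁ : AlgSt.LocQ (AlgSp.LocP @Flat) (FibCat.fpFst z' z) :=
    locQ_locP_of_repByAlgSpWith @Flat isSmoothLocalST_locP_flat h𝒬 hK' _
      (repByAlgSpWith_fpFst _ z z' hzf)
  have hf₂ : AlgSt.IsSurjective (FibCat.fpFst z' z) :=
    isSurjective_fpFst hK.isStack.1 h𝒵.isStack.1 hK'.isStack.1 z z' hzsurj
  have hzq : AlgSt.LocQ (AlgSp.LocP @Flat) z :=
    locQ_locP_of_repByAlgSpWith @Flat isSmoothLocalST_locP_flat hK h𝒵 z hzf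
  have h1 : AlgSt.LocQ (AlgSp.LocP @Flat) (BasedFunctor.comp (FibCat.fpSnd z' z) z) :=
    locQ_comp hst (stableComp_locP @Flat) h𝒬 hK h𝒵 _ z (locQ_flat_to_field a h𝒬 _) hzq
  have h2 : AlgSt.LocQ (AlgSp.LocP @Flat) (BasedFunctor.comp (FibCat.fpFst z' z) z') :=
    locQ_congr (FibCat.fpIso z' z).symm h1
  have h3 : AlgSt.LocQ (AlgSp.LocP @Flat) z' :=
    locQ_flat_of_comp_of_isSurjective h𝒬 hK' h𝒵 _ z' hf₁ hf₂ h2
  exact (locQ_iff_repByAlgSpWith isSmoothLocalST_locP_flat (stableBC_locP @Flat)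
    (isLocalOnBase_fppf_locP @Flat) hK' h𝒵 z' (repByAlgSp1_chart h𝒵 z')).1 h3

end Groth.Agent.Helper2.AlgStLib.FieldPt
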