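import Mathlib
import Groth.Prelude.Def_AlgSt4
import Groth.Agent.Lib.Helper2.AlgSt.DMRepAut
import Groth.Agent.Lib.Helper2.AlgSt.SmBootApp
import Groth.Agent.Lib.Helper2.AlgSt.Setoid
import Groth.Agent.Lib.Helper2.AlgSp.UnrLocusW
import Groth.Agent.Lib.Helper2.AlgSp.UnramDiag
import Groth.Agent.Lib.Helper2.AlgSp.Points
import Groth.Agent.Lib.Helper2.FibCat.Paste

/-!
# An algebraic stack whose geometric stabilizers are trivial is an algebraic space (helper2)
-/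

set_option backward.isDefEq.respectTransparency.types false
set_option autoImplicit false
set_option synthInstance.maxHeartbeats 400000
set_option maxHeartbeats 4000000
set_option linter.style.haveILetI false
set_option linter.unusedSectionVars false
set_option linter.unusedVariables false
set_option linter.unusedSimpArgs false
set_option linter.unnecessarySimpa false

open CategoryTheory CategoryTheory.Functor CategoryTheory.Limits AlgebraicGeometry Opposite AlgSp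

universe u

namespace Groth.Agent.Helper2.AlgStLib.GeomStab

open Groth.Agent.Helper2 Groth.Agent.Helper2.FibCatLib Groth.Agent.Helper2.StkLib
open Groth.Agent.Helper2.AlgSpBasic Groth.Agent.Helper2.EtaleLocal
open Groth.Agent.Helper2.AlgStLib Groth.Agent.Helper2.AlgStLib.SepDiag
open Groth.Agent.Helper2.AlgStLib.DMRepAut Groth.Agent.Helper2.UnrAt

variable {S : Scheme.{u}}

/-! ### Unramifiedness read on geometric fibres -/

/-- A morphism of algebraic spaces locally of finite type whose base changes to all geometric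
points are monomorphisms is unramified. -/
theorem locP_unr_of_geometric_fibres {X Y : Sp S} (hX : IsAlgSpace X) (hY : IsAlgSpace Y)
    (f : X ⟶ Y) (hf : LocP @LocallyOfFiniteType f)
    (H : ∀ (k : Type u) [Field k] [IsAlgClosed k] (s : Spec (CommRingCat.of k) ⟶ S)
      (t : (yon S).obj (Over.mk s) ⟶ Y), Mono (pullback.snd f t)) :
    LocP (@LocallyOfFiniteType ⊓ @FormallyUnramified) f := by
  rw [UnrAtSp.locP_unr_iff_forall hX hY f]
  intro x
  obtain ⟨px, rfl⟩ := Points.mk_surjective x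
  obtain ⟨s, hs⟩ : ∃ s : Spec (CommRingCat.of (AlgebraicClosure px.K)) ⟶ S,
      s = Spec.map (CommRingCat.ofHom (algebraMap px.K (AlgebraicClosure px.K))) ≫ px.str :=
    ⟨_, rfl⟩
  obtain ⟨j, hj⟩ : ∃ j : Over.mk s ⟶ px.pt,
      j.left = Spec.map (CommRingCat.ofHom (algebraMap px.K (AlgebraicClosure px.K))) :=
    ⟨Over.homMk (Spec.map (CommRingCat.ofHom (algebraMap px.K (AlgebraicClosure px.K))))
      hs.symm, rfl⟩
  obtain ⟨ξ, hξ⟩ : ∃ ξ : (yon S).obj (Over.mk s) ⟶ X, ξ = (yon S).map j ≫ px.toHom := ⟨_, rfl⟩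
  obtain ⟨t, ht⟩ : ∃ t : (yon S).obj (Over.mk s) ⟶ Y, t = ξ ≫ f := ⟨_, rfl⟩
  haveI : Mono (pullback.snd f t) := H (AlgebraicClosure px.K) s t
  have sq := IsPullback.of_hasPullback f t
  have hK : IsAlgSpace ((yon S).obj (Over.mk s)) := IsAlgSpace.yon_obj (Over.mk s)
  have hF : IsAlgSpace (pullback f t) :=
    isAlgSpace_of_isPullback hY.diag hX hK f t _ _ sq
  have hlq : LocP @LocallyOfFiniteType (pullback.snd f t) :=
    locP_of_isPullback @LocallyOfFiniteType hX hY hK hF f t _ _ sq hf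
  haveI : IsIso (pullback.diagonal (pullback.snd f t)) :=
    (pullback.isIso_diagonal_iff _).mpr inferInstance
  have hLq : LocP (@LocallyOfFiniteType ⊓ @FormallyUnramified) (pullback.snd f t) :=
    unramified_of_repWith_isOpenImmersion_diagonal hF _ hlq
      (repWith_of_isIso @IsOpenImmersion _)
  obtain ⟨c, -⟩ : ∃ c : ↥(Over.mk s).left, True :=
    ⟨(default : ↥(Spec (CommRingCat.of (AlgebraicClosure px.K)))), trivial⟩
  have hx : Points.ofPt ξ c = Points.mk px := by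
    rw [hξ, ofPt_yon_map_comp, Points.ofPt_toHom]
  have e : Points.map t (Points.ofPt (𝟙 _) c) = Points.map f (Points.mk px) := by
    rw [← hx, Points.map_ofPt, Points.map_ofPt, Category.id_comp, ht]
  obtain ⟨z, -, hz2⟩ := points_exists_of_isPullback f t (pullback.snd f t) (pullback.fst f t)
    sq.flip _ _ e
  have hq : HasAtMor UnrQ (pullback.snd f t) z :=
    (UnrAtSp.locP_unr_iff_forall hF hK _).1 hLq z
  have h3 := (UnrAtSp.hasAtMor_unr_bc_scheme_iff hX hY hF f hf t (pullback.fst f t)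
    (pullback.snd f t) sq z).1 hq
  rwa [hz2] at h3

/-! ### Fullness of the base change of the inertia -/

section Full

variable {𝒦 𝒳 𝒴 : BasedCategory.{u, u + 1} (Over S)}

theorem fpFst_full_of_aut_eq_id (yb : 𝒦 ⥤ᵇ 𝒳) (F : 𝒳 ⥤ᵇ 𝒴)
    (hA : ∀ A : (FibCat.fp yb (FibCat.inertiaToBase F)).obj,
      A.obj.snd.aut.hom = 𝟙 A.obj.snd.pt) :
    (FibCat.fpFst yb (FibCat.inertiaToBase F)).toFunctor.Full where
  map_surjective {A B} φ := by
    obtain ⟨φ', hφ'⟩ : ∃ φ' : A.obj.fst ⟶ B.obj.fst, φ' = φ := ⟨φ, rfl⟩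
    obtain ⟨X, hX⟩ : ∃ X : A.obj.snd.pt ⟶ B.obj.snd.pt,
        X = A.obj.iso.inv ≫ yb.toFunctor.map φ' ≫ B.obj.iso.hom := ⟨_, rfl⟩
    have hcomm : A.obj.snd.aut.hom ≫ X = X ≫ B.obj.snd.aut.hom := by
      rw [hA A, hA B, Category.id_comp, Category.comp_id]
    obtain ⟨t, ht⟩ : ∃ t : A.obj.snd ⟶ B.obj.snd,
        (FibCat.inertiaToBase F).toFunctor.map t =
          A.obj.iso.inv ≫ yb.toFunctor.map φ' ≫ B.obj.iso.hom := ⟨⟨X, hcomm⟩, hX⟩
    have hw : yb.toFunctor.map φ' ≫ B.obj.iso.hom =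
        A.obj.iso.hom ≫ (FibCat.inertiaToBase F).toFunctor.map t := by
      rw [ht, Iso.hom_inv_id_assoc]
    exact ⟨ObjectProperty.homMk ⟨φ', t, hw⟩, hφ'⟩

end Full

section Main

variable {𝒳 : BasedCategory.{u, u + 1} (Over S)}

/-- Automorphisms of pullbacks of a geometric point with trivial stabilizer are trivial. -/
theorem aut_eq_id_of_geometric
    (H : ∀ (k : Type u) [Field k] [IsAlgClosed k] (x : 𝒳.obj)
      (e : (𝒳.p.obj x).left ≅ Spec (CommRingCat.of k)) (ξ : 𝒳.obj) (φ : ξ ⟶ x) (σ : ξ ⟶ ξ),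
      𝒳.p.map σ = 𝟙 (𝒳.p.obj ξ) → σ = 𝟙 ξ)
    {k : Type u} [Field k] [IsAlgClosed k] (s : Spec (CommRingCat.of k) ⟶ S)
    (yb : FibCat.overCat (Over.mk s) ⥤ᵇ 𝒳)
    (A : (FibCat.fp yb (FibCat.inertiaToBase (FibCat.toSelf 𝒳))).obj) :
    A.obj.snd.aut.hom = 𝟙 A.obj.snd.pt := by
  obtain ⟨m, -⟩ : ∃ m : A.obj.fst ⟶ Over.mk (𝟙 (Over.mk s)), True :=
    ⟨Over.homMk A.obj.fst.hom (by simp), trivial⟩
  exact H k (yb.obj (Over.mk (𝟙 (Over.mk s))))
    (eqToIso (congrArg (fun Z : Over S => Z.left) (yb.w_obj (Over.mk (𝟙 (Over.mk s))))))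
    A.obj.snd.pt (A.obj.iso.inv ≫ yb.map m) A.obj.snd.aut.hom
    (FaithfulCrit.map_p_aut (FibCat.toSelf 𝒳) A.obj.snd)

/-- If the stabilizers at geometric points are trivial, the inertia is unramified. -/
theorem repByAlgSpWith_unr_inertiaToBase_of_geometric
    (hlft : AlgSt.RepByAlgSpWith (AlgSp.LocP @LocallyOfFiniteType)
      (FibCat.inertiaToBase (FibCat.toSelf 𝒳)))
    (H : ∀ (k : Type u) [Field k] [IsAlgClosed k] (x : 𝒳.obj)
      (e : (𝒳.p.obj x).left ≅ Spec (CommRingCat.of k)) (ξ : 𝒳.obj) (φ : ξ ⟶ x) (σ : ξ ⟶ ξ),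
      𝒳.p.map σ = 𝟙 (𝒳.p.obj ξ) → σ = 𝟙 ξ) :
    AlgSt.RepByAlgSpWith (AlgSp.LocP (@LocallyOfFiniteType ⊓ @FormallyUnramified))
      (FibCat.inertiaToBase (FibCat.toSelf 𝒳)) := by
  intro T y
  obtain ⟨F, e, he, ha⟩ := hlft T y
  refine ⟨F, e, he, ?_⟩
  refine locP_unr_of_geometric_fibres F.property (AlgSp.IsAlgSpace.yon_obj T) _ ha ?_
  intro k _ _ s t
  obtain ⟨τ, rfl⟩ := (AlgSp.yon S).map_surjective t
  obtain ⟨E, hE1, hE2⟩ := exists_equiv_fp_overMap
    (FibCat.fpFst y (FibCat.inertiaToBase (FibCat.toSelf 𝒳))) e he τ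
    (pullback.fst _ _) (pullback.snd _ _) (IsPullback.of_hasPullback _ _)
  rw [← hE2]
  have hfull : (FibCat.fpFst (BasedFunctor.comp (AlgSt.overMap τ) y)
      (FibCat.inertiaToBase (FibCat.toSelf 𝒳))).toFunctor.Full :=
    fpFst_full_of_aut_eq_id _ _ (fun A => aut_eq_id_of_geometric H s _ A)
  haveI h1 : E.toFunctor.IsEquivalence := FibCatLib.isEquivalence_of_isEquivOver hE1
  haveI h2 : (Paste.pasteB (AlgSt.overMap τ) y
      (FibCat.inertiaToBase (FibCat.toSelf 𝒳))).toFunctor.IsEquivalence :=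
    FibCatLib.isEquivalence_of_isEquivOver (Paste.pasteB_isEquivOver _ _ _)
  have hEfull : (BasedFunctor.comp E (Paste.pasteB (AlgSt.overMap τ) y
      (FibCat.inertiaToBase (FibCat.toSelf 𝒳)))).toFunctor.Full :=
    inferInstanceAs (E.toFunctor ⋙ (Paste.pasteB (AlgSt.overMap τ) y
      (FibCat.inertiaToBase (FibCat.toSelf 𝒳))).toFunctor).Full
  have hcomp : BasedFunctor.comp E (FibCat.fpFst (AlgSt.overMap τ)
      (FibCat.fpFst y (FibCat.inertiaToBase (FibCat.toSelf 𝒳)))) =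
      BasedFunctor.comp (BasedFunctor.comp E (Paste.pasteB (AlgSt.overMap τ) y
        (FibCat.inertiaToBase (FibCat.toSelf 𝒳))))
        (FibCat.fpFst (BasedFunctor.comp (AlgSt.overMap τ) y)
          (FibCat.inertiaToBase (FibCat.toSelf 𝒳))) := rfl
  rw [hcomp]
  exact FaithfulCrit.mono_spMapOfOver_of_full _ _ hfull hEfull

end Main

/-! ### Trivial relative inertia from unramifiedness and surjectivity of the neutral section -/

section Triv

variable {𝒢 ℱ : BasedCategory.{u, u + 1} (Over S)}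

theorem triv_of_unr_inertiaToBase (hf𝒢 : FibCat.IsFibGrpd 𝒢.p) (hfℱ : FibCat.IsFibGrpd ℱ.p)
    (g : 𝒢 ⥤ᵇ ℱ)
    (hI : AlgSt.RepByAlgSpWith (AlgSp.LocP (@LocallyOfFiniteType ⊓ @FormallyUnramified))
      (FibCat.inertiaToBase g))
    (hS : AlgSt.IsSurjective (FibCat.inertiaNeutral g)) : FaithfulCrit.Triv g := by
  have hN : AlgSt.IsOpenImm (FibCat.inertiaNeutral g) :=
    repByAlgSpWith_inertiaNeutral_of_diag _ g (isOpenImm_diag_of_unramified _ hI)
  have hfI : FibCat.IsFibGrpd (FibCat.inertia g).p :=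
    (isFibGrpd_iff_of_isEquivOver (InertiaFp.Φ g) (InertiaFp.Φ_isEquivOver g)).1
      (isFibGrpd_fp (FibCat.diag g) (FibCat.diag g) hf𝒢 hf𝒢 (isFibGrpd_fp g g hf𝒢 hf𝒢 hfℱ))
  have hNs : AlgSt.RepByAlgSpWith AlgSp.IsSurjectiveMor (FibCat.inertiaNeutral g) :=
    Pts.repByAlgSpWith_of_isSurjective hf𝒢 hfI (FibCat.inertiaNeutral g)
      (repByAlgSp1_of_repByAlgSpWith _ hN) hS
  have hNiso : AlgSt.RepByAlgSpWith (MorphismProperty.isomorphisms (AlgSp.Sp S))
      (FibCat.inertiaNeutral g) :=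
    repByAlgSpWith_of_forall₂ (respectsIsoSp_of_stableBC stableBC_isSurjectiveMor) _ hN hNs
      (fun X Y hX hY a ha hs => by
        haveI : Mono a := mono_of_repWith_monomorphisms a (repWith_mono (fun _ _ g
          (hg : IsOpenImmersion g) => (inferInstance : Mono g)) ha)
        exact isIso_of_mono_of_locP_etale_surjective hX hY a
          (locP_etale_of_repWith_isOpenImmersion hX a ha) hs)
  intro A
  obtain ⟨ξ, ⟨ε⟩⟩ := exists_iso_of_repByAlgSpWith_isomorphisms hfI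
    (FibCat.inertiaNeutral g) hNiso A
  have hc : ε.hom.hom = ε.hom.hom ≫ A.aut.hom := by
    have h := ε.hom.comm
    have h2 : ((FibCat.inertiaNeutral g).obj ξ).aut.hom = 𝟙 _ := rfl
    rw [h2, Category.id_comp] at h
    exact h
  have h1 : ε.inv.hom ≫ ε.hom.hom = 𝟙 A.pt :=
    congrArg FibCat.InertiaObj.Hom.hom ε.inv_hom_id
  calc A.aut.hom = (ε.inv.hom ≫ ε.hom.hom) ≫ A.aut.hom := by rw [h1, Category.id_comp]
    _ = ε.inv.hom ≫ (ε.hom.hom ≫ A.aut.hom) := Category.assoc _ _ _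
    _ = ε.inv.hom ≫ ε.hom.hom := congrArg (fun t => ε.inv.hom ≫ t) hc.symm
    _ = 𝟙 A.pt := h1

end Triv

/-- **An algebraic stack is an algebraic space iff its stabilizers at geometric points are
trivial.** -/
theorem main (𝒳 : AlgSt.Cat S) (h𝒳 : AlgSt.IsAlgStack Scheme.fppfPrecoverage 𝒳) :
    AlgSt.RepByAlgSp 𝒳 ↔
      ∀ (k : Type u) [Field k] [IsAlgClosed k] (x : 𝒳.obj)
        (e : (𝒳.p.obj x).left ≅ Spec (CommRingCat.of k))
        (ξ : 𝒳.obj) (φ : ξ ⟶ x) (σ : ξ ⟶ ξ), 𝒳.p.map σ = 𝟙 (𝒳.p.obj ξ) → σ = 𝟙 ξ := by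
  have hf𝒳 : FibCat.IsFibGrpd 𝒳.p := h𝒳.isStack.1
  constructor
  · intro hrep k _ _ x e ξ φ σ hσ
    have hset := isFibSetoid_of_repByAlgSp hrep
    have ht := (FaithfulCrit.isFibSetoid_iff_triv_toSelf hf𝒳).1 hset
    exact FaithfulCrit.kerTriv_of_triv (FibCat.toSelf 𝒳) hf𝒳 ht ξ σ hσ hσ
  · intro H
    have hfℱ : FibCat.IsFibGrpd (FibCat.selfOver (Over S)).p := DiagRepBack.isFibGrpd_selfOver
    have hlft := repByAlgSpWith_inertiaToBase_of_diag _ (FibCat.toSelf 𝒳)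
      (repByAlgSpWith_lft_diag_toSelf h𝒳)
    have hI := repByAlgSpWith_unr_inertiaToBase_of_geometric hlft H
    have hinj : ∀ (k : Type u) [Field k] [IsAlgClosed k] (s : Spec (CommRingCat.of k) ⟶ S)
        (ξ : 𝒳.obj) (hξ : 𝒳.p.obj ξ = Over.mk s) (a : ξ ⟶ ξ),
        𝒳.p.IsHomLift (𝟙 (𝒳.p.obj ξ)) a →
        (FibCat.toSelf 𝒳).map a = 𝟙 ((FibCat.toSelf 𝒳).obj ξ) → a = 𝟙 ξ := by
      intro k _ _ s ξ hξ a _ ha
      exact H k ξ (eqToIso (by rw [hξ]; rfl)) ξ (𝟙 ξ) a ha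
    have hS := isSurjective_inertiaNeutral hf𝒳 hfℱ (FibCat.toSelf 𝒳) hinj
    have hT := triv_of_unr_inertiaToBase hf𝒳 hfℱ (FibCat.toSelf 𝒳) hI hS
    exact SmBootApp.repByAlgSp_of_isFibSetoid h𝒳
      ((FaithfulCrit.isFibSetoid_iff_triv_toSelf hf𝒳).2 hT)

end Groth.Agent.Helper2.AlgStLib.GeomStab
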