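import Mathlib
import Groth.Prelude.Def_AlgSt4
import Groth.Prelude.Def_StGerb
import Groth.Agent.Lib.Helper2.AlgSt.FppfLift
import Groth.Agent.Lib.Helper2.AlgSt.LocQ.Main
import Groth.Agent.Lib.Helper2.AlgSt.LocQ.Tower
import Groth.Agent.Lib.Helper2.AlgSt.LocQ.Rep
import Groth.Agent.Lib.Helper2.AlgSt.Comp
import Groth.Agent.Lib.Helper2.AlgSt.DiagCover
import Groth.Agent.Lib.Helper2.AlgSp.SmoothLocalP
import Groth.Agent.Lib.Helper2.SmBoot.Saturate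
import Groth.Agent.Lib.Helper6.GerbL.Desc
import Groth.Agent.Lib.Helper6.GerbL.EqCrit2
import Groth.Agent.S12819

/-!
# Surjective flat locally finitely presented morphisms of algebraic stacks are locally surjective
on objects; descent of gerbes (helper2)
-/

set_option autoImplicit false
set_option synthInstance.maxHeartbeats 400000
set_option maxHeartbeats 4000000
set_option linter.style.haveILetI false
set_option linter.unusedSectionVars false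
set_option linter.unusedVariables false
set_option linter.unusedSimpArgs false
set_option linter.unnecessarySimpa false

open CategoryTheory CategoryTheory.Functor CategoryTheory.Limits AlgebraicGeometry Opposite

universe u

namespace Groth.Agent.Helper2.AlgStLib.GerbeDesc

open Groth.Agent.Helper2 Groth.Agent.Helper2.FibCatLib Groth.Agent.Helper2.StkLib
open Groth.Agent.Helper2.AlgSpBasic Groth.Agent.Helper2.EtaleLocal
open Groth.Agent.Helper2.AlgStLib Groth.Agent.Helper2.AlgStLib.Pts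
open Groth.Agent.Helper2.AlgStLib.LocQ
open Groth.Agent.Helper6.GerbL

variable {S : Scheme.{u}} {𝒳 𝒴 𝒲 𝒴' : BasedCategory.{u, u + 1} (Over S)}

/-- An fppf cover representable by algebraic spaces is locally surjective on objects. -/
theorem locSurjObj_of_repByAlgSpWith_fppf (h𝒲 : FibCat.IsFibGrpd 𝒲.p)
    (h𝒴 : FibCat.IsFibGrpd 𝒴.p) (w : 𝒲 ⥤ᵇ 𝒴)
    (hw₁ : AlgSt.RepByAlgSpWith (AlgSp.LocP @Flat) w)
    (hw₂ : AlgSt.RepByAlgSpWith (AlgSp.LocP @LocallyOfFinitePresentation) w)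
    (hw₃ : AlgSt.RepByAlgSpWith AlgSp.IsSurjectiveMor w) :
    Gerb.LocSurjObj (QuotSh.J Scheme.fppfPrecoverage S) w := by
  intro η
  obtain ⟨y₀, e₀, he₀⟩ := exists_functor_of_obj h𝒴 η rfl
  obtain ⟨R, hR, hlift⟩ := exists_local_lift_of_fppf h𝒲 w hw₁ hw₂ hw₃ (𝒴.p.obj η) y₀
  refine ⟨R, hR, fun V h hh => ?_⟩
  obtain ⟨z, ⟨θ⟩⟩ := hlift h hh
  obtain ⟨A, hA⟩ : ∃ A : Over V, A = Over.mk (𝟙 V) := ⟨_, rfl⟩
  have h1 : 𝒴.p.IsHomLift (𝟙 V) (θ.hom.toNatTrans.app (Over.mk (𝟙 V))) :=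
    θ.hom.isHomLift' (Over.mk (𝟙 V))
  have h2' := strMor_isHomLift y₀ e₀ he₀ ((AlgSt.overMap h).obj (Over.mk (𝟙 V)))
  have h2 : 𝒴.p.IsHomLift (𝟙 V ≫ h)
      (strMor y₀ e₀ ((AlgSt.overMap h).obj (Over.mk (𝟙 V)))) := h2'
  have h3 := isHomLift_comp' 𝒴.p (𝟙 V) (𝟙 V ≫ h) _ _ h1 h2
  refine ⟨z.obj (Over.mk (𝟙 V)), θ.hom.toNatTrans.app (Over.mk (𝟙 V)) ≫
    strMor y₀ e₀ ((AlgSt.overMap h).obj (Over.mk (𝟙 V))), ?_⟩
  exact isHomLift_congr' 𝒴.p (by rw [Category.id_comp, Category.id_comp]) _ h3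

/-- A surjective, flat, locally finitely presented morphism of algebraic stacks is locally
surjective on objects. -/
theorem locSurjObj_of_surjective_flat_lfp (h𝒳 : AlgSt.IsAlgStack Scheme.fppfPrecoverage 𝒳)
    (h𝒴 : AlgSt.IsAlgStack Scheme.fppfPrecoverage 𝒴) (f : 𝒳 ⥤ᵇ 𝒴)
    (hs : AlgSt.IsSurjective f) (h1 : AlgSt.LocQ (AlgSp.LocP @Flat) f)
    (h2 : AlgSt.LocQ (AlgSp.LocP @LocallyOfFinitePresentation) f) :
    Gerb.LocSurjObj (QuotSh.J Scheme.fppfPrecoverage S) f := by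
  obtain ⟨V, y, hy1, hy2⟩ := h𝒴.atlas
  have h𝒬 : AlgSt.IsAlgStack Scheme.fppfPrecoverage (FibCat.fp f y) :=
    isAlgStack_fp _ h𝒳 (isAlgStack_overCat V) h𝒴 f y
  obtain ⟨T, c, hc1, hc2⟩ := h𝒬.atlas
  obtain ⟨k, α, ⟨θ⟩, hx, -, hsx⟩ := exists_good_square h𝒳 h𝒴 f y hy1 c hc1
  have hk1 : AlgSp.LocP @Flat ((AlgSp.yon S).map k) :=
    prop_of_locQ isSmoothLocalST_locP_flat h𝒳 h𝒴 f h1 y hy1 c hc1 k θ
  have hk2 : AlgSp.LocP @LocallyOfFinitePresentation ((AlgSp.yon S).map k) :=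
    prop_of_locQ isSmoothLocalST_locP_lfp h𝒳 h𝒴 f h2 y hy1 c hc1 k θ
  obtain ⟨x, hxdef⟩ : ∃ x : FibCat.overCat T ⥤ᵇ 𝒳, x = BasedFunctor.comp c (FibCat.fpFst f y) :=
    ⟨_, rfl⟩
  rw [← hxdef] at α hx hsx
  have hxs : Sj x := hsx hy2 hc2
  have hw : ∀ P : MorphismProperty (AlgSp.Sp S), StableBC P → StableComp P →
      AlgSp.IsLocalOnBase AlgSp.IsFppfCover P → P ((AlgSp.yon S).map k) →
      AlgSt.RepByAlgSpWith P y → AlgSt.RepByAlgSpWith P (BasedFunctor.comp x f) :=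
    fun P hb hc hl hk hy =>
      (repByAlgSpWith_congr P α).1 (repByAlgSpWith_comp (isFibGrpd_overCat T)
        (isFibGrpd_overCat V) P hb hc hl (AlgSt.overMap k) y
        (repByAlgSpWith_overMap_of_prop P hb k hk) hy)
  have hw1 := hw _ (stableBC_locP @Flat) (stableComp_locP @Flat) isLocalOnBase_fppf_locP_flat hk1
    (repByAlgSpWith_locP_mono SmBoot.smooth_le_flat y hy1)
  have hw2 := hw _ (stableBC_locP @LocallyOfFinitePresentation)
    (stableComp_locP @LocallyOfFinitePresentation) isLocalOnBase_fppf_locP_lfp hk2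
    (repByAlgSpWith_locP_mono SmBoot.smooth_le_lfp y hy1)
  have hx' : AlgSt.IsSurjective x :=
    (Groth.Agent.S12819.result (isAlgStack_overCat T) h𝒳 x (repByAlgSp1_chart h𝒳 x)).2 hxs
  have hw3' : AlgSt.IsSurjective (BasedFunctor.comp x f) := isSurjective_comp x f hx' hs
  have hw3 : AlgSt.RepByAlgSpWith AlgSp.IsSurjectiveMor (BasedFunctor.comp x f) :=
    (Groth.Agent.S12819.result (isAlgStack_overCat T) h𝒴 _ (repByAlgSp1_chart h𝒴 _)).1 hw3'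
  have hL := locSurjObj_of_repByAlgSpWith_fppf (isFibGrpd_overCat T) h𝒴.isStack.1
    (BasedFunctor.comp x f) hw1 hw2 hw3
  intro η
  obtain ⟨R, hR, hlift⟩ := hL η
  refine ⟨R, hR, fun V' h hh => ?_⟩
  obtain ⟨x₁, g, hg⟩ := hlift h hh
  exact ⟨x.obj x₁, g, hg⟩

/-- Being a gerbe descends along surjective flat locally finitely presented base change. -/
theorem isGerbeOver_of_fpFst_fppf (h𝒳 : AlgSt.IsAlgStack Scheme.fppfPrecoverage 𝒳)
    (h𝒴 : AlgSt.IsAlgStack Scheme.fppfPrecoverage 𝒴)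
    (h𝒴' : AlgSt.IsAlgStack Scheme.fppfPrecoverage 𝒴') (f : 𝒳 ⥤ᵇ 𝒴) (g : 𝒴' ⥤ᵇ 𝒴)
    (hg₁ : AlgSt.IsSurjective g) (hg₂ : AlgSt.LocQ (AlgSp.LocP @Flat) g)
    (hg₃ : AlgSt.LocQ (AlgSp.LocP @LocallyOfFinitePresentation) g)
    (h : Gerb.IsGerbeOver (QuotSh.J Scheme.fppfPrecoverage S) (FibCat.fpFst g f)) :
    Gerb.IsGerbeOver (QuotSh.J Scheme.fppfPrecoverage S) f :=
  isGerbeOver_of_fpFst _ h𝒳.isStack.1 h𝒴.isStack.1 f g
    (locSurjObj_of_surjective_flat_lfp h𝒴' h𝒴 g hg₁ hg₂ hg₃) h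

end Groth.Agent.Helper2.AlgStLib.GerbeDesc
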