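import Mathlib
import Groth.Prelude.Def_AlgSt3
import Groth.Agent.Lib.Helper2.AlgSt.RepDiagApps3
import Groth.Agent.Lib.Helper2.AlgSt.Comp
import Groth.Agent.Lib.Helper2.AlgSp.Mono

/-!
# Monomorphisms and open immersions of categories over `(Sch/S)` (helper2)
-/

set_option autoImplicit false
open CategoryTheory CategoryTheory.Functor CategoryTheory.Limits AlgebraicGeometry Opposite

universe u

namespace Groth.Agent.Helper2.AlgStLib

open Groth.Agent.Helper2 Groth.Agent.Helper2.FibCatLib Groth.Agent.Helper2.StkLib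
open Groth.Agent.Helper2.AlgSpBasic Groth.Agent.Helper2.EtaleLocal

variable {S : Scheme.{u}} {𝒳 𝒴 𝒵 : BasedCategory.{u, u + 1} (Over S)}

theorem stableComp_mono : StableComp (S := S) (MorphismProperty.monomorphisms (AlgSp.Sp S)) := by
  intro X Y Z _ _ _ a b ha hb
  have : Mono a := ha
  have : Mono b := hb
  exact (mono_comp a b : Mono (a ≫ b))

theorem stableComp_repWith (Q : MorphismProperty Scheme.{u}) [Q.IsStableUnderBaseChange]
    [Q.IsMultiplicative] : StableComp (S := S) (AlgSp.RepWith Q) := by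
  intro X Y Z _ _ _ a b ha hb
  exact repWith_comp Q ha hb

theorem isMono_of_isImm (f : 𝒳 ⥤ᵇ 𝒴) (hf : AlgSt.IsImm f) : AlgSt.IsMono f :=
  repByAlgSpWith_mono (fun _ _ m hm => mono_of_repWith_isImmersion m hm) f hf

theorem isMono_comp (h𝒳 : FibCat.IsFibGrpd 𝒳.p) (h𝒴 : FibCat.IsFibGrpd 𝒴.p) (f : 𝒳 ⥤ᵇ 𝒴)
    (g : 𝒴 ⥤ᵇ 𝒵) (hf : AlgSt.IsMono f) (hg : AlgSt.IsMono g) :
    AlgSt.IsMono (BasedFunctor.comp f g) :=
  repByAlgSpWith_comp h𝒳 h𝒴 _ stableBC_mono stableComp_mono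
    (isLocalOnBase_fppf_of_fpqc isLocalOnBase_fpqc_mono) f g hf hg

theorem isOpenImm_comp (h𝒳 : FibCat.IsFibGrpd 𝒳.p) (h𝒴 : FibCat.IsFibGrpd 𝒴.p) (f : 𝒳 ⥤ᵇ 𝒴)
    (g : 𝒴 ⥤ᵇ 𝒵) (hf : AlgSt.IsOpenImm f) (hg : AlgSt.IsOpenImm g) :
    AlgSt.IsOpenImm (BasedFunctor.comp f g) :=
  repByAlgSpWith_comp h𝒳 h𝒴 _ (stableBC_repWith _) (stableComp_repWith _)
    (isLocalOnBase_fppf_of_fpqc isLocalOnBase_fpqc_repWith_isOpenImmersion) f g hf hg

end Groth.Agent.Helper2.AlgStLib
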