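import Mathlib
import Groth.Prelude.Def_AlgSt4
import Groth.Agent.Lib.Helper2.AlgSt.GerbeDesc
import Groth.Agent.Lib.Helper2.AlgSt.SepDiag
import Groth.Agent.Lib.Helper2.AlgSt.CompCover
import Groth.Agent.Lib.Helper2.AlgSt.PFacts3
import Groth.Agent.Lib.Helper2.AlgSt.Pts.UnivInjDiag
import Groth.Agent.Lib.Helper2.AlgSp.SepDescent
import Groth.Agent.S12819
import Groth.Agent.S12781

/-!
# Separatedness of the second factor of a composite through an fppf universally injective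
morphism (helper2)
-/

set_option autoImplicit false
set_option synthInstance.maxHeartbeats 400000
set_option maxHeartbeats 4000000
set_option linter.style.haveILetI false
set_option linter.unusedSectionVars false
set_option linter.unusedVariables false
set_option linter.unusedSimpArgs false
set_option linter.unnecessarySimpa false

open CategoryTheory CategoryTheory.Functor CategoryTheory.Limits AlgebraicGeometry Opposite

universe u

namespace Groth.Agent.Helper2.AlgStLib.SepComp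

open Groth.Agent.Helper2 Groth.Agent.Helper2.FibCatLib Groth.Agent.Helper2.StkLib
open Groth.Agent.Helper2.AlgSpBasic Groth.Agent.Helper2.EtaleLocal
open Groth.Agent.Helper2.AlgStLib Groth.Agent.Helper2.AlgStLib.Pts
open Groth.Agent.Helper2.AlgStLib.LocQ
open Groth.Agent.Helper2.AlgStLib.SepDiag

variable {S : Scheme.{u}} {𝒳 𝒴 𝒵 : BasedCategory.{u, u + 1} (Over S)}

/-- Functor form of local lifting along a surjective, flat, locally finitely presented morphism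
of algebraic stacks. -/
theorem exists_local_lift_of_locQ (h𝒳 : AlgSt.IsAlgStack Scheme.fppfPrecoverage 𝒳)
    (h𝒴 : AlgSt.IsAlgStack Scheme.fppfPrecoverage 𝒴) (f : 𝒳 ⥤ᵇ 𝒴)
    (hs : AlgSt.IsSurjective f) (h1 : AlgSt.LocQ (AlgSp.LocP @Flat) f)
    (h2 : AlgSt.LocQ (AlgSp.LocP @LocallyOfFinitePresentation) f)
    (U : Over S) (y₀ : FibCat.overCat U ⥤ᵇ 𝒴) :
    ∃ R ∈ (QuotSh.J Scheme.fppfPrecoverage S) U, ∀ ⦃V : Over S⦄ (h : V ⟶ U), R.arrows h →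
      ∃ z : FibCat.overCat V ⥤ᵇ 𝒳,
        Nonempty (BasedFunctor.comp z f ≅ BasedFunctor.comp (AlgSt.overMap h) y₀) := by
  obtain ⟨V, y, hy1, hy2⟩ := h𝒴.atlas
  have h𝒬 : AlgSt.IsAlgStack Scheme.fppfPrecoverage (FibCat.fp f y) :=
    isAlgStack_fp _ h𝒳 (isAlgStack_overCat V) h𝒴 f y
  obtain ⟨T, c, hc1, hc2⟩ := h𝒬.atlas
  obtain ⟨k, α, ⟨θ⟩, hx, -, hsx⟩ := exists_good_square h𝒳 h𝒴 f y hy1 c hc1
  have hk1 : AlgSp.LocP @Flat ((AlgSp.yon S).map k) :=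
    prop_of_locQ isSmoothLocalST_locP_flat h𝒳 h𝒴 f h1 y hy1 c hc1 k θ
  have hk2 : AlgSp.LocP @LocallyOfFinitePresentation ((AlgSp.yon S).map k) :=
    prop_of_locQ isSmoothLocalST_locP_lfp h𝒳 h𝒴 f h2 y hy1 c hc1 k θ
  obtain ⟨x, hxdef⟩ : ∃ x : FibCat.overCat T ⥤ᵇ 𝒳, x = BasedFunctor.comp c (FibCat.fpFst f y) :=
    ⟨_, rfl⟩
  rw [← hxdef] at α hx hsx
  have hxs : Sj x := hsx hy2 hc2
  have hw : ∀ P : MorphismProperty (AlgSp.Sp S), StableBC P → StableComp P →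
      AlgSp.IsLocalOnBase AlgSp.IsFppfCover P → P ((AlgSp.yon S).map k) →
      AlgSt.RepByAlgSpWith P y → AlgSt.RepByAlgSpWith P (BasedFunctor.comp x f) :=
    fun P hb hc hl hk hy =>
      (repByAlgSpWith_congr P α).1 (repByAlgSpWith_comp (isFibGrpd_overCat T)
        (isFibGrpd_overCat V) P hb hc hl (AlgSt.overMap k) y
        (repByAlgSpWith_overMap_of_prop P hb k hk) hy)
  have hw1 := hw _ (stableBC_locP @Flat) (stableComp_locP @Flat) isLocalOnBase_fppf_locP_flat hk1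
    (repByAlgSpWith_locP_mono SmBoot.smooth_le_flat y hy1)
  have hw2 := hw _ (stableBC_locP @LocallyOfFinitePresentation)
    (stableComp_locP @LocallyOfFinitePresentation) isLocalOnBase_fppf_locP_lfp hk2
    (repByAlgSpWith_locP_mono SmBoot.smooth_le_lfp y hy1)
  have hx' : AlgSt.IsSurjective x :=
    (Groth.Agent.S12819.result (isAlgStack_overCat T) h𝒳 x (repByAlgSp1_chart h𝒳 x)).2 hxs
  have hw3' : AlgSt.IsSurjective (BasedFunctor.comp x f) := isSurjective_comp x f hx' hs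
  have hw3 : AlgSt.RepByAlgSpWith AlgSp.IsSurjectiveMor (BasedFunctor.comp x f) :=
    (Groth.Agent.S12819.result (isAlgStack_overCat T) h𝒴 _ (repByAlgSp1_chart h𝒴 _)).1 hw3'
  obtain ⟨R, hR, hl⟩ := exists_local_lift_of_fppf (isFibGrpd_overCat T) (BasedFunctor.comp x f)
    hw1 hw2 hw3 U y₀
  refine ⟨R, hR, fun V' h hh => ?_⟩
  obtain ⟨z', ⟨θ'⟩⟩ := hl h hh
  exact ⟨BasedFunctor.comp z' x, ⟨θ'⟩⟩

/-- Local lifting through `Hc f f g` for a surjective flat lfp morphism `f` of algebraic stacks. -/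
theorem exists_local_lift_Hc_of_locQ (h𝒳 : AlgSt.IsAlgStack Scheme.fppfPrecoverage 𝒳)
    (h𝒴 : AlgSt.IsAlgStack Scheme.fppfPrecoverage 𝒴) (f : 𝒳 ⥤ᵇ 𝒴) (g : 𝒴 ⥤ᵇ 𝒵)
    (hs : AlgSt.IsSurjective f) (h1 : AlgSt.LocQ (AlgSp.LocP @Flat) f)
    (h2 : AlgSt.LocQ (AlgSp.LocP @LocallyOfFinitePresentation) f)
    (U : Over S) (y : FibCat.overCat U ⥤ᵇ FibCat.fp g g) :
    ∃ R ∈ (QuotSh.J Scheme.fppfPrecoverage S) U, ∀ ⦃V : Over S⦄ (h : V ⟶ U), R.arrows h →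
      ∃ z : FibCat.overCat V ⥤ᵇ FibCat.fp (BasedFunctor.comp f g) (BasedFunctor.comp f g),
        Nonempty (BasedFunctor.comp z (Magic.Hc f f g) ≅
          BasedFunctor.comp (AlgSt.overMap h) y) := by
  obtain ⟨R₁, hR₁, hl₁⟩ := exists_local_lift_of_locQ h𝒳 h𝒴 f hs h1 h2 U
    (BasedFunctor.comp y (FibCat.fpFst g g))
  obtain ⟨R₂, hR₂, hl₂⟩ := exists_local_lift_of_locQ h𝒳 h𝒴 f hs h1 h2 U
    (BasedFunctor.comp y (FibCat.fpSnd g g))
  refine ⟨R₁ ⊓ R₂, GrothendieckTopology.intersection_covering _ hR₁ hR₂, fun V h hh => ?_⟩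
  obtain ⟨z₁, ⟨θ₁⟩⟩ := hl₁ h hh.1
  obtain ⟨z₂, ⟨θ₂⟩⟩ := hl₂ h hh.2
  exact ⟨Magic.liftHc f f g (BasedFunctor.comp (AlgSt.overMap h) y) z₁ z₂ θ₁ θ₂,
    ⟨Magic.liftHcIso f f g (BasedFunctor.comp (AlgSt.overMap h) y) z₁ z₂ θ₁ θ₂⟩⟩

/-- **Separatedness of the second factor.** -/
theorem isSeparatedMor_of_comp (h𝒳 : AlgSt.IsAlgStack Scheme.fppfPrecoverage 𝒳)
    (h𝒴 : AlgSt.IsAlgStack Scheme.fppfPrecoverage 𝒴)
    (h𝒵 : AlgSt.IsAlgStack Scheme.fppfPrecoverage 𝒵)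
    (f : 𝒳 ⥤ᵇ 𝒴) (g : 𝒴 ⥤ᵇ 𝒵)
    (hf₁ : AlgSt.IsSurjective f) (hf₂ : AlgSt.LocQ (AlgSp.LocP @Flat) f)
    (hf₃ : AlgSt.LocQ (AlgSp.LocP @LocallyOfFinitePresentation) f)
    (hf₄ : AlgSt.IsUnivInjective Scheme.fppfPrecoverage f)
    (hf₅ : AlgSt.RepByAlgSpWith AlgSp.IsUnivClosedMor (FibCat.diag f))
    (hh : AlgSt.IsSeparatedMor (BasedFunctor.comp f g)) :
    AlgSt.IsSeparatedMor g := by
  have hX := h𝒳.isStack.1
  have hY := h𝒴.isStack.1
  have hZ := h𝒵.isStack.1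
  have hΔf : AlgSt.RepByAlgSp1 (FibCat.diag f) := repByAlgSp1_diag_of_diag f h𝒳.diag h𝒴.diag
  have hΔg : AlgSt.RepByAlgSp1 (FibCat.diag g) := repByAlgSp1_diag_of_diag g h𝒴.diag h𝒵.diag
  have hfp : AlgSt.IsAlgStack Scheme.fppfPrecoverage (FibCat.fp f f) :=
    isAlgStack_fp _ h𝒳 h𝒳 h𝒴 f f
  have hs0 : AlgSt.IsSurjective (FibCat.diag f) :=
    isSurjective_diag_of_isUnivInjective h𝒳 h𝒴 f hf₄
  have hs : AlgSt.RepByAlgSpWith AlgSp.IsSurjectiveMor (FibCat.diag f) :=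
    (Groth.Agent.S12819.result h𝒳 hfp (FibCat.diag f) hΔf).1 hs0
  have hQ : AlgSt.RepByAlgSpWith (AlgSp.IsSurjectiveMor ⊓ AlgSp.IsUnivClosedMor)
      (FibCat.diag f) :=
    repByAlgSpWith_of_forall₂ (respectsIsoSp_of_stableBC stableBC_isUnivClosedMor) _ hs hf₅
      (fun _ _ _ _ a h1 h2 => ⟨h1, h2⟩)
  have hP₀ : AlgSt.RepByAlgSpWith (AlgSp.IsSeparatedMor ⊓ AlgSp.IsUnivClosedMor)
      (FibCat.diag (BasedFunctor.comp f g)) :=
    repByAlgSpWith_mono (fun _ _ a ha => ⟨ha.1, ha.2.2⟩) _ hh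
  have hP₀b : StableBC (S := S) (AlgSp.IsSeparatedMor ⊓ AlgSp.IsUnivClosedMor) :=
    stableBC_inf stableBC_isSeparatedMor stableBC_isUnivClosedMor
  have hQb : StableBC (S := S) (AlgSp.IsSurjectiveMor ⊓ AlgSp.IsUnivClosedMor) :=
    stableBC_inf stableBC_isSurjectiveMor stableBC_isUnivClosedMor
  have hQl : AlgSp.IsLocalOnBase (AlgSp.IsFppfCover (S := S))
      (AlgSp.IsSurjectiveMor ⊓ AlgSp.IsUnivClosedMor) :=
    isLocalOnBase_and isLocalOnBase_fppf_isSurjectiveMor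
      (isLocalOnBase_fppf_of_fpqc isLocalOnBase_fpqc_isUnivClosedMor)
  have hP₀l : AlgSp.IsLocalOnBase (AlgSp.IsFppfCover (S := S))
      (AlgSp.IsSeparatedMor ⊓ AlgSp.IsUnivClosedMor) :=
    haveI := Groth.Agent.S0083.result.{u}
    isLocalOnBase_fppf_of_fpqc
      (isLocalOnBase_and (isLocalOnBase_fpqc_diagonal @IsClosedImmersion)
        isLocalOnBase_fpqc_isUnivClosedMor)
  have hcomp : AlgSt.RepByAlgSpWith (AlgSp.IsSeparatedMor ⊓ AlgSp.IsUnivClosedMor)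
      (BasedFunctor.comp (FibCat.diag f) (Magic.canon f f g)) :=
    (repByAlgSpWith_congr _ (Magic.diagCompIso f g)).2 hP₀
  have hcanon1 : AlgSt.RepByAlgSp1 (Magic.canon f f g) :=
    (repByAlgSp1_iff_top _).2 (repByAlgSpWith_canon ⊤ f f g ((repByAlgSp1_iff_top _).1 hΔg))
  have hcanon : AlgSt.RepByAlgSpWith (AlgSp.IsSeparatedMor ⊓ AlgSp.IsUnivClosedMor)
      (Magic.canon f f g) :=
    repByAlgSpWith_of_comp_cover hX (isFibGrpd_fp f f hX hX hY) _ hP₀b _ hQb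
      (atlasLocal_of_fppf hQl)
      (fun X Y Z hX' hY' hZ' a b ha hb =>
        ⟨(separation_of_surjective_univClosed hX' hY' hZ' a (a ≫ b) b rfl ha.1 ha.2).2 hb.1,
          isUnivClosedMor_of_surjective_triangle a b hb.2 ha.1⟩)
      (FibCat.diag f) (Magic.canon f f g) hcanon1 hQ hcomp
  have h' : AlgSt.RepByAlgSpWith (AlgSp.IsSeparatedMor ⊓ AlgSp.IsUnivClosedMor)
      (FibCat.fpFst (Magic.Hc f f g) (FibCat.diag g)) :=
    (repByAlgSpWith_of_square _ (FibCat.fpFst (Magic.Hc f f g) (FibCat.diag g))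
      (Magic.canon f f g) (Magic.Ψ f f g) (BasedFunctor.id _)
      (Magic.Ψ_isEquivOver f f g) ReprInv.isEquivOver_id (Iso.refl _)).2 hcanon
  have hmain : AlgSt.RepByAlgSpWith (AlgSp.IsSeparatedMor ⊓ AlgSp.IsUnivClosedMor)
      (FibCat.diag g) :=
    Groth.Agent.S12781.result hY (isFibGrpd_fp g g hY hY hZ)
      (isFibGrpd_fp _ _ hX hX hZ) _ hP₀b hP₀l (FibCat.diag g) hΔg (Magic.Hc f f g)
      (exists_local_lift_Hc_of_locQ h𝒳 h𝒴 f g hf₁ hf₂ hf₃) h'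
  have hlft := repByAlgSpWith_lft_diag h𝒴 h𝒵 g
  exact repByAlgSpWith_of_forall₂ (respectsIsoSp_of_stableBC (stableBC_locP _)) _ hmain hlft
    (fun X Y hX' hY' a ha hb =>
      ⟨ha.1, ⟨hb, isQuasiCompactMor_of_isUnivClosedMor hX' hY' a ha.2⟩, ha.2⟩)

end Groth.Agent.Helper2.AlgStLib.SepComp
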