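import Mathlib
import Groth.Prelude.Def_AlgSt4
import Groth.Prelude.Def_StGerb
import Groth.Agent.Lib.Helper2.AlgSt.SepComp
import Groth.Agent.Lib.Helper2.AlgSt.QC
import Groth.Agent.Lib.Helper2.AlgSp.QC
import Groth.Agent.Lib.Helper2.AlgSp.Fpqc2
import Groth.Agent.Lib.Helper2.FibCat.OverFun
import Groth.Agent.Lib.Helper2.FibCat.DiagRepBack
import Groth.Agent.Lib.Helper2.Stk.LocAut
import Groth.Agent.Lib.Helper6.GerbL.Basic

/-!
# Descent of properties of the diagonal along functors with local lifts; quasi-compact diagonal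
of the base of a gerbe (helper2)
-/

set_option autoImplicit false
set_option synthInstance.maxHeartbeats 400000
set_option maxHeartbeats 4000000
set_option linter.style.haveILetI false
set_option linter.unusedSectionVars false
set_option linter.unusedVariables false
set_option linter.unusedSimpArgs false
set_option linter.unnecessarySimpa false

open CategoryTheory CategoryTheory.Functor CategoryTheory.Limits AlgebraicGeometry Opposite

universe u

namespace Groth.Agent.Helper2.AlgStLib.GerbeDiagQC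

open Groth.Agent.Helper2 Groth.Agent.Helper2.FibCatLib Groth.Agent.Helper2.StkLib
open Groth.Agent.Helper2.AlgSpBasic Groth.Agent.Helper2.EtaleLocal
open Groth.Agent.Helper2.AlgStLib Groth.Agent.Helper2.AlgStLib.Pts
open Groth.Agent.Helper2.AlgStLib.LocQ
open Groth.Agent.Helper2.AlgStLib.SepDiag
open Groth.Agent.Helper2.FibCatLib.OverFun
open Groth.Agent.Helper6.GerbL

variable {S : Scheme.{u}} {𝒳 𝒴 𝒵 : BasedCategory.{u, u + 1} (Over S)}

/-- The local lifting property of a functor, in functor form. -/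
def LocalLift (J : GrothendieckTopology (Over S)) (f : 𝒳 ⥤ᵇ 𝒴) : Prop :=
  ∀ (U : Over S) (y : FibCat.overCat U ⥤ᵇ 𝒴), ∃ R ∈ J U, ∀ ⦃V : Over S⦄ (h : V ⟶ U), R.arrows h →
    ∃ z : FibCat.overCat V ⥤ᵇ 𝒳,
      Nonempty (BasedFunctor.comp z f ≅ BasedFunctor.comp (AlgSt.overMap h) y)

/-- Objects coming locally from `𝒳` gives local lifts of functors from slices. -/
theorem localLift_of_locSurjObj (h𝒳 : FibCat.IsFibGrpd 𝒳.p) (h𝒴 : FibCat.IsFibGrpd 𝒴.p)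
    (J : GrothendieckTopology (Over S)) (f : 𝒳 ⥤ᵇ 𝒴) (hf : Gerb.LocSurjObj J f) :
    LocalLift J f := by
  intro U y
  have hy₀ : 𝒴.p.obj (y.obj (Over.mk (𝟙 U))) = U := y.w_obj (Over.mk (𝟙 U))
  obtain ⟨R, hR, hl⟩ := locSurjObj_apply _ hf (y.obj (Over.mk (𝟙 U))) hy₀
  refine ⟨R, hR, fun V h hh => ?_⟩
  obtain ⟨x, m, hm⟩ := hl h hh
  have hx : 𝒳.p.obj x = V := p_obj_of_isHomLift_dom f h m hm
  haveI : 𝒳.p.IsFibered := isFibered_of_isFibGrpd _ h𝒳
  obtain ⟨e, he⟩ := yonedaFunctor_obj_id_iso hx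
  have hk : 𝒴.p.IsHomLift h
      (y.toFunctor.map (toId U ((AlgSt.overMap h).obj (Over.mk (𝟙 V))))) := by
    have hk0 : 𝒴.p.IsHomLift (𝟙 V ≫ h)
        (y.toFunctor.map (toId U ((AlgSt.overMap h).obj (Over.mk (𝟙 V))))) :=
      isHomLift_map_over U y (toId U ((AlgSt.overMap h).obj (Over.mk (𝟙 V))))
    rw [Category.id_comp] at hk0
    exact hk0
  have hfe : 𝒴.p.IsHomLift (𝟙 V) (f.map e.hom) := by
    haveI := he
    infer_instance
  have hm' : 𝒴.p.IsHomLift h (f.map e.hom ≫ m) := by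
    have h5 := isHomLift_comp' 𝒴.p (𝟙 V) h (f.map e.hom) m hfe hm
    rw [Category.id_comp] at h5
    exact h5
  obtain ⟨χ, hχ1, hχ2⟩ := exists_factor h𝒴 h
    (y.toFunctor.map (toId U ((AlgSt.overMap h).obj (Over.mk (𝟙 V))))) hk (f.map e.hom ≫ m) hm'
  have hiso : IsIso χ := IsFibGrpd.isIso_of_isHomLift_id 𝒴.p h𝒴 (S := V) χ
  exact ⟨yonedaFunctor hx, nonempty_iso_of_app_id h𝒴 (BasedFunctor.comp (yonedaFunctor hx) f)
    (BasedFunctor.comp (AlgSt.overMap h) y) (@asIso _ _ _ _ χ hiso) hχ1⟩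

/-- A functor whose objects come locally from the source is surjective on points. -/
theorem isSurjective_of_locSurjObj (G : 𝒳 ⥤ᵇ 𝒴)
    (hG : Gerb.LocSurjObj (QuotSh.J Scheme.fppfPrecoverage S) G) : AlgSt.IsSurjective G := by
  intro η
  obtain ⟨q, rfl⟩ := AlgSt.Points.mk_surjective η
  obtain ⟨R, hR, hl⟩ := locSurjObj_apply _ hG q.obj q.lies
  obtain ⟨ι, V, h, hRV, hcov⟩ := exists_fppfCover_of_mem_J R hR
  obtain ⟨i, v', hv'⟩ := hcov.2 (AlgSp.Points.schemeHomeo (Over.mk q.str)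
    (Nonempty.some (inferInstance : Nonempty ↥(Spec (CommRingCat.of q.K)))))
  obtain ⟨v, rfl⟩ := (AlgSp.Points.schemeHomeo (V i)).surjective v'
  obtain ⟨W, hW⟩ : ∃ W : Over S, W = Over.mk ((V i).left.fromSpecResidueField v ≫ (V i).hom) :=
    ⟨_, rfl⟩
  have hk : R.arrows ((Over.homMk ((V i).left.fromSpecResidueField v) rfl :
      Over.mk ((V i).left.fromSpecResidueField v ≫ (V i).hom) ⟶ V i) ≫ h i) :=
    R.downward_closed (hRV i) _
  obtain ⟨x, g, hg⟩ := hl _ hk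
  have hx : 𝒳.p.obj x = Over.mk ((V i).left.fromSpecResidueField v ≫ (V i).hom) :=
    p_obj_of_isHomLift_dom G _ g hg
  refine ⟨AlgSt.Points.mk ⟨↥((V i).left.residueField v),
    (V i).left.fromSpecResidueField v ≫ (V i).hom, x, hx⟩, ?_⟩
  rw [AlgSt.Points.map_mk]
  exact mk_eq_of_hom (p := (⟨↥((V i).left.residueField v),
    (V i).left.fromSpecResidueField v ≫ (V i).hom, x, hx⟩ : AlgSt.FPt 𝒳).map G) (q := q) g

/-- If morphisms between images lift locally, the objects of the double fibre product come locally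
from the diagonal. -/
theorem locSurjObj_diag (J : GrothendieckTopology (Over S)) (f : 𝒳 ⥤ᵇ 𝒴)
    (hf : Gerb.LocSurjHom J f) : Gerb.LocSurjObj J (FibCat.diag f) := by
  intro w
  obtain ⟨R, hR, hl⟩ := hf w.obj.fst w.obj.snd w.obj.iso.hom w.property
  refine ⟨R, hR, fun V h hh => ?_⟩
  obtain ⟨x₀, φ, ψ, hφ, hψ, hw⟩ := hl h hh
  refine ⟨x₀, fpMkHom f f (Z := (FibCat.diag f).obj x₀) (Z' := w) φ ψ ?_, ?_⟩
  · have h3 : f.map φ ≫ w.obj.iso.hom = 𝟙 _ ≫ f.map ψ := hw.trans (Category.id_comp _).symm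
    exact h3
  · exact fp_isHomLift_of_fst f f h _ hφ

/-- Local lifting through `Hc f f g` from local lifting through `f`. -/
theorem localLift_Hc (J : GrothendieckTopology (Over S)) (f : 𝒳 ⥤ᵇ 𝒴) (g : 𝒴 ⥤ᵇ 𝒵)
    (hf : LocalLift J f) : LocalLift J (Magic.Hc f f g) := by
  intro U y
  obtain ⟨R₁, hR₁, hl₁⟩ := hf U (BasedFunctor.comp y (FibCat.fpFst g g))
  obtain ⟨R₂, hR₂, hl₂⟩ := hf U (BasedFunctor.comp y (FibCat.fpSnd g g))
  refine ⟨R₁ ⊓ R₂, GrothendieckTopology.intersection_covering _ hR₁ hR₂, fun V h hh => ?_⟩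
  obtain ⟨z₁, ⟨θ₁⟩⟩ := hl₁ h hh.1
  obtain ⟨z₂, ⟨θ₂⟩⟩ := hl₂ h hh.2
  exact ⟨Magic.liftHc f f g (BasedFunctor.comp (AlgSt.overMap h) y) z₁ z₂ θ₁ θ₂,
    ⟨Magic.liftHcIso f f g (BasedFunctor.comp (AlgSt.overMap h) y) z₁ z₂ θ₁ θ₂⟩⟩

/-- **Descent of a property of the diagonal of the second factor.** -/
theorem repByAlgSpWith_diag_of_comp (hX : FibCat.IsFibGrpd 𝒳.p) (hY : FibCat.IsFibGrpd 𝒴.p)
    (hZ : FibCat.IsFibGrpd 𝒵.p) (P Q : MorphismProperty (AlgSp.Sp S)) (hPb : StableBC P)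
    (hPl : AlgSp.IsLocalOnBase AlgSp.IsFppfCover P) (hQb : StableBC Q) (hQl : AtlasLocal Q)
    (himp : ∀ ⦃X Y Z : AlgSp.Sp S⦄, AlgSp.IsAlgSpace X → AlgSp.IsAlgSpace Y → AlgSp.IsAlgSpace Z →
      ∀ (a : X ⟶ Y) (b : Y ⟶ Z), Q a → P (a ≫ b) → P b)
    (f : 𝒳 ⥤ᵇ 𝒴) (g : 𝒴 ⥤ᵇ 𝒵)
    (hlift : LocalLift (QuotSh.J Scheme.fppfPrecoverage S) f)
    (hΔg : AlgSt.RepByAlgSp1 (FibCat.diag g)) (hQf : AlgSt.RepByAlgSpWith Q (FibCat.diag f))
    (hPh : AlgSt.RepByAlgSpWith P (FibCat.diag (BasedFunctor.comp f g))) :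
    AlgSt.RepByAlgSpWith P (FibCat.diag g) := by
  have hcomp : AlgSt.RepByAlgSpWith P
      (BasedFunctor.comp (FibCat.diag f) (Magic.canon f f g)) :=
    (repByAlgSpWith_congr _ (Magic.diagCompIso f g)).2 hPh
  have hcanon1 : AlgSt.RepByAlgSp1 (Magic.canon f f g) :=
    (repByAlgSp1_iff_top _).2 (repByAlgSpWith_canon ⊤ f f g ((repByAlgSp1_iff_top _).1 hΔg))
  have hcanon : AlgSt.RepByAlgSpWith P (Magic.canon f f g) :=
    repByAlgSpWith_of_comp_cover hX (isFibGrpd_fp f f hX hX hY) _ hPb _ hQb hQl himp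
      (FibCat.diag f) (Magic.canon f f g) hcanon1 hQf hcomp
  have h' : AlgSt.RepByAlgSpWith P (FibCat.fpFst (Magic.Hc f f g) (FibCat.diag g)) :=
    (repByAlgSpWith_of_square _ (FibCat.fpFst (Magic.Hc f f g) (FibCat.diag g))
      (Magic.canon f f g) (Magic.Ψ f f g) (BasedFunctor.id _)
      (Magic.Ψ_isEquivOver f f g) ReprInv.isEquivOver_id (Iso.refl _)).2 hcanon
  exact Groth.Agent.S12781.result hY (isFibGrpd_fp g g hY hY hZ)
    (isFibGrpd_fp _ _ hX hX hZ) _ hPb hPl (FibCat.diag g) hΔg (Magic.Hc f f g)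
    (localLift_Hc _ f g hlift) h'

/-- **Quasi-compact diagonal of the base of a gerbe.** -/
theorem isQuasiCompactMor_diag_of_isGerbeOver
    (h𝒳 : AlgSt.IsAlgStack Scheme.fppfPrecoverage 𝒳)
    (h𝒴 : AlgSt.IsAlgStack Scheme.fppfPrecoverage 𝒴) (f : 𝒳 ⥤ᵇ 𝒴)
    (hf : Gerb.IsGerbeOver (QuotSh.J Scheme.fppfPrecoverage S) f)
    (hΔ : AlgSt.IsQuasiCompactMor Scheme.fppfPrecoverage (FibCat.diag (FibCat.toSelf 𝒳))) :
    AlgSt.IsQuasiCompactMor Scheme.fppfPrecoverage (FibCat.diag (FibCat.toSelf 𝒴)) := by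
  have hX := h𝒳.isStack.1
  have hY := h𝒴.isStack.1
  have hself : FibCat.IsFibGrpd (FibCat.selfOver (Over S)).p := DiagRepBack.isFibGrpd_selfOver
  have hΔf : AlgSt.RepByAlgSp1 (FibCat.diag f) := repByAlgSp1_diag_of_diag f h𝒳.diag h𝒴.diag
  have hfp : AlgSt.IsAlgStack Scheme.fppfPrecoverage (FibCat.fp f f) :=
    isAlgStack_fp _ h𝒳 h𝒳 h𝒴 f f
  have hs0 : AlgSt.IsSurjective (FibCat.diag f) :=
    isSurjective_of_locSurjObj (FibCat.diag f) (locSurjObj_diag _ f hf.2)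
  have hs : AlgSt.RepByAlgSpWith AlgSp.IsSurjectiveMor (FibCat.diag f) :=
    (Groth.Agent.S12819.result h𝒳 hfp (FibCat.diag f) hΔf).1 hs0
  have hqX : AlgSt.RepByAlgSpWith AlgSp.IsQuasiCompactMor (FibCat.diag (FibCat.toSelf 𝒳)) :=
    (repByAlgSpWith_isQuasiCompactMor_iff hX (isFibGrpd_fp _ _ hX hX hself) _ h𝒳.diag).2 hΔ
  have hqX' : AlgSt.RepByAlgSpWith AlgSp.IsQuasiCompactMor
      (FibCat.diag (BasedFunctor.comp f (FibCat.toSelf 𝒴))) := by
    rw [comp_toSelf f]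
    exact hqX
  have hmain : AlgSt.RepByAlgSpWith AlgSp.IsQuasiCompactMor (FibCat.diag (FibCat.toSelf 𝒴)) :=
    repByAlgSpWith_diag_of_comp hX hY hself _ _ stableBC_isQuasiCompactMor
      (isLocalOnBase_fppf_of_fpqc isLocalOnBase_fpqc_isQuasiCompactMor)
      stableBC_isSurjectiveMor (atlasLocal_of_fppf isLocalOnBase_fppf_isSurjectiveMor)
      (fun X Y Z hX' hY' hZ' a b ha hb =>
        isQuasiCompactMor_of_surjective_triangle hX' hY' hZ'.diag a b ha hb)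
      f (FibCat.toSelf 𝒴) (localLift_of_locSurjObj hX hY _ f hf.1) h𝒴.diag hs hqX'
  exact (repByAlgSpWith_isQuasiCompactMor_iff hY (isFibGrpd_fp _ _ hY hY hself) _ h𝒴.diag).1 hmain

end Groth.Agent.Helper2.AlgStLib.GerbeDiagQC
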