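import Mathlib
import Groth.Prelude.Def_AlgSt4
import Groth.Prelude.Def_StGerb
import Groth.Agent.Lib.Helper2.AlgSt.GerbeDiagQC
import Groth.Agent.Lib.Helper2.AlgSt.Pts.Top
import Groth.Agent.Lib.Helper2.AlgSt.Pts.Fp
import Groth.Agent.Lib.Helper2.AlgSt.Pts.Homeo
import Groth.Agent.Lib.Helper2.AlgSt.Pts.Space
import Groth.Agent.Lib.Helper6.GerbL.Fp

/-!
# A gerbe is a universal homeomorphism (helper2)
-/

set_option autoImplicit false
set_option synthInstance.maxHeartbeats 400000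
set_option maxHeartbeats 4000000
set_option linter.style.haveILetI false
set_option linter.unusedSectionVars false
set_option linter.unusedVariables false
set_option linter.unusedSimpArgs false
set_option linter.unnecessarySimpa false

open CategoryTheory CategoryTheory.Functor CategoryTheory.Limits AlgebraicGeometry Opposite

universe u

namespace Groth.Agent.Helper2.AlgStLib.GerbeHomeo

open Groth.Agent.Helper2 Groth.Agent.Helper2.FibCatLib Groth.Agent.Helper2.StkLib
open Groth.Agent.Helper2.AlgSpBasic Groth.Agent.Helper2.EtaleLocal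
open Groth.Agent.Helper2.AlgStLib Groth.Agent.Helper2.AlgStLib.Pts
open Groth.Agent.Helper2.AlgStLib.GerbeDiagQC
open Groth.Agent.Helper6.GerbL

variable {S : Scheme.{u}} {𝒳 𝒴 𝒲 : BasedCategory.{u, u + 1} (Over S)}

/-- A covering sieve for the fppf topology contains a jointly surjective family of flat, locally
finitely presented morphisms of schemes, indexed by the points of the target. -/
theorem exists_fppf_family_of_mem_J {U : Over S} (R : Sieve U)
    (hR : R ∈ QuotSh.J Scheme.fppfPrecoverage S U) :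
    ∃ (V : ↥U.left → Over S) (h : ∀ x, V x ⟶ U), (∀ x, R.arrows (h x)) ∧
      (∀ x, Flat (h x).left) ∧ (∀ x, LocallyOfFinitePresentation (h x).left) ∧
      ∀ x, x ∈ Set.range (h x).left := by
  have h1 : Sieve.overEquiv U R ∈ Scheme.fppfTopology U.left :=
    (GrothendieckTopology.mem_over_iff _ _).1 hR
  haveI : Scheme.fppfPrecoverage.{u}.HasIsos := by
    unfold Scheme.fppfPrecoverage; infer_instance
  haveI : Scheme.fppfPrecoverage.{u}.HasPullbacks := by
    unfold Scheme.fppfPrecoverage; infer_instance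
  obtain ⟨R₀, hR₀, hle⟩ :=
    Precoverage.mem_toGrothendieck_iff_of_isStableUnderComposition.1 h1
  obtain ⟨κ, Y, f, rfl⟩ := R₀.exists_eq_ofArrows
  rw [Scheme.fppfPrecoverage, Scheme.ofArrows_mem_precoverage_iff] at hR₀
  obtain ⟨hsurj, hP⟩ := hR₀
  choose i hi using hsurj
  refine ⟨fun x => Over.mk (f (i x) ≫ U.hom), fun x => Over.homMk (f (i x)) rfl, ?_,
    fun x => (hP (i x)).1, fun x => (hP (i x)).2, fun x => hi x⟩
  intro x
  have h2 : (Sieve.overEquiv U R).arrows (f (i x)) := hle _ _ (Presieve.ofArrows.mk (i x))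
  exact (Sieve.overEquiv_iff _ _).1 h2

/-- A gerbe is injective on points. -/
theorem injective_map_of_isGerbeOver (hX : FibCat.IsFibGrpd 𝒳.p) (hY : FibCat.IsFibGrpd 𝒴.p)
    (F : 𝒳 ⥤ᵇ 𝒴) (hF : Gerb.IsGerbeOver (QuotSh.J Scheme.fppfPrecoverage S) F) :
    Function.Injective (AlgSt.Points.map F) := by
  intro x x' hxx
  obtain ⟨w, hw1, hw2⟩ := exists_points_fp_of_map_eq hX hY hX F F x x' hxx
  obtain ⟨x'', rfl⟩ := isSurjective_of_locSurjObj (FibCat.diag F) (locSurjObj_diag _ F hF.2) w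
  have e1 : AlgSt.Points.map (FibCat.fpFst F F) (AlgSt.Points.map (FibCat.diag F) x'') = x'' := by
    rw [← map_comp]
    exact (congrFun (map_congr_of_hom (f := BasedFunctor.comp (FibCat.diag F) (FibCat.fpFst F F))
      (g := BasedFunctor.id 𝒳) (fun a => (𝟙 a : a ⟶ a))) x'').trans (map_id x'')
  have e2 : AlgSt.Points.map (FibCat.fpSnd F F) (AlgSt.Points.map (FibCat.diag F) x'') = x'' := by
    rw [← map_comp]
    exact (congrFun (map_congr_of_hom (f := BasedFunctor.comp (FibCat.diag F) (FibCat.fpSnd F F))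
      (g := BasedFunctor.id 𝒳) (fun a => (𝟙 a : a ⟶ a))) x'').trans (map_id x'')
  exact hw1.symm.trans (e1.trans (e2.symm.trans hw2))

/-- A gerbe over a scheme, injective on points, is open on points. -/
theorem isOpenMap_map_of_gerbe_over_scheme (h𝒲 : AlgSt.IsAlgStack Scheme.fppfPrecoverage 𝒲)
    {U : Over S} (π : 𝒲 ⥤ᵇ FibCat.overCat U)
    (hπ : Gerb.IsGerbeOver (QuotSh.J Scheme.fppfPrecoverage S) π)
    (hinj : Function.Injective (AlgSt.Points.map π)) : IsOpenMap (AlgSt.Points.map π) := by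
  intro O' hO'
  obtain ⟨R, hR, hl⟩ := localLift_of_locSurjObj h𝒲.isStack.1 (isFibGrpd_overCat U) _ π hπ.1 U
    (BasedFunctor.id _)
  obtain ⟨V, h, hRV, hfl, hfp, hcov⟩ := exists_fppf_family_of_mem_J R hR
  choose z hz using fun x => hl (h x) (hRV x)
  have hkey : ∀ (x : ↥U.left) (v : ↥(V x).left),
      AlgSt.Points.map π (AlgSt.Points.ofChart (z x) v) = ptEquiv U ((h x).left v) := by
    intro x v
    obtain ⟨e⟩ := hz x
    rw [map_ofChart, ofChart_congr e, ofChart_overMap]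
    rfl
  have key : ptEquiv U ⁻¹' (AlgSt.Points.map π '' O') =
      ⋃ x, (h x).left '' (AlgSt.Points.ofChart (z x) ⁻¹' O') := by
    ext a
    simp only [Set.mem_preimage, Set.mem_image, Set.mem_iUnion]
    constructor
    · rintro ⟨w, hwO, hw⟩
      obtain ⟨v, hv⟩ := hcov a
      refine ⟨a, v, ?_, hv⟩
      have h3 : AlgSt.Points.map π (AlgSt.Points.ofChart (z a) v) = AlgSt.Points.map π w := by
        rw [hkey a v, hv, hw]
      rw [hinj h3]
      exact hwO
    · rintro ⟨x, v, hvO, hv⟩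
      exact ⟨AlgSt.Points.ofChart (z x) v, hvO, by rw [hkey x v, hv]⟩
  have hopen : IsOpen (ptEquiv U ⁻¹' (AlgSt.Points.map π '' O')) := by
    rw [key]
    refine isOpen_iUnion fun x => ?_
    haveI := hfl x
    haveI := hfp x
    exact (h x).left.isOpenMap _ (hO'.preimage (continuous_ofChart h𝒲 (z x)))
  have h5 : AlgSt.Points.map π '' O' =
      ptEquiv U '' (ptEquiv U ⁻¹' (AlgSt.Points.map π '' O')) :=
    (Set.image_preimage_eq _ (ptEquiv U).surjective).symm
  rw [h5]
  exact (isHomeomorph_ptEquiv U).isOpenMap _ hopen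

/-- A gerbe between algebraic stacks is a homeomorphism on points. -/
theorem isHomeomorph_map_of_isGerbeOver (h𝒳 : AlgSt.IsAlgStack Scheme.fppfPrecoverage 𝒳)
    (h𝒴 : AlgSt.IsAlgStack Scheme.fppfPrecoverage 𝒴) (F : 𝒳 ⥤ᵇ 𝒴)
    (hF : Gerb.IsGerbeOver (QuotSh.J Scheme.fppfPrecoverage S) F) :
    IsHomeomorph (AlgSt.Points.map F) := by
  have hX := h𝒳.isStack.1
  have hY := h𝒴.isStack.1
  have hsurj : Function.Surjective (AlgSt.Points.map F) := isSurjective_of_locSurjObj F hF.1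
  have hinj : Function.Injective (AlgSt.Points.map F) := injective_map_of_isGerbeOver hX hY F hF
  refine ⟨continuous_map h𝒴 F, ?_, hinj, hsurj⟩
  intro W hW
  rw [AlgSt.Points.isOpen_iff]
  intro U y _
  have h𝒲 : AlgSt.IsAlgStack Scheme.fppfPrecoverage (FibCat.fp y F) :=
    isAlgStack_fp _ (isAlgStack_overCat U) h𝒳 h𝒴 y F
  have hπ : Gerb.IsGerbeOver (QuotSh.J Scheme.fppfPrecoverage S) (FibCat.fpFst y F) :=
    isGerbeOver_fpFst _ (isFibGrpd_overCat U) hY F y hF
  have hπinj : Function.Injective (AlgSt.Points.map (FibCat.fpFst y F)) :=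
    injective_map_of_isGerbeOver h𝒲.isStack.1 (isFibGrpd_overCat U) _ hπ
  have hopen := isOpenMap_map_of_gerbe_over_scheme h𝒲 (FibCat.fpFst y F) hπ hπinj
  have hW' : IsOpen (AlgSt.Points.map (FibCat.fpSnd y F) ⁻¹' W) :=
    hW.preimage (continuous_map h𝒳 _)
  have h1 : IsOpen (AlgSt.Points.map (FibCat.fpFst y F) ''
      (AlgSt.Points.map (FibCat.fpSnd y F) ⁻¹' W)) := hopen _ hW'
  have h2 : AlgSt.Points.ofChart y ⁻¹' (AlgSt.Points.map F '' W) =
      ptEquiv U ⁻¹' (AlgSt.Points.map (FibCat.fpFst y F) ''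
        (AlgSt.Points.map (FibCat.fpSnd y F) ⁻¹' W)) := by
    ext t
    simp only [Set.mem_preimage, Set.mem_image]
    constructor
    · rintro ⟨x, hxW, hx⟩
      have h3 : AlgSt.Points.map y (ptEquiv U t) = AlgSt.Points.map F x := hx.symm
      obtain ⟨w, hw1, hw2⟩ := exists_points_fp_of_map_eq hX hY (isFibGrpd_overCat U) F y
        (ptEquiv U t) x h3
      refine ⟨w, ?_, hw1⟩
      rw [hw2]
      exact hxW
    · rintro ⟨w, hwW, hw⟩
      refine ⟨AlgSt.Points.map (FibCat.fpSnd y F) w, hwW, ?_⟩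
      rw [← map_fpFst_eq_map_fpSnd y F w, hw]
      rfl
  rw [h2]
  exact hopen _ hW' |> fun h => h.preimage (isHomeomorph_ptEquiv U).continuous

/-- **A gerbe is a universal homeomorphism.** -/
theorem isUnivHomeo_of_isGerbeOver (h𝒳 : AlgSt.IsAlgStack Scheme.fppfPrecoverage 𝒳)
    (h𝒴 : AlgSt.IsAlgStack Scheme.fppfPrecoverage 𝒴) (f : 𝒳 ⥤ᵇ 𝒴)
    (hf : Gerb.IsGerbeOver (QuotSh.J Scheme.fppfPrecoverage S) f) :
    AlgSt.IsUnivHomeo Scheme.fppfPrecoverage f := by
  intro 𝒵 h𝒵 g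
  exact isHomeomorph_map_of_isGerbeOver (isAlgStack_fp _ h𝒵 h𝒳 h𝒴 g f) h𝒵 (FibCat.fpFst g f)
    (isGerbeOver_fpFst _ h𝒵.isStack.1 h𝒴.isStack.1 f g hf)

end Groth.Agent.Helper2.AlgStLib.GerbeHomeo
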