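import Mathlib
import Groth.Prelude.Def_AlgSt3
import Groth.Agent.Lib.Helper2.AlgSt.RelDiag
import Groth.Agent.Lib.Helper2.AlgSt.DiagStack

/-!
# Graphs and the comparison of fibre products (helper2)
-/

set_option autoImplicit false
open CategoryTheory CategoryTheory.Functor CategoryTheory.Limits AlgebraicGeometry Opposite

universe u

namespace Groth.Agent.Helper2.AlgStLib

open Groth.Agent.Helper2 Groth.Agent.Helper2.FibCatLib Groth.Agent.Helper2.StkLib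
open Groth.Agent.Helper2.AlgSpBasic Groth.Agent.Helper2.EtaleLocal

variable {S : Scheme.{u}} {𝒳 𝒴 𝒯 𝒵 : BasedCategory.{u, u + 1} (Over S)}

/-- The graph `𝒳 ⟶ 𝒳 ×_𝒯 𝒴` of a functor over `𝒯` is a section of the first projection, hence a
base change of the diagonal of `𝒴 ⟶ 𝒯`. -/
theorem repByAlgSpWith_graph (P : MorphismProperty (AlgSp.Sp S)) (p : 𝒳 ⥤ᵇ 𝒯) (q : 𝒴 ⥤ᵇ 𝒯)
    (g : 𝒳 ⥤ᵇ 𝒴) (e : BasedFunctor.comp (BasedFunctor.id 𝒳) p ≅ BasedFunctor.comp g q)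
    (hq : AlgSt.RepByAlgSpWith P (FibCat.diag q)) :
    AlgSt.RepByAlgSpWith P (FibCat.fpLift (BasedFunctor.id 𝒳) g e) :=
  repByAlgSpWith_section P (FibCat.fpFst p q) (FibCat.fpLift (BasedFunctor.id 𝒳) g e) (Iso.refl _)
    (repByAlgSpWith_diag_fpFst P q p hq)

theorem graph_aux {𝒟 : Type*} [Category 𝒟] {A B : 𝒟} (m₁ : A ⟶ A) (h₁ : m₁ = 𝟙 A) (ι ε : A ⟶ B)
    (hε : ε = ι) (m₂ : B ⟶ B) (h₂ : m₂ = 𝟙 B) : m₁ ≫ ι = ε ≫ m₂ := by
  subst h₁ h₂ hε
  rw [Category.id_comp, Category.comp_id]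

/-- The comparison `𝒳 ×_𝒵 𝒴 ⟶ 𝒳 ×_𝒯 𝒴` is the canonical functor. -/
def fpLiftCanonIso (f : 𝒳 ⥤ᵇ 𝒵) (g : 𝒴 ⥤ᵇ 𝒵) (t : 𝒵 ⥤ᵇ 𝒯)
    (e : BasedFunctor.comp (FibCat.fpFst f g) (BasedFunctor.comp f t) ≅
      BasedFunctor.comp (FibCat.fpSnd f g) (BasedFunctor.comp g t))
    (he : ∀ x, e.hom.toNatTrans.app x = t.map x.obj.iso.hom) :
    FibCat.fpLift (FibCat.fpFst f g) (FibCat.fpSnd f g) e ≅ Magic.canon f g t :=
  BasedNatIso.mkNatIso
    (NatIso.ofComponents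
      (fun x => ObjectProperty.isoMk _ (CategoricalPullback.mkIso (Iso.refl _) (Iso.refl _)
        (graph_aux (t.map (f.map (𝟙 x.obj.fst)))
          ((congrArg (fun k => t.toFunctor.map k) (f.toFunctor.map_id _)).trans
            (t.toFunctor.map_id _))
          (t.map x.obj.iso.hom) (e.hom.toNatTrans.app x) (he x)
          (t.map (g.map (𝟙 x.obj.snd)))
          ((congrArg (fun k => t.toFunctor.map k) (g.toFunctor.map_id _)).trans
            (t.toFunctor.map_id _)))))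
      (by
        intro x x' φ
        apply ObjectProperty.hom_ext
        apply CategoricalPullback.hom_ext
        · exact (Category.comp_id _).trans (Category.id_comp _).symm
        · exact (Category.comp_id _).trans (Category.id_comp _).symm))
    (by
      intro x
      apply fp_isHomLift_of_fst
      exact IsHomLift.id (p := 𝒳.p) rfl)

theorem repByAlgSpWith_fpLift_canon (P : MorphismProperty (AlgSp.Sp S)) (f : 𝒳 ⥤ᵇ 𝒵)
    (g : 𝒴 ⥤ᵇ 𝒵) (t : 𝒵 ⥤ᵇ 𝒯)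
    (e : BasedFunctor.comp (FibCat.fpFst f g) (BasedFunctor.comp f t) ≅
      BasedFunctor.comp (FibCat.fpSnd f g) (BasedFunctor.comp g t))
    (he : ∀ x, e.hom.toNatTrans.app x = t.map x.obj.iso.hom)
    (ht : AlgSt.RepByAlgSpWith P (FibCat.diag t)) :
    AlgSt.RepByAlgSpWith P (FibCat.fpLift (FibCat.fpFst f g) (FibCat.fpSnd f g) e) :=
  (repByAlgSpWith_congr P (fpLiftCanonIso f g t e he)).1 (repByAlgSpWith_canon P f g t ht)

end Groth.Agent.Helper2.AlgStLib
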