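import Mathlib
import Groth.Prelude.Def_AlgSt3
import Groth.Agent.Lib.Helper2.AlgSt.ImmFacts
import Groth.Agent.Lib.Helper2.AlgSt.CompEt
import Groth.Agent.Lib.Helper2.AlgSp.ImmDescent

/-!
# Composition of immersions and closed immersions of categories over `(Sch/S)` (helper2)
-/

set_option autoImplicit false
open CategoryTheory CategoryTheory.Functor CategoryTheory.Limits AlgebraicGeometry Opposite

universe u

namespace Groth.Agent.Helper2.AlgStLib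

open Groth.Agent.Helper2 Groth.Agent.Helper2.FibCatLib Groth.Agent.Helper2.StkLib
open Groth.Agent.Helper2.AlgSpBasic Groth.Agent.Helper2.EtaleLocal

variable {S : Scheme.{u}} {𝒳 𝒴 𝒵 : BasedCategory.{u, u + 1} (Over S)}

theorem atlasLocal_repWith_isClosedImmersion :
    AtlasLocal (S := S) (AlgSp.RepWith @IsClosedImmersion) := by
  intro G hG V p hpe hps F a₀ hF X₁ snd fst hX₁ sq hPsnd
  exact ImmDescent.repWith_isClosedImmersion_of_etale_cover a₀ V p hpe hps fst snd sq hPsnd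

theorem atlasLocal_repWith_isImmersion :
    AtlasLocal (S := S) (AlgSp.RepWith @IsImmersion) := by
  intro G hG V p hpe hps F a₀ hF X₁ snd fst hX₁ sq hPsnd
  exact ImmDescent.repWith_isImmersion_of_etale_cover hG a₀ V p hpe hps fst snd sq hPsnd

theorem isClosedImm_comp (h𝒳 : FibCat.IsFibGrpd 𝒳.p) (h𝒴 : FibCat.IsFibGrpd 𝒴.p) (f : 𝒳 ⥤ᵇ 𝒴)
    (g : 𝒴 ⥤ᵇ 𝒵) (hf : AlgSt.IsClosedImm f) (hg : AlgSt.IsClosedImm g) :
    AlgSt.IsClosedImm (BasedFunctor.comp f g) :=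
  repByAlgSpWith_comp' h𝒳 h𝒴 _ (stableBC_repWith _) (stableComp_repWith _)
    atlasLocal_repWith_isClosedImmersion f g hf hg

theorem isImm_comp (h𝒳 : FibCat.IsFibGrpd 𝒳.p) (h𝒴 : FibCat.IsFibGrpd 𝒴.p) (f : 𝒳 ⥤ᵇ 𝒴)
    (g : 𝒴 ⥤ᵇ 𝒵) (hf : AlgSt.IsImm f) (hg : AlgSt.IsImm g) :
    AlgSt.IsImm (BasedFunctor.comp f g) :=
  repByAlgSpWith_comp' h𝒳 h𝒴 _ (stableBC_repWith _) (stableComp_repWith _)
    atlasLocal_repWith_isImmersion f g hf hg

end Groth.Agent.Helper2.AlgStLib
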