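import Mathlib
import Groth.Prelude.Def_AlgSt4
import Groth.Agent.Lib.Helper2.AlgSt.Inertia
import Groth.Agent.Lib.Helper2.AlgSt.LocalBase
import Groth.Agent.Lib.Helper2.AlgSt.FppfLift
import Groth.Agent.Lib.Helper2.AlgSt.DiagCover
import Groth.Agent.Lib.Helper2.AlgSt.SepDiag
import Groth.Agent.Lib.Helper2.AlgSp.ProperQf
import Groth.Agent.Lib.Helper2.FibCat.OverFun

/-!
# The relative inertia is locally quasi-finite iff the functor is quasi-DM (helper2)
-/

set_option backward.isDefEq.respectTransparency.types false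
set_option autoImplicit false
set_option synthInstance.maxHeartbeats 400000
set_option maxHeartbeats 4000000
set_option linter.style.haveILetI false
set_option linter.unusedSectionVars false
set_option linter.unusedVariables false
set_option linter.unusedSimpArgs false
set_option linter.unnecessarySimpa false

open CategoryTheory CategoryTheory.Functor CategoryTheory.Limits AlgebraicGeometry Opposite

universe u

namespace Groth.Agent.Helper2.AlgStLib.InertiaLqf

open Groth.Agent.Helper2 Groth.Agent.Helper2.FibCatLib Groth.Agent.Helper2.StkLib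
open Groth.Agent.Helper2.AlgSpBasic Groth.Agent.Helper2.EtaleLocal
open Groth.Agent.Helper2.AlgStLib Groth.Agent.Helper2.AlgStLib.SepDiag

variable {S : Scheme.{u}} {𝒳 𝒵 : BasedCategory.{u, u + 1} (Over S)}

/-- A functor representable by algebraic spaces and locally of finite type whose base change
along itself is locally quasi-finite is locally quasi-finite. -/
theorem repByAlgSpWith_lqf_of_fpFst_self (g : 𝒳 ⥤ᵇ 𝒵) (hg : AlgSt.RepByAlgSp1 g)
    (hl : AlgSt.RepByAlgSpWith (AlgSp.LocP @LocallyOfFiniteType) g)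
    (h : AlgSt.RepByAlgSpWith (AlgSp.LocP (@LocallyQuasiFinite ⊓ @LocallyOfFiniteType))
      (FibCat.fpFst g g)) :
    AlgSt.RepByAlgSpWith (AlgSp.LocP (@LocallyQuasiFinite ⊓ @LocallyOfFiniteType)) g := by
  have hPiso : RespectsIsoSp (S := S)
      (AlgSp.LocP (@LocallyQuasiFinite ⊓ @LocallyOfFiniteType)) :=
    respectsIsoSp_of_stableBC (stableBC_locP _)
  have hLiso : RespectsIsoSp (S := S) (AlgSp.LocP @LocallyOfFiniteType) :=
    respectsIsoSp_of_stableBC (stableBC_locP _)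
  rw [repByAlgSpWith_iff_forall _ hLiso g hg] at hl
  refine (repByAlgSpWith_iff_forall _ hPiso g hg).2 (fun T t F e he => ?_)
  obtain ⟨q, hq⟩ : ∃ q : F.obj ⟶ (AlgSp.yon S).obj T,
      q = AlgSt.spMapOfOver (BasedFunctor.comp e (FibCat.fpFst t g)) := ⟨_, rfl⟩
  have hlft : AlgSp.LocP @LocallyOfFiniteType q := by
    rw [hq]
    exact hl T t F e he
  have hT : AlgSp.IsAlgSpace ((AlgSp.yon S).obj T) := AlgSp.IsAlgSpace.yon_obj T
  rw [← hq]
  refine Groth.Agent.Helper2.ProperQf.locP_lqf_of_forall_hasAtMor F.property hT q hlft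
    (fun z => ?_)
  obtain ⟨p, rfl⟩ := AlgSp.Points.mk_surjective z
  -- the functor from the point
  obtain ⟨A, hA⟩ : ∃ A : FibCat.overCat p.pt ⥤ᵇ FibCat.fp t g,
      A = BasedFunctor.comp (AlgSt.ofOverCat p.pt)
        (BasedFunctor.comp (AlgSt.ofSpMap p.toHom) e) := ⟨_, rfl⟩
  obtain ⟨Φ, hΦ⟩ : ∃ Φ : FibCat.overCat p.pt ⥤ᵇ FibCat.overCat T,
      Φ = BasedFunctor.comp A (FibCat.fpFst t g) := ⟨_, rfl⟩
  obtain ⟨θ⟩ := OverFun.nonempty_iso_overMapBased Φ
  obtain ⟨τ, hτdef⟩ : ∃ τ : p.pt ⟶ T, τ = OverFun.classify Φ := ⟨_, rfl⟩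
  have θ' : Φ ≅ AlgSt.overMap τ := by
    rw [hτdef]
    exact θ
  have hτ : (AlgSp.yon S).map τ = p.toHom ≫ q := by
    rw [← spMapOfOver_toOverCat_overMap τ,
      spMapOfOver_congr (BasedCategory.whiskerLeft (AlgSt.toOverCat p.pt) θ'.inv), hΦ, hA]
    have e1 : BasedFunctor.comp (AlgSt.toOverCat p.pt)
        (BasedFunctor.comp (BasedFunctor.comp (AlgSt.ofOverCat p.pt)
          (BasedFunctor.comp (AlgSt.ofSpMap p.toHom) e)) (FibCat.fpFst t g)) =
        BasedFunctor.comp (BasedFunctor.comp (AlgSt.toOverCat p.pt) (AlgSt.ofOverCat p.pt))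
          (BasedFunctor.comp (AlgSt.ofSpMap p.toHom)
            (BasedFunctor.comp e (FibCat.fpFst t g))) := rfl
    rw [e1, spMapOfOver_congr (BasedCategory.whiskerRight (toOfIso p.pt).hom
      (BasedFunctor.comp (AlgSt.ofSpMap p.toHom) (BasedFunctor.comp e (FibCat.fpFst t g)))), hq]
    exact spMapOfOver_ofSpMap_comp p.toHom (BasedFunctor.comp e (FibCat.fpFst t g))
  obtain ⟨X, toF, toV, sq⟩ : ∃ (X : AlgSp.Sp S) (toF : X ⟶ F.obj)
      (toV : X ⟶ (AlgSp.yon S).obj p.pt), IsPullback toF toV q ((AlgSp.yon S).map τ) :=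
    ⟨_, _, _, IsPullback.of_hasPullback _ _⟩
  have hk : AlgSp.IsAlgSpace ((AlgSp.yon S).obj p.pt) := AlgSp.IsAlgSpace.yon_obj _
  have hX : AlgSp.IsAlgSpace X :=
    isAlgSpace_of_isPullback hT.diag F.property hk q _ toF toV sq
  -- the projection to the point is locally quasi-finite
  have hPtoV : AlgSp.LocP (@LocallyQuasiFinite ⊓ @LocallyOfFiniteType) toV := by
    have sq' : IsPullback toF toV
        (AlgSt.spMapOfOver (BasedFunctor.comp e (FibCat.fpFst t g)))
        ((AlgSp.yon S).map τ) := by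
      rw [← hq]
      exact sq
    obtain ⟨E, hE, hEfst⟩ := exists_equiv_fp_overMap (FibCat.fpFst t g) e he τ toF toV sq'
    obtain ⟨xK, hxK⟩ : ∃ xK : FibCat.overCat p.pt ⥤ᵇ 𝒳,
        xK = BasedFunctor.comp A (FibCat.fpSnd t g) := ⟨_, rfl⟩
    have i1 : BasedFunctor.comp (AlgSt.overMap τ) t ≅ BasedFunctor.comp Φ t :=
      (postF _ t).mapIso θ'.symm
    have i2 : BasedFunctor.comp Φ t ≅ BasedFunctor.comp xK g := by
      rw [hΦ, hxK]
      exact whiskerLeftIso A (FibCat.fpIso t g)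
    have R3 := h p.pt xK
    have R2 := (repOver_iff_of_equiv _ (FibCat.fpFst xK (FibCat.fpFst g g))
      (FibCat.fpFst (BasedFunctor.comp xK g) g) (Paste.pasteB xK g g)
      (Paste.pasteB_isEquivOver xK g g) (Iso.refl _)).1 R3
    obtain ⟨Φ₁, hΦ₁, hΦ₁fst, -⟩ := exists_equiv_fp_left
      (BasedFunctor.comp (AlgSt.overMap τ) t) (BasedFunctor.comp xK g) g
      (BasedFunctor.id (FibCat.overCat p.pt)) ReprInv.isEquivOver_id (i1 ≪≫ i2)
    have R1 := (repOver_iff_of_equiv _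
      (FibCat.fpFst (BasedFunctor.comp (AlgSt.overMap τ) t) g)
      (FibCat.fpFst (BasedFunctor.comp xK g) g) Φ₁ hΦ₁ (eqToIso hΦ₁fst)).2 R2
    have R0 := (repOver_iff_of_equiv _
      (FibCat.fpFst (AlgSt.overMap τ) (FibCat.fpFst t g))
      (FibCat.fpFst (BasedFunctor.comp (AlgSt.overMap τ) t) g)
      (Paste.pasteB (AlgSt.overMap τ) t g) (Paste.pasteB_isEquivOver _ _ _) (Iso.refl _)).2 R1
    have hfin := (repOver_iff_of_rep' _ hPiso
      (FibCat.fpFst (AlgSt.overMap τ) (FibCat.fpFst t g)) ⟨X, hX⟩ E hE).1 R0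
    rw [hEfst] at hfin
    exact hfin
  obtain ⟨σ, hσ1, hσ2⟩ : ∃ σ : (AlgSp.yon S).obj p.pt ⟶ X, σ ≫ toF = p.toHom ∧
      σ ≫ toV = 𝟙 _ :=
    ⟨sq.lift p.toHom (𝟙 _) (by rw [Category.id_comp]; exact hτ.symm),
      sq.lift_fst _ _ _, sq.lift_snd _ _ _⟩
  have hx' := Groth.Agent.Helper2.ProperQf.hasAtMor_of_locP_lqf hX hk toV hPtoV
    (AlgSp.Points.ofPt σ (IsLocalRing.closedPoint p.K))
  rw [Groth.Agent.Helper2.QfAtBCSp.hasAtMor_qf_bc_iff F.property hT hX hk q _ toF toV sq hlft,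
    AlgSp.Points.map_ofPt, hσ1] at hx'
  rw [← AlgSp.Points.ofPt_toHom p (IsLocalRing.closedPoint p.K)]
  exact hx'

variable {𝒴 : BasedCategory.{u, u + 1} (Over S)}

/-- The relative inertia is locally quasi-finite exactly when the functor is quasi-DM. -/
theorem main (h𝒳 : AlgSt.IsAlgStack Scheme.fppfPrecoverage 𝒳)
    (h𝒴 : AlgSt.IsAlgStack Scheme.fppfPrecoverage 𝒴) (f : 𝒳 ⥤ᵇ 𝒴) :
    AlgSt.RepByAlgSpWith (AlgSp.LocP (@LocallyQuasiFinite ⊓ @LocallyOfFiniteType))
      (FibCat.inertiaToBase f) ↔ AlgSt.IsQuasiDMMor f := by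
  constructor
  · intro h
    have hΔ : AlgSt.RepByAlgSp1 (FibCat.diag f) := repByAlgSp1_diag_of_diag f h𝒳.diag h𝒴.diag
    exact repByAlgSpWith_lqf_of_fpFst_self (FibCat.diag f) hΔ (repByAlgSpWith_lft_diag h𝒳 h𝒴 f)
      ((repByAlgSpWith_inertiaToBase_iff _ f).1 h)
  · intro h
    exact repByAlgSpWith_inertiaToBase_of_diag _ f h

end Groth.Agent.Helper2.AlgStLib.InertiaLqf
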