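import Mathlib
import Groth.Prelude.Def_AlgSt4
import Groth.Agent.Lib.Helper2.AlgSt.Inertia
import Groth.Agent.Lib.Helper2.AlgSt.RepDiag
import Groth.Agent.Lib.Helper2.AlgSt.RepDiagApps
import Groth.Agent.Lib.Helper2.AlgSt.RepDiagApps2
import Groth.Agent.Lib.Helper2.AlgSt.RepDiagApps3

/-!
# Locally separated morphisms have immersive diagonal (helper2)
-/

set_option autoImplicit false
set_option synthInstance.maxHeartbeats 400000
set_option maxHeartbeats 4000000
set_option linter.style.haveILetI false
set_option linter.unusedSectionVars false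
set_option linter.unusedVariables false
set_option linter.unusedSimpArgs false
set_option linter.unnecessarySimpa false

open CategoryTheory CategoryTheory.Functor CategoryTheory.Limits AlgebraicGeometry Opposite

universe u

namespace Groth.Agent.Helper2.AlgStLib.LocSepDiag

open Groth.Agent.Helper2 Groth.Agent.Helper2.FibCatLib Groth.Agent.Helper2.StkLib
open Groth.Agent.Helper2.AlgSpBasic Groth.Agent.Helper2.EtaleLocal
open Groth.Agent.Helper2.AlgStLib

variable {S : Scheme.{u}} {𝒳 𝒴 : BasedCategory.{u, u + 1} (Over S)}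

/-- If all base changes of `g` to schemes have diagonal with the scheme property `Q`, the diagonal
of `g` has `Q`. -/
theorem repByAlgSpWith_repWith_diag (Q : MorphismProperty Scheme.{u}) (g : 𝒳 ⥤ᵇ 𝒴)
    (h : AlgSt.RepByAlgSpWith (fun _ _ a => AlgSp.RepWith Q (pullback.diagonal a)) g) :
    AlgSt.RepByAlgSpWith (AlgSp.RepWith Q) (FibCat.diag g) := by
  rw [repByAlgSpWith_diag_iff_forall_fpFst]
  intro T y
  obtain ⟨F, e, he, hP⟩ := h T y
  exact (repByAlgSpWith_diag_iff_of_rep _ (respectsIsoSp_of_stableBC (stableBC_repWith Q))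
    (FibCat.fpFst y g) F e he).2
    (repBySpWith_repWith_diagonal Q F.property (AlgSp.IsAlgSpace.yon_obj T).diag _ hP)

theorem isImm_diag_of_locallySeparated (g : 𝒳 ⥤ᵇ 𝒴)
    (h : AlgSt.RepByAlgSpWith AlgSp.IsLocallySeparatedMor g) : AlgSt.IsImm (FibCat.diag g) :=
  repByAlgSpWith_repWith_diag @IsImmersion g h

theorem isImm_inertiaNeutral_of_locallySeparated (f : 𝒳 ⥤ᵇ 𝒴) :
    (AlgSt.RepByAlgSpWith AlgSp.IsLocallySeparatedMor (FibCat.inertiaToBase f) →
        AlgSt.IsImm (FibCat.inertiaNeutral f)) ∧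
      (AlgSt.RepByAlgSpWith AlgSp.IsLocallySeparatedMor (FibCat.diag f) →
        AlgSt.IsImm (FibCat.inertiaNeutral f)) := by
  constructor
  · intro h
    exact repByAlgSpWith_inertiaNeutral_of_diag _ f (isImm_diag_of_locallySeparated _ h)
  · intro h
    exact (repByAlgSpWith_inertiaNeutral_iff _ f).2 (isImm_diag_of_locallySeparated _ h)

end Groth.Agent.Helper2.AlgStLib.LocSepDiag
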