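import Mathlib
import Groth.Prelude.Def_AlgSt2
import Groth.Agent.Lib.Helper2.AlgSt.CompEt
import Groth.Agent.Lib.Helper2.AlgSt.CancelP
import Groth.Agent.Lib.Helper2.AlgSt.DiagDescent

/-!
# Testing properties of representable functors on algebraic spaces (helper2)
-/

set_option autoImplicit false
open CategoryTheory CategoryTheory.Functor CategoryTheory.Limits AlgebraicGeometry Opposite

universe u

namespace Groth.Agent.Helper2.AlgStLib

open Groth.Agent.Helper2 Groth.Agent.Helper2.FibCatLib Groth.Agent.Helper2.StkLib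
open Groth.Agent.Helper2.AlgSpBasic Groth.Agent.Helper2.EtaleLocal

variable {S : Scheme.{u}} {𝒳 𝒴 : BasedCategory.{u, u + 1} (Over S)}

/-- The base change of a functor with `P` to an algebraic space is given by a map of algebraic
spaces with `P`. -/
theorem exists_space_test (h𝒳 : FibCat.IsFibGrpd 𝒳.p) (h𝒴 : FibCat.IsFibGrpd 𝒴.p)
    (P : MorphismProperty (AlgSp.Sp S)) (hPb : StableBC P) (hP : AtlasLocal P) (f : 𝒳 ⥤ᵇ 𝒴)
    (hf : AlgSt.RepByAlgSpWith P f) (Z : AlgSp.Space S) (z : AlgSt.ofSp Z.obj ⥤ᵇ 𝒴) :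
    ∃ (V : AlgSp.Space S) (a : V ⟶ Z) (e : AlgSt.ofSp V.obj ⥤ᵇ FibCat.fp z f),
      FibCat.IsEquivOver e ∧
        Nonempty (BasedFunctor.comp e (FibCat.fpFst z f) ≅ AlgSt.ofSpMap a.hom) ∧ P a.hom := by
  obtain ⟨F, e, he, hPF⟩ := exists_rep_fp_of_space' h𝒳 h𝒴 P hPb hP f hf Z z
  obtain ⟨θ⟩ := ofPshMap_mapOfFunctor_iso (BasedFunctor.comp e (FibCat.fpFst z f))
  exact ⟨F, ObjectProperty.homMk (ObjectProperty.homMk
    (mapOfFunctor (BasedFunctor.comp e (FibCat.fpFst z f)))), e, he, ⟨θ.symm⟩, hPF⟩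

/-- Conversely, a functor whose base change to an algebraic space is given by a map with `P` has
a base change with `P`. -/
theorem repByAlgSpWith_fpFst_of_space_test (P : MorphismProperty (AlgSp.Sp S)) (hPb : StableBC P)
    (f : 𝒳 ⥤ᵇ 𝒴) (Z : AlgSp.Space S) (z : AlgSt.ofSp Z.obj ⥤ᵇ 𝒴)
    (V : AlgSp.Space S) (a : V ⟶ Z) (e : AlgSt.ofSp V.obj ⥤ᵇ FibCat.fp z f)
    (he : FibCat.IsEquivOver e)
    (θ : BasedFunctor.comp e (FibCat.fpFst z f) ≅ AlgSt.ofSpMap a.hom) (ha : P a.hom) :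
    AlgSt.RepByAlgSpWith P (FibCat.fpFst z f) := by
  have h1 : AlgSt.RepByAlgSpWith P (AlgSt.ofSpMap a.hom) :=
    repByAlgSpWith_ofSpMap_of_prop P hPb V.property Z.property a.hom ha
  exact (repByAlgSpWith_of_square P (FibCat.fpFst z f) (AlgSt.ofSpMap a.hom) e
    (BasedFunctor.id _) he ReprInv.isEquivOver_id θ.symm).2 h1

/-- A property of a representable functor can be tested on algebraic spaces. -/
theorem repByAlgSpWith_of_forall_space_test (P : MorphismProperty (AlgSp.Sp S)) (hPb : StableBC P)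
    (f : 𝒳 ⥤ᵇ 𝒴)
    (h : ∀ (Z : AlgSp.Space S) (z : AlgSt.ofSp Z.obj ⥤ᵇ 𝒴),
      ∃ (V : AlgSp.Space S) (a : V ⟶ Z) (e : AlgSt.ofSp V.obj ⥤ᵇ FibCat.fp z f),
        FibCat.IsEquivOver e ∧
          Nonempty (BasedFunctor.comp e (FibCat.fpFst z f) ≅ AlgSt.ofSpMap a.hom) ∧ P a.hom) :
    AlgSt.RepByAlgSpWith P f := by
  intro U y
  let Z : AlgSp.Space S := ⟨(AlgSp.yon S).obj U, AlgSp.IsAlgSpace.yon_obj U⟩
  let z : AlgSt.ofSp Z.obj ⥤ᵇ 𝒴 := BasedFunctor.comp (AlgSt.toOverCat U) y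
  obtain ⟨V, a, e, he, ⟨θ⟩, ha⟩ := h Z z
  have h1 := repByAlgSpWith_fpFst_of_space_test P hPb f Z z V a e he θ ha
  have h2 := h1 U (AlgSt.ofOverCat U)
  have h3 := (repOver_iff_of_equiv P
    (FibCat.fpFst (AlgSt.ofOverCat U) (FibCat.fpFst z f))
    (FibCat.fpFst (BasedFunctor.comp (AlgSt.ofOverCat U) z) f)
    (Paste.pasteB (AlgSt.ofOverCat U) z f)
    (Paste.pasteB_isEquivOver (AlgSt.ofOverCat U) z f) (Iso.refl _)).1 h2
  let θ' : BasedFunctor.comp (AlgSt.ofOverCat U) z ≅ y :=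
    (postF _ y).mapIso (ofToIso U)
  obtain ⟨Φ, hΦ, hΦfst⟩ := exists_equiv_fp_congr_fst (BasedFunctor.comp (AlgSt.ofOverCat U) z) y f θ'
  exact (repOver_iff_of_equiv P (FibCat.fpFst (BasedFunctor.comp (AlgSt.ofOverCat U) z) f)
    (FibCat.fpFst y f) Φ hΦ (eqToIso hΦfst)).1 h3

end Groth.Agent.Helper2.AlgStLib
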