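import Mathlib
import Groth.Prelude.Def_AlgSt4
import Groth.Agent.Lib.Helper2.AlgSt.FaithfulCrit
import Groth.Agent.Lib.Helper2.AlgSt.DiagDescent
import Groth.Agent.Lib.Helper2.AlgSt.RepDiagApps
import Groth.Agent.Lib.Helper2.AlgSt.SpaceTest
import Groth.Agent.Lib.Helper2.AlgSt.CompRep
import Groth.Agent.Lib.Helper2.AlgSt.PFacts
import Groth.Agent.Lib.Helper2.AlgSp.Mono
import Groth.Agent.Lib.Helper2.AlgSt.Space

/-!
# Representability and monomorphisms of algebraic stacks, checked on a flat cover (helper2)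
-/

set_option autoImplicit false
set_option synthInstance.maxHeartbeats 400000
set_option maxHeartbeats 4000000
set_option linter.style.haveILetI false
set_option linter.unusedSectionVars false
set_option linter.unusedVariables false
set_option linter.unusedSimpArgs false
set_option linter.unnecessarySimpa false

open CategoryTheory CategoryTheory.Functor CategoryTheory.Limits AlgebraicGeometry Opposite

universe u

namespace Groth.Agent.Helper2.AlgStLib.MonoCover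

open Groth.Agent.Helper2 Groth.Agent.Helper2.FibCatLib Groth.Agent.Helper2.StkLib
open Groth.Agent.Helper2.AlgSpBasic Groth.Agent.Helper2.EtaleLocal
open Groth.Agent.Helper2.AlgStLib

variable {S : Scheme.{u}} {𝒳 𝒴 : BasedCategory.{u, u + 1} (Over S)}

theorem isLocalOnBase_fppf_mono :
    AlgSp.IsLocalOnBase (AlgSp.IsFppfCover (S := S))
      (MorphismProperty.monomorphisms (AlgSp.Sp S)) :=
  isLocalOnBase_fppf_of_fpqc isLocalOnBase_fpqc_mono

/-- Representability by algebraic spaces can be checked after base change along an fppf cover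
of the target by an algebraic space. -/
theorem repByAlgSp1_of_fp_flat_cover (h𝒳 : AlgSt.IsAlgStack Scheme.fppfPrecoverage 𝒳)
    (h𝒴 : AlgSt.IsAlgStack Scheme.fppfPrecoverage 𝒴) (f : 𝒳 ⥤ᵇ 𝒴) (W : AlgSp.Space S)
    (w : AlgSt.ofSp W.obj ⥤ᵇ 𝒴) (hw₁ : AlgSt.RepByAlgSpWith (AlgSp.LocP @Flat) w)
    (hw₂ : AlgSt.RepByAlgSpWith (AlgSp.LocP @LocallyOfFinitePresentation) w)
    (hw₃ : AlgSt.RepByAlgSpWith AlgSp.IsSurjectiveMor w)
    (h : AlgSt.RepByAlgSp (FibCat.fp w f)) : AlgSt.RepByAlgSp1 f := by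
  have hΔ : AlgSt.RepByAlgSp1 (FibCat.diag f) := repByAlgSp1_diag_of_diag f h𝒳.diag h𝒴.diag
  have h' : AlgSt.IsMono (FibCat.diag (FibCat.fpFst w f)) :=
    isMono_diag (FibCat.fpFst w f)
      (repByAlgSp1_of_repByAlgSp h (repByAlgSp_ofSp W) (FibCat.fpFst w f))
  have hm : AlgSt.IsMono (FibCat.diag f) :=
    repByAlgSpWith_diag_of_fpFst_fppf_cover h𝒳.isStack.1 h𝒴.isStack.1
      (Stk.isFibGrpd_ofPsh W.obj.obj) _ stableBC_mono isLocalOnBase_fppf_mono f hΔ w hw₁ hw₂ hw₃ h'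
  exact (FaithfulCrit.repByAlgSp1_iff_faithful h𝒳 h𝒴 f).2
    (FaithfulCrit.faithful_of_isMono_diag h𝒳 h𝒴 f hm)

/-- Being a monomorphism can be checked after base change along an fppf cover of the target by
an algebraic space. -/
theorem isMono_iff_fp_flat_cover (h𝒳 : AlgSt.IsAlgStack Scheme.fppfPrecoverage 𝒳)
    (h𝒴 : AlgSt.IsAlgStack Scheme.fppfPrecoverage 𝒴) (f : 𝒳 ⥤ᵇ 𝒴) (W : AlgSp.Space S)
    (w : AlgSt.ofSp W.obj ⥤ᵇ 𝒴) (hw₁ : AlgSt.RepByAlgSpWith (AlgSp.LocP @Flat) w)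
    (hw₂ : AlgSt.RepByAlgSpWith (AlgSp.LocP @LocallyOfFinitePresentation) w)
    (hw₃ : AlgSt.RepByAlgSpWith AlgSp.IsSurjectiveMor w) :
    AlgSt.IsMono f ↔
      ∃ (V : AlgSp.Space S) (a : V ⟶ W) (e : AlgSt.ofSp V.obj ⥤ᵇ FibCat.fp w f),
        FibCat.IsEquivOver e ∧
          Nonempty (BasedFunctor.comp e (FibCat.fpFst w f) ≅ AlgSt.ofSpMap a.hom) ∧
            Mono a.hom := by
  constructor
  · intro hf
    obtain ⟨V, e, he, hP⟩ := exists_rep_fp_of_space_bc h𝒳.isStack.1 h𝒴.isStack.1 _ stableBC_mono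
      (ofSchemeBC_of_isLocalOnBase isLocalOnBase_fppf_mono) f hf W w
    obtain ⟨κ⟩ := ofPshMap_mapOfFunctor_iso (BasedFunctor.comp e (FibCat.fpFst w f))
    exact ⟨V, ObjectProperty.homMk (ObjectProperty.homMk
      (mapOfFunctor (BasedFunctor.comp e (FibCat.fpFst w f)))), e, he, ⟨κ.symm⟩, hP⟩
  · rintro ⟨V, a, e, he, ⟨θ⟩, ha⟩
    have hrep : AlgSt.RepByAlgSp (FibCat.fp w f) := ⟨V, e, he⟩
    have hf1 : AlgSt.RepByAlgSp1 f := repByAlgSp1_of_fp_flat_cover h𝒳 h𝒴 f W w hw₁ hw₂ hw₃ hrep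
    have h' : AlgSt.RepByAlgSpWith (MorphismProperty.monomorphisms (AlgSp.Sp S))
        (FibCat.fpFst w f) :=
      repByAlgSpWith_fpFst_of_space_test _ stableBC_mono f W w V a e he θ ha
    exact repByAlgSpWith_of_fpFst_fppf_cover h𝒳.isStack.1 h𝒴.isStack.1
      (Stk.isFibGrpd_ofPsh W.obj.obj) _ stableBC_mono isLocalOnBase_fppf_mono f hf1 w hw₁ hw₂ hw₃ h'

end Groth.Agent.Helper2.AlgStLib.MonoCover
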