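import Mathlib
import Groth.Prelude.Def_AlgSt4
import Groth.Prelude.Def_AlgSpCov
import Groth.Agent.Lib.Helper2.AlgSt.LocQ.Space
import Groth.Agent.Lib.Helper2.AlgSt.LocalBase

/-!
# Properties of schemes local in the smooth topology, on algebraic stacks (helper2)
-/

set_option autoImplicit false
open CategoryTheory CategoryTheory.Functor CategoryTheory.Limits AlgebraicGeometry Opposite

universe u

namespace Groth.Agent.Helper2.AlgStLib.SmLoc

open Groth.Agent.Helper2 Groth.Agent.Helper2.FibCatLib Groth.Agent.Helper2.StkLib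
open Groth.Agent.Helper2.AlgSpBasic Groth.Agent.Helper2.EtaleLocal
open Groth.Agent.Helper2.AlgStLib Groth.Agent.Helper2.AlgStLib.Pts
open Groth.Agent.Helper2.AlgStLib.LocQ

variable {S : Scheme.{u}} {𝒳 : BasedCategory.{u, u + 1} (Over S)}

/-- The hypothesis "`P` is local in the smooth topology". -/
def IsSmLocal (P : Scheme.{u} → Prop) : Prop :=
  ∀ (U : Scheme.{u}) (R : Presieve U), R ∈ Scheme.precoverage @Smooth U →
    (P U ↔ ∀ ⦃V : Scheme.{u}⦄ (g : V ⟶ U), R g → P V)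

/-- The two-member family `{g, 𝟙}`. -/
def X2 (V U : Scheme.{u}) : Bool → Scheme.{u}
  | true => V
  | false => U

def f2 {V U : Scheme.{u}} (g : V ⟶ U) : ∀ b, X2 V U b ⟶ U
  | true => g
  | false => 𝟙 U

theorem IsSmLocal.of_smooth {P : Scheme.{u} → Prop} (hP : IsSmLocal P) {V U : Scheme.{u}}
    (g : V ⟶ U) [Smooth g] (h : P U) : P V := by
  have hmem : Presieve.ofArrows (X2 V U) (f2 g) ∈ Scheme.precoverage @Smooth U := by
    rw [Scheme.ofArrows_mem_precoverage_iff]
    refine ⟨fun x => ⟨false, x, rfl⟩, fun b => ?_⟩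
    cases b
    · change Smooth (𝟙 U)
      infer_instance
    · change Smooth g
      infer_instance
  exact (hP U _ hmem).1 h (f2 g true) (Presieve.ofArrows.mk true)

theorem IsSmLocal.of_smooth_surjective {P : Scheme.{u} → Prop} (hP : IsSmLocal P)
    {V U : Scheme.{u}} (g : V ⟶ U) [Smooth g] [Surjective g] (h : P V) : P U := by
  have hmem : Presieve.singleton g ∈ Scheme.precoverage @Smooth U := by
    rw [Scheme.singleton_mem_precoverage_iff]
    exact ⟨g.surjective, inferInstance⟩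
  refine (hP U _ hmem).2 ?_
  intro V' g' hg'
  cases hg'
  exact h

/-- One smooth surjective chart with `P` gives `P` on all smooth charts. -/
theorem smoothLocally_of_chart (h𝒳 : AlgSt.IsAlgStack Scheme.fppfPrecoverage 𝒳)
    {P : Scheme.{u} → Prop} (hP : IsSmLocal P) {U : Over S} (x : FibCat.overCat U ⥤ᵇ 𝒳)
    (hx1 : Sm x) (hx2 : Sj x) (hU : P U.left) : AlgSt.SmoothLocally P 𝒳 := by
  intro V y hy
  obtain ⟨W, a₁, a₂, -, h1, -, h3, h4⟩ := exists_common_chart h𝒳 x y
  haveI : Smooth a₁.left := h1 hy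
  haveI : Smooth a₂.left := h3 hx1
  haveI : Surjective a₂.left := h4 hx2
  exact hP.of_smooth_surjective a₂.left (hP.of_smooth a₁.left hU)

theorem smoothLocally_iff_exists_chart (h𝒳 : AlgSt.IsAlgStack Scheme.fppfPrecoverage 𝒳)
    {P : Scheme.{u} → Prop} (hP : IsSmLocal P) :
    AlgSt.SmoothLocally P 𝒳 ↔
      ∃ (U : Over S) (x : FibCat.overCat U ⥤ᵇ 𝒳), Sm x ∧ Sj x ∧ P U.left := by
  constructor
  · intro h
    obtain ⟨U, x, hx1, hx2⟩ := h𝒳.atlas
    exact ⟨U, x, hx1, hx2, h U x hx1⟩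
  · rintro ⟨U, x, hx1, hx2, hU⟩
    exact smoothLocally_of_chart h𝒳 hP x hx1 hx2 hU

/-- An étale (surjective) map from a scheme to a sheaf gives a smooth (surjective) chart of the
associated category. -/
theorem sm_ofSecMap_of_etale {F : AlgSp.Sp S} {W : Over S} (p : (AlgSp.yon S).obj W ⟶ F)
    (hpe : AlgSp.RepWith @Etale p) : Sm (ofSecMap p.hom) := by
  apply repByAlgSpWith_ofSecMap_of_representable p hpe.rep
  intro T V g ξ fst sq
  have he : Etale g.left := hpe.property ξ fst g sq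
  have hs : Smooth g.left := inferInstance
  exact locP_of_repWith @Smooth (AlgSp.IsAlgSpace.yon_obj V).diag _
    ((AlgSp.repWith_yon_map_iff @Smooth g).2 hs)

theorem sj_ofSecMap_of_surjective {F : AlgSp.Sp S} {W : Over S} (p : (AlgSp.yon S).obj W ⟶ F)
    (hps : AlgSp.RepWith @Surjective p) : Sj (ofSecMap p.hom) := by
  apply repByAlgSpWith_ofSecMap_of_representable p hps.rep
  intro T V g ξ fst sq
  rw [surjectiveMor_yon_map_iff]
  exact (hps.property ξ fst g sq).surj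

/-- For the sheaf of a scheme, having `P` étale locally is having `P`. -/
theorem etaleLocally_yon_iff {P : Scheme.{u} → Prop} (hP : IsSmLocal P) (V : Over S) :
    AlgSp.EtaleLocally P ((AlgSp.yon S).obj V) ↔ P V.left := by
  constructor
  · rintro ⟨W, q, hqe, hqs, hW⟩
    obtain ⟨g, rfl⟩ := (AlgSp.yon S).map_surjective q
    haveI : Etale g.left := (AlgSp.repWith_yon_map_iff @Etale g).1 hqe
    haveI : Surjective g.left := (AlgSp.repWith_yon_map_iff @Surjective g).1 hqs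
    exact hP.of_smooth_surjective g.left hW
  · intro h
    exact ⟨V, 𝟙 _, repWith_etale_id V, AlgSp.repWith_id @Surjective V, h⟩

/-- `S12855`. -/
theorem smoothLocally_ofSp_iff {P : Scheme.{u} → Prop} (hP : IsSmLocal P) (X : AlgSp.Space S) :
    AlgSt.SmoothLocally P (AlgSt.ofSp X.obj) ↔ AlgSp.EtaleLocally P X.obj := by
  constructor
  · intro h
    obtain ⟨W, p, hpe, hps⟩ := X.property.atlas
    exact ⟨W, p, hpe, hps, h W (ofSecMap p.hom) (sm_ofSecMap_of_etale p hpe)⟩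
  · rintro ⟨W, p, hpe, hps, hW⟩
    exact smoothLocally_of_chart (isAlgStack_ofSp X) hP (ofSecMap p.hom)
      (sm_ofSecMap_of_etale p hpe) (sj_ofSecMap_of_surjective p hps) hW

/-- `S12854`. -/
theorem smoothLocally_ofSch_iff {P : Scheme.{u} → Prop} (hP : IsSmLocal P) (U : Over S) :
    AlgSt.SmoothLocally P (AlgSt.ofSch U) ↔ P U.left :=
  (smoothLocally_ofSp_iff hP ⟨(AlgSp.yon S).obj U, AlgSp.IsAlgSpace.yon_obj U⟩).trans
    (etaleLocally_yon_iff hP U)

/-- `S12853`. -/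
theorem smoothLocally_iff_exists_space_chart (h𝒳 : AlgSt.IsAlgStack Scheme.fppfPrecoverage 𝒳)
    {P : Scheme.{u} → Prop} (hP : IsSmLocal P) :
    AlgSt.SmoothLocally P 𝒳 ↔
      ∃ (U : AlgSp.Space S) (x : AlgSt.ofSp U.obj ⥤ᵇ 𝒳), Sm x ∧ Sj x ∧
        AlgSp.EtaleLocally P U.obj := by
  constructor
  · intro h
    obtain ⟨V, y, hy1, hy2⟩ := h𝒳.atlas
    refine ⟨⟨(AlgSp.yon S).obj V, AlgSp.IsAlgSpace.yon_obj V⟩,
      BasedFunctor.comp (AlgSt.toOverCat V) y,
      (repByAlgSpWith_equiv_comp _ (AlgSt.toOverCat V) (toOverCat_isEquivOver V) y).2 hy1,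
      (repByAlgSpWith_equiv_comp _ (AlgSt.toOverCat V) (toOverCat_isEquivOver V) y).2 hy2,
      (etaleLocally_yon_iff hP V).2 (h V y hy1)⟩
  · rintro ⟨U, x, hx1, hx2, W, p, hpe, hps, hW⟩
    have hW' : FibCat.IsFibGrpd (FibCat.overCat W).p := isFibGrpd_overCat W
    have hU' : FibCat.IsFibGrpd (AlgSt.ofSp U.obj).p := (isAlgStack_ofSp U).isStack.1
    exact smoothLocally_of_chart h𝒳 hP (BasedFunctor.comp (ofSecMap p.hom) x)
      (sm_comp hW' hU' _ _ (sm_ofSecMap_of_etale p hpe) hx1)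
      (sj_comp hW' hU' _ _ (sj_ofSecMap_of_surjective p hps) hx2) hW

/-- `S12852`. -/
theorem smoothLocally_iff_forall_space_chart (h𝒳 : AlgSt.IsAlgStack Scheme.fppfPrecoverage 𝒳)
    {P : Scheme.{u} → Prop} (hP : IsSmLocal P) :
    AlgSt.SmoothLocally P 𝒳 ↔
      ∀ (U : AlgSp.Space S) (x : AlgSt.ofSp U.obj ⥤ᵇ 𝒳), Sm x → AlgSp.EtaleLocally P U.obj := by
  constructor
  · intro h U x hx
    obtain ⟨W, p, hpe, hps⟩ := U.property.atlas
    have hW' : FibCat.IsFibGrpd (FibCat.overCat W).p := isFibGrpd_overCat W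
    have hU' : FibCat.IsFibGrpd (AlgSt.ofSp U.obj).p := (isAlgStack_ofSp U).isStack.1
    exact ⟨W, p, hpe, hps, h W (BasedFunctor.comp (ofSecMap p.hom) x)
      (sm_comp hW' hU' _ _ (sm_ofSecMap_of_etale p hpe) hx)⟩
  · intro h V y hy
    have := h ⟨(AlgSp.yon S).obj V, AlgSp.IsAlgSpace.yon_obj V⟩
      (BasedFunctor.comp (AlgSt.toOverCat V) y)
      ((repByAlgSpWith_equiv_comp _ (AlgSt.toOverCat V) (toOverCat_isEquivOver V) y).2 hy)
    exact (etaleLocally_yon_iff hP V).1 this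

end Groth.Agent.Helper2.AlgStLib.SmLoc
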