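import Mathlib
import Groth.Prelude.Def_StGerb
import Groth.Agent.Lib.Helper2.AlgSt.FieldPt
import Groth.Agent.Lib.Helper2.AlgSt.SmoothLocally
import Groth.Agent.Lib.Helper2.AlgSt.LocQ.Main
import Groth.Agent.Lib.Helper2.AlgSt.Comp
import Groth.Agent.Lib.Helper2.Sch.Reduced
import Groth.Agent.Lib.Helper2.Sch.FlatFieldPt

/-! Reduced algebraic stacks with a single point, and their field points. -/
namespace Groth.Agent.Helper2.AlgStLib.FieldPt
open CategoryTheory CategoryTheory.Functor CategoryTheory.Limits AlgebraicGeometry Opposite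
open Groth.Agent.Helper2 Groth.Agent.Helper2.FibCatLib Groth.Agent.Helper2.StkLib
open Groth.Agent.Helper2.AlgSpBasic Groth.Agent.Helper2.EtaleLocal
open Groth.Agent.Helper2.AlgStLib Groth.Agent.Helper2.AlgStLib.Pts
open Groth.Agent.Helper2.AlgStLib.LocQ Groth.Agent.Helper2.AlgStLib.SmLoc
open Groth.Agent.Helper2.SchLib
universe u

variable {S : Scheme.{u}} {𝒳 𝒴 𝒵 : BasedCategory.{u, u + 1} (Over S)}

/-- Reducedness is local in the smooth topology. -/
theorem isSmLocal_isReduced : IsSmLocal (fun T : Scheme.{u} => IsReduced T) := by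
  intro U R hR
  constructor
  · intro h V g hg
    haveI : IsReduced U := h
    haveI : Smooth g := hR.2 hg
    exact isReduced_of_smooth g
  · intro h
    have hjs := (Presieve.mem_comap_jointlySurjectivePrecoverage_iff Scheme.forget).1 hR.1
    have (y : U) : _root_.IsReduced (U.presheaf.stalk y) := by
      obtain ⟨V, g, hg, x, hx⟩ := hjs y
      have hx' : g x = y := hx
      subst hx'
      haveI : Smooth g := hR.2 hg
      haveI : IsReduced V := h g hg
      exact isReduced_of_injective (g.stalkMap x).hom (stalkMap_injective_of_flat g x)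
    exact isReduced_of_isReduced_stalk U

/-- Reducedness of algebraic stacks descends along flat surjective morphisms. -/
theorem smoothLocally_isReduced_of_flat_of_surjective
    (h𝒳 : AlgSt.IsAlgStack Scheme.fppfPrecoverage 𝒳)
    (h𝒴 : AlgSt.IsAlgStack Scheme.fppfPrecoverage 𝒴) (f : 𝒳 ⥤ᵇ 𝒴)
    (hf₁ : AlgSt.LocQ (AlgSp.LocP @Flat) f) (hf₂ : AlgSt.IsSurjective f)
    (hred : AlgSt.SmoothLocally (fun T => IsReduced T) 𝒳) :
    AlgSt.SmoothLocally (fun T => IsReduced T) 𝒴 := by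
  obtain ⟨V, y, hy1, hy2⟩ := h𝒴.atlas
  have h𝒬 : AlgSt.IsAlgStack Scheme.fppfPrecoverage (FibCat.fp f y) :=
    isAlgStack_fp _ h𝒳 (isAlgStack_overCat V) h𝒴 f y
  obtain ⟨U, c, hc1, hc2⟩ := h𝒬.atlas
  obtain ⟨θ⟩ := nonempty_iso_overMap_classify (BasedFunctor.comp c (FibCat.fpSnd f y))
  have hU : FibCat.IsFibGrpd (FibCat.overCat U).p := isFibGrpd_overCat U
  have hV : FibCat.IsFibGrpd (FibCat.overCat V).p := isFibGrpd_overCat V
  have hk := prop_of_locQ isSmoothLocalST_locP_flat h𝒳 h𝒴 f hf₁ y hy1 c hc1 _ θ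
  rw [locP_yon_map_iff] at hk
  have hks := surjective_of_chart_of_isSurjective h𝒬.isStack.1 c _ _ θ hc2
    (isSurjective_fpSnd h𝒳.isStack.1 h𝒴.isStack.1 hV f _ hf₂)
  haveI : IsReduced U.left := hred U (BasedFunctor.comp c (FibCat.fpFst f y))
    (sm_comp hU h𝒬.isStack.1 _ _ hc1 (repByAlgSpWith_fpFst _ y f hy1))
  haveI : Flat (OverFun.classify (BasedFunctor.comp c (FibCat.fpSnd f y))).left := hk
  have hVred : IsReduced V.left :=
    isReduced_of_flat_of_surjective (OverFun.classify (BasedFunctor.comp c (FibCat.fpSnd f y))).left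
  exact smoothLocally_of_chart h𝒴 isSmLocal_isReduced y hy1 hy2 hVred

/-- The slice over a reduced scheme is a reduced stack. -/
theorem smoothLocally_isReduced_overCat (U : Over S) [IsReduced U.left] :
    AlgSt.SmoothLocally (fun T => IsReduced T) (FibCat.overCat U) := by
  intro T x hx
  obtain ⟨θ⟩ := nonempty_iso_overMap_classify x
  haveI : Smooth (OverFun.classify x).left := smooth_of_iso_overMap θ hx
  exact isReduced_of_smooth (OverFun.classify x).left


section FieldPts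

variable {k : Type u} [Field k] (a : Spec (CommRingCat.of k) ⟶ S)

instance : IsReduced (Over.mk a).left :=
  (inferInstance : IsReduced (Spec (CommRingCat.of k)))

/-- An algebraic stack with a flat surjective field point is reduced. -/
theorem smoothLocally_isReduced_of_fieldPt (h𝒵 : AlgSt.IsAlgStack Scheme.fppfPrecoverage 𝒵)
    (z : FibCat.overCat (Over.mk a) ⥤ᵇ 𝒵)
    (hzs : AlgSt.RepByAlgSpWith AlgSp.IsSurjectiveMor z)
    (hzf : AlgSt.RepByAlgSpWith (AlgSp.LocP @Flat) z) :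
    AlgSt.SmoothLocally (fun T => IsReduced T) 𝒵 := by
  have hK := isAlgStack_overCat (S := S) (Over.mk a)
  exact smoothLocally_isReduced_of_flat_of_surjective hK h𝒵 z
    (locQ_locP_of_repByAlgSpWith @Flat isSmoothLocalST_locP_flat hK h𝒵 z hzf)
    (isSurjective_of_repByAlgSpWith h𝒵.isStack.1 z hzs)
    (smoothLocally_isReduced_overCat (Over.mk a))

/-- A surjective field point forces a single point. -/
theorem subsingleton_points_of_fieldPt (h𝒵 : AlgSt.IsAlgStack Scheme.fppfPrecoverage 𝒵)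
    (z : FibCat.overCat (Over.mk a) ⥤ᵇ 𝒵)
    (hzs : AlgSt.RepByAlgSpWith AlgSp.IsSurjectiveMor z) :
    Subsingleton (AlgSt.Points 𝒵) := by
  have hzsurj : AlgSt.IsSurjective z := isSurjective_of_repByAlgSpWith h𝒵.isStack.1 z hzs
  refine ⟨fun p q => ?_⟩
  obtain ⟨x, rfl⟩ := hzsurj p
  obtain ⟨y, rfl⟩ := hzsurj q
  rw [Subsingleton.elim x y]

theorem nonempty_points_of_fieldPt (z : FibCat.overCat (Over.mk a) ⥤ᵇ 𝒵) :
    Nonempty (AlgSt.Points 𝒵) := by
  obtain ⟨x⟩ := (inferInstance : Nonempty (AlgSt.Points (FibCat.overCat (Over.mk a))))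
  exact ⟨AlgSt.Points.map z x⟩

/-- A field point of a stack with at most one point is surjective. -/
theorem surjective_fieldPt_of_subsingleton (h𝒵 : AlgSt.IsAlgStack Scheme.fppfPrecoverage 𝒵)
    [Subsingleton (AlgSt.Points 𝒵)] (z : FibCat.overCat (Over.mk a) ⥤ᵇ 𝒵) :
    AlgSt.RepByAlgSpWith AlgSp.IsSurjectiveMor z := by
  refine repByAlgSpWith_of_isSurjective (isFibGrpd_overCat _) h𝒵.isStack.1 z
    (repByAlgSp1_chart h𝒵 z) ?_
  intro y
  obtain ⟨x⟩ := (inferInstance : Nonempty (AlgSt.Points (FibCat.overCat (Over.mk a))))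
  exact ⟨x, Subsingleton.elim _ _⟩

end FieldPts

/-- A point of the atlas gives a nonempty atlas. -/
theorem nonempty_of_sj_chart (h𝒵 : AlgSt.IsAlgStack Scheme.fppfPrecoverage 𝒵)
    [Nonempty (AlgSt.Points 𝒵)] {V : Over S} (y : FibCat.overCat V ⥤ᵇ 𝒵) (hy : Sj y) :
    Nonempty ↥V.left := by
  obtain ⟨p⟩ := (inferInstance : Nonempty (AlgSt.Points 𝒵))
  obtain ⟨t, -⟩ := surjective_ofChart h𝒵.isStack.1 y hy p
  exact ⟨t⟩

/-- A reduced algebraic stack with exactly one point has a flat surjective field point. -/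
theorem exists_flat_surjective_fieldPt (h𝒵 : AlgSt.IsAlgStack Scheme.fppfPrecoverage 𝒵)
    (hred : AlgSt.SmoothLocally (fun T => IsReduced T) 𝒵)
    [Nonempty (AlgSt.Points 𝒵)] [Subsingleton (AlgSt.Points 𝒵)] :
    ∃ (k : Type u) (_ : Field k) (a : Spec (CommRingCat.of k) ⟶ S)
      (z : FibCat.overCat (Over.mk a) ⥤ᵇ 𝒵), AlgSt.RepByAlgSpWith AlgSp.IsSurjectiveMor z ∧
        AlgSt.RepByAlgSpWith (AlgSp.LocP @Flat) z := by
  obtain ⟨V, y, hy1, hy2⟩ := h𝒵.atlas
  haveI : IsReduced V.left := hred V y hy1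
  haveI : Nonempty ↥V.left := nonempty_of_sj_chart h𝒵 y hy2
  obtain ⟨k, hk, g, hg⟩ := exists_flat_fieldPt_of_isReduced V.left
  let j : Over.mk (g ≫ V.hom) ⟶ V := Over.homMk g rfl
  refine ⟨k, hk, g ≫ V.hom, BasedFunctor.comp (AlgSt.overMap j) y,
    surjective_fieldPt_of_subsingleton _ h𝒵 _, ?_⟩
  refine repByAlgSpWith_comp (isFibGrpd_overCat _) (isFibGrpd_overCat _) _ (stableBC_locP @Flat)
    (stableComp_locP @Flat) (isLocalOnBase_fppf_locP @Flat) _ _ ?_
    (repByAlgSpWith_flat_of_smooth hy1)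
  refine repByAlgSpWith_overMap_of_prop _ (stableBC_locP @Flat) j ?_
  rw [locP_yon_map_iff]
  exact hg

theorem repByAlgSpWith_lft_of_smooth {f : 𝒳 ⥤ᵇ 𝒴}
    (hf : AlgSt.RepByAlgSpWith (AlgSp.LocP @Smooth) f) :
    AlgSt.RepByAlgSpWith (AlgSp.LocP @LocallyOfFiniteType) f := by
  intro T t
  obtain ⟨G, eG, heG, hG⟩ := hf T t
  exact ⟨G, eG, heG, locP_mono (fun _ _ g (hg : Smooth g) =>
    (inferInstance : LocallyOfFiniteType g)) hG⟩

/-- A nonempty algebraic stack has a field point locally of finite type. -/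
theorem exists_lft_fieldPt_st (h𝒵 : AlgSt.IsAlgStack Scheme.fppfPrecoverage 𝒵)
    [Nonempty (AlgSt.Points 𝒵)] :
    ∃ (k : Type u) (_ : Field k) (a : Spec (CommRingCat.of k) ⟶ S)
      (z : FibCat.overCat (Over.mk a) ⥤ᵇ 𝒵),
        AlgSt.RepByAlgSpWith (AlgSp.LocP @LocallyOfFiniteType) z := by
  obtain ⟨V, y, hy1, hy2⟩ := h𝒵.atlas
  haveI : Nonempty ↥V.left := nonempty_of_sj_chart h𝒵 y hy2
  obtain ⟨k, hk, g, hg⟩ := exists_lft_fieldPt V.left
  let j : Over.mk (g ≫ V.hom) ⟶ V := Over.homMk g rfl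
  refine ⟨k, hk, g ≫ V.hom, BasedFunctor.comp (AlgSt.overMap j) y, ?_⟩
  refine repByAlgSpWith_comp (isFibGrpd_overCat _) (isFibGrpd_overCat _) _
    (stableBC_locP @LocallyOfFiniteType) (stableComp_locP @LocallyOfFiniteType)
    (isLocalOnBase_fppf_locP @LocallyOfFiniteType) _ _ ?_ (repByAlgSpWith_lft_of_smooth hy1)
  refine repByAlgSpWith_overMap_of_prop _ (stableBC_locP @LocallyOfFiniteType) j ?_
  rw [locP_yon_map_iff]
  exact hg

/-- `S16805`. -/
theorem tfae_reduced_singleton (h𝒵 : AlgSt.IsAlgStack Scheme.fppfPrecoverage 𝒵) :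
    [AlgSt.SmoothLocally (fun T => IsReduced T) 𝒵 ∧ Nonempty (AlgSt.Points 𝒵) ∧
        Subsingleton (AlgSt.Points 𝒵),
      ∃ (k : Type u) (_ : Field k) (a : Spec (CommRingCat.of k) ⟶ S)
        (z : FibCat.overCat (Over.mk a) ⥤ᵇ 𝒵), AlgSt.RepByAlgSpWith AlgSp.IsSurjectiveMor z ∧
          AlgSt.RepByAlgSpWith (AlgSp.LocP @Flat) z,
      ∃ (k : Type u) (_ : Field k) (a : Spec (CommRingCat.of k) ⟶ S)
        (z : FibCat.overCat (Over.mk a) ⥤ᵇ 𝒵),
          AlgSt.RepByAlgSpWith (AlgSp.LocP @LocallyOfFiniteType) z ∧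
          AlgSt.RepByAlgSpWith AlgSp.IsSurjectiveMor z ∧
          AlgSt.RepByAlgSpWith (AlgSp.LocP @Flat) z].TFAE := by
  tfae_have 1 → 2 := by
    rintro ⟨hred, hne, hsub⟩
    exact exists_flat_surjective_fieldPt h𝒵 hred
  tfae_have 2 → 3 := by
    rintro ⟨k, hk, a, z, hzs, hzf⟩
    haveI : Nonempty (AlgSt.Points 𝒵) := nonempty_points_of_fieldPt a z
    obtain ⟨k', hk', a', z', hz'⟩ := exists_lft_fieldPt_st h𝒵
    obtain ⟨h1, h2⟩ := flat_surjective_of_fieldPt h𝒵 a z hzs hzf a' z'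
    exact ⟨k', hk', a', z', hz', h1, h2⟩
  tfae_have 3 → 2 := by
    rintro ⟨k, hk, a, z, -, hzs, hzf⟩
    exact ⟨k, hk, a, z, hzs, hzf⟩
  tfae_have 2 → 1 := by
    rintro ⟨k, hk, a, z, hzs, hzf⟩
    exact ⟨smoothLocally_isReduced_of_fieldPt a h𝒵 z hzs hzf, nonempty_points_of_fieldPt a z,
      subsingleton_points_of_fieldPt a h𝒵 z hzs⟩
  tfae_finish

end Groth.Agent.Helper2.AlgStLib.FieldPt
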