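import Mathlib
import Groth.Prelude.Def_StGerb
import Groth.Agent.Lib.Helper2.AlgSt.ReducedPt
import Groth.Agent.Lib.Helper2.Sch.NoethDescent

/-! Reduced locally Noetherian algebraic stacks with a single point, and their field points. -/
namespace Groth.Agent.Helper2.AlgStLib.FieldPt
open CategoryTheory CategoryTheory.Functor CategoryTheory.Limits AlgebraicGeometry Opposite
open Groth.Agent.Helper2 Groth.Agent.Helper2.FibCatLib Groth.Agent.Helper2.StkLib
open Groth.Agent.Helper2.AlgSpBasic Groth.Agent.Helper2.EtaleLocal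
open Groth.Agent.Helper2.AlgStLib Groth.Agent.Helper2.AlgStLib.Pts
open Groth.Agent.Helper2.AlgStLib.LocQ Groth.Agent.Helper2.AlgStLib.SmLoc
open Groth.Agent.Helper2.SchLib
universe u

variable {S : Scheme.{u}} {𝒳 𝒴 𝒵 : BasedCategory.{u, u + 1} (Over S)}

/-- Local Noetherianity of algebraic stacks descends along flat, locally finitely presented,
surjective morphisms. -/
theorem smoothLocally_isLocallyNoetherian_of_fppf_of_surjective
    (h𝒳 : AlgSt.IsAlgStack Scheme.fppfPrecoverage 𝒳)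
    (h𝒴 : AlgSt.IsAlgStack Scheme.fppfPrecoverage 𝒴) (f : 𝒳 ⥤ᵇ 𝒴)
    (hf₁ : AlgSt.LocQ (AlgSp.LocP @Flat) f)
    (hf₃ : AlgSt.LocQ (AlgSp.LocP @LocallyOfFinitePresentation) f)
    (hf₂ : AlgSt.IsSurjective f)
    (hN : AlgSt.SmoothLocally (fun T => IsLocallyNoetherian T) 𝒳) :
    AlgSt.SmoothLocally (fun T => IsLocallyNoetherian T) 𝒴 := by
  intro V y hy1
  have h𝒬 : AlgSt.IsAlgStack Scheme.fppfPrecoverage (FibCat.fp f y) :=
    isAlgStack_fp _ h𝒳 (isAlgStack_overCat V) h𝒴 f y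
  obtain ⟨U, c, hc1, hc2⟩ := h𝒬.atlas
  obtain ⟨θ⟩ := nonempty_iso_overMap_classify (BasedFunctor.comp c (FibCat.fpSnd f y))
  have hU : FibCat.IsFibGrpd (FibCat.overCat U).p := isFibGrpd_overCat U
  have hV : FibCat.IsFibGrpd (FibCat.overCat V).p := isFibGrpd_overCat V
  have hk := prop_of_locQ isSmoothLocalST_locP_flat h𝒳 h𝒴 f hf₁ y hy1 c hc1 _ θ
  rw [locP_yon_map_iff] at hk
  have hk' := prop_of_locQ isSmoothLocalST_locP_lfp h𝒳 h𝒴 f hf₃ y hy1 c hc1 _ θ
  rw [locP_yon_map_iff] at hk'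
  haveI := surjective_of_chart_of_isSurjective h𝒬.isStack.1 c _ _ θ hc2
    (isSurjective_fpSnd h𝒳.isStack.1 h𝒴.isStack.1 hV f _ hf₂)
  haveI : IsLocallyNoetherian U.left := hN U (BasedFunctor.comp c (FibCat.fpFst f y))
    (sm_comp hU h𝒬.isStack.1 _ _ hc1 (repByAlgSpWith_fpFst _ y f hy1))
  haveI : Flat (OverFun.classify (BasedFunctor.comp c (FibCat.fpSnd f y))).left := hk
  haveI : LocallyOfFinitePresentation
    (OverFun.classify (BasedFunctor.comp c (FibCat.fpSnd f y))).left := hk'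
  exact isLocallyNoetherian_of_flat_lfp_surjective
    (OverFun.classify (BasedFunctor.comp c (FibCat.fpSnd f y))).left

/-- The slice over a locally Noetherian scheme is a locally Noetherian stack. -/
theorem smoothLocally_isLocallyNoetherian_overCat (U : Over S) [IsLocallyNoetherian U.left] :
    AlgSt.SmoothLocally (fun T => IsLocallyNoetherian T) (FibCat.overCat U) := by
  intro T x hx
  obtain ⟨θ⟩ := nonempty_iso_overMap_classify x
  haveI : Smooth (OverFun.classify x).left := smooth_of_iso_overMap θ hx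
  exact LocallyOfFiniteType.isLocallyNoetherian (OverFun.classify x).left

theorem repByAlgSpWith_lft_of_lfp {f : 𝒳 ⥤ᵇ 𝒴}
    (hf : AlgSt.RepByAlgSpWith (AlgSp.LocP @LocallyOfFinitePresentation) f) :
    AlgSt.RepByAlgSpWith (AlgSp.LocP @LocallyOfFiniteType) f := by
  intro T t
  obtain ⟨G, eG, heG, hG⟩ := hf T t
  exact ⟨G, eG, heG, locP_mono (fun _ _ g (hg : LocallyOfFinitePresentation g) =>
    (inferInstance : LocallyOfFiniteType g)) hG⟩

section FieldPts

variable {k : Type u} [Field k] (a : Spec (CommRingCat.of k) ⟶ S)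

instance : IsLocallyNoetherian (Over.mk a).left :=
  (inferInstance : IsLocallyNoetherian (Spec (CommRingCat.of k)))

/-- An algebraic stack with a flat, locally finitely presented, surjective field point is
locally Noetherian. -/
theorem smoothLocally_isLocallyNoetherian_of_fieldPt
    (h𝒵 : AlgSt.IsAlgStack Scheme.fppfPrecoverage 𝒵)
    (z : FibCat.overCat (Over.mk a) ⥤ᵇ 𝒵)
    (hzp : AlgSt.RepByAlgSpWith (AlgSp.LocP @LocallyOfFinitePresentation) z)
    (hzs : AlgSt.RepByAlgSpWith AlgSp.IsSurjectiveMor z)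
    (hzf : AlgSt.RepByAlgSpWith (AlgSp.LocP @Flat) z) :
    AlgSt.SmoothLocally (fun T => IsLocallyNoetherian T) 𝒵 := by
  have hK := isAlgStack_overCat (S := S) (Over.mk a)
  exact smoothLocally_isLocallyNoetherian_of_fppf_of_surjective hK h𝒵 z
    (locQ_locP_of_repByAlgSpWith @Flat isSmoothLocalST_locP_flat hK h𝒵 z hzf)
    (locQ_locP_of_repByAlgSpWith @LocallyOfFinitePresentation isSmoothLocalST_locP_lfp hK h𝒵 z hzp)
    (isSurjective_of_repByAlgSpWith h𝒵.isStack.1 z hzs)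
    (smoothLocally_isLocallyNoetherian_overCat (Over.mk a))

/-- Over a locally Noetherian stack, a field point locally of finite type is locally of finite
presentation. -/
theorem repByAlgSpWith_lfp_of_lft_fieldPt (h𝒵 : AlgSt.IsAlgStack Scheme.fppfPrecoverage 𝒵)
    (hN : AlgSt.SmoothLocally (fun T => IsLocallyNoetherian T) 𝒵)
    (z : FibCat.overCat (Over.mk a) ⥤ᵇ 𝒵)
    (hz : AlgSt.RepByAlgSpWith (AlgSp.LocP @LocallyOfFiniteType) z) :
    AlgSt.RepByAlgSpWith (AlgSp.LocP @LocallyOfFinitePresentation) z := by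
  have hK := isAlgStack_overCat (S := S) (Over.mk a)
  have h1 := locQ_locP_of_repByAlgSpWith @LocallyOfFiniteType isSmoothLocalST_locP_lft hK h𝒵 z hz
  have h2 := locQ_lfp_of_lft_of_isLocallyNoetherian hK h𝒵 z hN h1
  exact (locQ_iff_repByAlgSpWith isSmoothLocalST_locP_lfp
    (stableBC_locP @LocallyOfFinitePresentation)
    (isLocalOnBase_fppf_locP @LocallyOfFinitePresentation) hK h𝒵 z (repByAlgSp1_chart h𝒵 z)).1 h2

end FieldPts

/-- `S16806`. -/
theorem reduced_locNoeth_singleton_iff (h𝒵 : AlgSt.IsAlgStack Scheme.fppfPrecoverage 𝒵) :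
    (AlgSt.SmoothLocally (fun T => IsReduced T) 𝒵 ∧
        AlgSt.SmoothLocally (fun T => IsLocallyNoetherian T) 𝒵 ∧
        Nonempty (AlgSt.Points 𝒵) ∧ Subsingleton (AlgSt.Points 𝒵)) ↔
      ∃ (k : Type u) (_ : Field k) (a : Spec (CommRingCat.of k) ⟶ S)
        (z : FibCat.overCat (Over.mk a) ⥤ᵇ 𝒵),
          AlgSt.RepByAlgSpWith (AlgSp.LocP @LocallyOfFinitePresentation) z ∧
          AlgSt.RepByAlgSpWith AlgSp.IsSurjectiveMor z ∧
          AlgSt.RepByAlgSpWith (AlgSp.LocP @Flat) z := by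
  constructor
  · rintro ⟨hred, hN, hne, hsub⟩
    have h02 := (tfae_reduced_singleton h𝒵).out 0 2
    obtain ⟨k, hk, a, z, hz1, hz2, hz3⟩ := h02.1 ⟨hred, hne, hsub⟩
    exact ⟨k, hk, a, z, repByAlgSpWith_lfp_of_lft_fieldPt a h𝒵 hN z hz1, hz2, hz3⟩
  · rintro ⟨k, hk, a, z, hz1, hz2, hz3⟩
    have h10 := (tfae_reduced_singleton h𝒵).out 1 0
    obtain ⟨h1, h2, h3⟩ := h10.1 ⟨k, hk, a, z, hz2, hz3⟩
    exact ⟨h1, smoothLocally_isLocallyNoetherian_of_fieldPt a h𝒵 z hz1 hz2 hz3, h2, h3⟩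

end Groth.Agent.Helper2.AlgStLib.FieldPt
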