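import Mathlib
import Groth.Prelude.Def_StGerb
import Groth.Agent.Lib.Helper2.AlgSt.NoethPt
import Groth.Agent.Lib.Helper2.AlgSp.MonoField
import Groth.Agent.Lib.Helper2.AlgSt.LocQ.Descent2
import Groth.Agent.Lib.Helper2.AlgSt.Substack.EssImage
import Groth.Agent.Lib.Helper2.AlgSt.ImmFacts
import Groth.Agent.Lib.Helper2.Stk.OfPshFun
import Groth.Agent.Lib.Helper2.AlgSt.LocalBase

/-! Monomorphisms into an algebraic stack with an fppf field point. -/
namespace Groth.Agent.Helper2.AlgStLib.FieldPt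
open CategoryTheory CategoryTheory.Functor CategoryTheory.Limits AlgebraicGeometry Opposite
open Groth.Agent.Helper2 Groth.Agent.Helper2.FibCatLib Groth.Agent.Helper2.StkLib
open Groth.Agent.Helper2.AlgSpBasic Groth.Agent.Helper2.EtaleLocal
open Groth.Agent.Helper2.AlgStLib Groth.Agent.Helper2.AlgStLib.Pts
open Groth.Agent.Helper2.AlgStLib.LocQ Groth.Agent.Helper2.AlgStLib.SmLoc
open Groth.Agent.Helper2.AlgStLib.Substack
universe u

variable {S : Scheme.{u}} {𝒳 𝒴 𝒵 : BasedCategory.{u, u + 1} (Over S)}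

theorem stableBC_isomorphisms : StableBC (S := S) (MorphismProperty.isomorphisms (AlgSp.Sp S)) := by
  intro X₁ Y₁ X₂ Y₂ _ _ _ _ a b a' b' sq ha
  have h1 : IsIso a := ha
  exact sq.isIso_snd_of_isIso h1

/-- A functor from a sheaf to a slice whose map of sheaves is an isomorphism is essentially
surjective. -/
theorem essSurj_of_isIso_spMapOfOver {F : AlgSp.Sp S} {U : Over S}
    (Φ : AlgSt.ofSp F ⥤ᵇ FibCat.overCat U) (h : IsIso (AlgSt.spMapOfOver Φ)) :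
    Φ.toFunctor.EssSurj := by
  obtain ⟨θ⟩ := ofSpMap_spMapOfOver_iso Φ
  have h0 : IsIso ((sheafToPresheaf _ _).map (AlgSt.spMapOfOver Φ)) := inferInstance
  have h1 : IsIso (AlgSt.spMapOfOver Φ).hom := h0
  have h2 : FibCat.IsEquivOver (AlgSt.ofSpMap (AlgSt.spMapOfOver Φ)) :=
    isEquivOver_ofPshMap_of_isIso (AlgSt.spMapOfOver Φ).hom
  have h3 : (AlgSt.ofSpMap (AlgSt.spMapOfOver Φ)).toFunctor.IsEquivalence :=
    FibCatLib.isEquivalence_of_isEquivOver h2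
  have h4 : (AlgSt.toOverCat U).toFunctor.IsEquivalence :=
    FibCatLib.isEquivalence_of_isEquivOver (toOverCat_isEquivOver U)
  have h5 : ((AlgSt.ofSpMap (AlgSt.spMapOfOver Φ)).toFunctor ⋙
      (AlgSt.toOverCat U).toFunctor).EssSurj := inferInstance
  let θ' : (AlgSt.ofSpMap (AlgSt.spMapOfOver Φ)).toFunctor ⋙ (AlgSt.toOverCat U).toFunctor ≅
      Φ.toFunctor := (BasedNatTrans.forgetful _ _).mapIso θ
  exact Functor.essSurj_of_iso θ'

/-- A functor representable by isomorphisms of algebraic spaces is essentially surjective. -/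
theorem essIm_of_repByAlgSpWith_isomorphisms (h𝒴 : FibCat.IsFibGrpd 𝒴.p) (f : 𝒳 ⥤ᵇ 𝒴)
    (hf : AlgSt.RepByAlgSpWith (MorphismProperty.isomorphisms (AlgSp.Sp S)) f) (η : 𝒴.obj) :
    EssIm f η := by
  have : 𝒴.p.IsFibered := isFibered_of_isFibGrpd 𝒴.p h𝒴
  have hlies : 𝒴.p.obj η = 𝒴.p.obj η := rfl
  obtain ⟨e₀, -⟩ := yonedaFunctor_obj_id_iso hlies
  obtain ⟨F, e, he, hiso⟩ := hf (𝒴.p.obj η) (yonedaFunctor hlies)
  have hes := essSurj_of_isIso_spMapOfOver _ hiso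
  obtain ⟨s, ⟨ε⟩⟩ := Functor.EssSurj.mem_essImage
    (BasedFunctor.comp e (FibCat.fpFst (yonedaFunctor hlies) f)).toFunctor
    (Over.mk (𝟙 (𝒴.p.obj η)))
  let w : (FibCat.fp (yonedaFunctor hlies) f).obj := e.obj s
  have i1 : (yonedaFunctor hlies).obj w.obj.fst ≅ f.obj w.obj.snd := w.obj.iso
  have i2 : (yonedaFunctor hlies).obj w.obj.fst ≅
      (yonedaFunctor hlies).obj (Over.mk (𝟙 (𝒴.p.obj η))) :=
    (yonedaFunctor hlies).toFunctor.mapIso ε
  exact ⟨w.obj.snd, ⟨i1.symm ≪≫ i2 ≪≫ e₀⟩⟩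


/-- `S16807`. -/
theorem isEmpty_or_isEquivOver_of_mono_of_fieldPt {𝒵' : BasedCategory.{u, u + 1} (Over S)}
    (h𝒵' : AlgSt.IsAlgStack Scheme.fppfPrecoverage 𝒵')
    (h𝒵 : AlgSt.IsAlgStack Scheme.fppfPrecoverage 𝒵) (f : 𝒵' ⥤ᵇ 𝒵) (hf : AlgSt.IsMono f)
    {k : Type u} [Field k] (a : Spec (CommRingCat.of k) ⟶ S)
    (z : FibCat.overCat (Over.mk a) ⥤ᵇ 𝒵)
    (hzp : AlgSt.RepByAlgSpWith (AlgSp.LocP @LocallyOfFinitePresentation) z)
    (hzs : AlgSt.RepByAlgSpWith AlgSp.IsSurjectiveMor z)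
    (hzf : AlgSt.RepByAlgSpWith (AlgSp.LocP @Flat) z) :
    IsEmpty (AlgSt.Points 𝒵') ∨ FibCat.IsEquivOver f := by
  have hK := isAlgStack_overCat (S := S) (Over.mk a)
  obtain ⟨F, e, he, hmono⟩ := hf (Over.mk a) z
  haveI : Mono (AlgSt.spMapOfOver (BasedFunctor.comp e (FibCat.fpFst z f))) := hmono
  rcases isEmpty_or_isIso_of_mono_to_field F.property a
    (AlgSt.spMapOfOver (BasedFunctor.comp e (FibCat.fpFst z f))) with h | h
  · left
    refine ⟨fun p' => ?_⟩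
    obtain ⟨x, hx⟩ := isSurjective_of_repByAlgSpWith h𝒵.isStack.1 z hzs (AlgSt.Points.map f p')
    obtain ⟨w, -, -⟩ := exists_points_fp_of_map_eq h𝒵'.isStack.1 h𝒵.isStack.1 hK.isStack.1 f z
      x p' hx
    obtain ⟨s, -⟩ := isSurjective_of_isEquivOver e he w
    obtain ⟨t, -⟩ := spPt_surjective (F := F.obj) s
    exact h.false t
  · right
    have h1 : AlgSt.RepByAlgSpWith (MorphismProperty.isomorphisms (AlgSp.Sp S))
        (FibCat.fpFst z f) :=
      repByAlgSpWith_of_repOver _ stableBC_isomorphisms _ ⟨F, e, he, h⟩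
    have h2 : AlgSt.RepByAlgSpWith (MorphismProperty.isomorphisms (AlgSp.Sp S)) f :=
      repByAlgSpWith_of_fppf_chart _ stableBC_isomorphisms
        (isLocalOnBase_fppf_of_fpqc isLocalOnBase_fpqc_isomorphisms) h𝒵.isStack.1 f
        (repByAlgSp1_of_repByAlgSpWith f hf) z hzf hzp hzs h1
    obtain ⟨hfull, hfaith⟩ := Groth.Agent.S12774.result h𝒵'.isStack.1 h𝒵.isStack.1 f hf
    apply isEquivOver_of_fullyFaithful_of_exists_iso
    intro η
    exact exists_iso_over_id_of_essIm h𝒵'.isStack.1 f η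
      (essIm_of_repByAlgSpWith_isomorphisms h𝒵.isStack.1 f h2 η)

end Groth.Agent.Helper2.AlgStLib.FieldPt
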