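import Mathlib
import Groth.Prelude.Def_AlgSt3
import Groth.Agent.Lib.Helper2.AlgSt.FpAlg

/-!
# The product of two functors over the base (helper2)
-/

set_option autoImplicit false
open CategoryTheory CategoryTheory.Functor CategoryTheory.Limits AlgebraicGeometry Opposite

universe u

namespace Groth.Agent.Helper2.AlgStLib

open Groth.Agent.Helper2 Groth.Agent.Helper2.FibCatLib Groth.Agent.Helper2.StkLib
open Groth.Agent.Helper2.AlgSpBasic Groth.Agent.Helper2.EtaleLocal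

variable {S : Scheme.{u}} {𝒳 𝒴 𝒳' 𝒴' 𝒵 : BasedCategory.{u, u + 1} (Over S)}

/-- The product over `𝒵` of two functors with `P` has `P`, in a form where the structure
functors of the sources are only propositionally the composites, and `𝒵` is faithful over the
base. -/
theorem repByAlgSpWith_fpLift_prod (h𝒳 : FibCat.IsFibGrpd 𝒳.p) (h𝒴 : FibCat.IsFibGrpd 𝒴.p)
    (h𝒳' : FibCat.IsFibGrpd 𝒳'.p) (h𝒵 : FibCat.IsFibGrpd 𝒵.p)
    (hfaith : ∀ {A B : 𝒵.obj} (m n : A ⟶ B) {R R' : Over S} (φ : R ⟶ R'),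
      𝒵.p.IsHomLift φ m → 𝒵.p.IsHomLift φ n → m = n)
    (P : MorphismProperty (AlgSp.Sp S)) (hPb : StableBC P) (hPc : StableComp P)
    (hP : AtlasLocal P) (f : 𝒳 ⥤ᵇ 𝒳') (g : 𝒴 ⥤ᵇ 𝒴') (p' : 𝒳' ⥤ᵇ 𝒵) (q' : 𝒴' ⥤ᵇ 𝒵)
    (a : 𝒳 ⥤ᵇ 𝒵) (b : 𝒴 ⥤ᵇ 𝒵) (ha : a = BasedFunctor.comp f p') (hb : b = BasedFunctor.comp g q')
    (e : BasedFunctor.comp (BasedFunctor.comp (FibCat.fpFst a b) f) p' ≅
      BasedFunctor.comp (BasedFunctor.comp (FibCat.fpSnd a b) g) q')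
    (hf : AlgSt.RepByAlgSpWith P f) (hg : AlgSt.RepByAlgSpWith P g) :
    AlgSt.RepByAlgSpWith P (FibCat.fpLift (BasedFunctor.comp (FibCat.fpFst a b) f)
      (BasedFunctor.comp (FibCat.fpSnd a b) g) e) := by
  subst ha hb
  have he : ∀ x, e.hom.toNatTrans.app x = x.obj.iso.hom := by
    intro x
    refine hfaith _ _ (𝟙 ((FibCat.fp (BasedFunctor.comp f p') (BasedFunctor.comp g q')).p.obj x))
      ?_ ?_
    · exact BasedNatTrans.isHomLift e.hom rfl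
    · exact x.property
  exact (repByAlgSpWith_congr P (FpProd.isoF f g p' q' e he)).1
    (repByAlgSpWith_fpProd h𝒳 h𝒴 h𝒳' h𝒵 P hPb hPc hP f g p' q' hf hg)

/-- Morphisms of the base category over itself lying over the same morphism are equal. -/
theorem selfOver_hom_eq {A B : (FibCat.selfOver (Over S)).obj} (m n : A ⟶ B)
    {R R' : Over S} (φ : R ⟶ R') (hm : (FibCat.selfOver (Over S)).p.IsHomLift φ m)
    (hn : (FibCat.selfOver (Over S)).p.IsHomLift φ n) : m = n := by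
  have h1 := IsHomLift.fac' (FibCat.selfOver (Over S)).p φ m
  have h2 := IsHomLift.fac' (FibCat.selfOver (Over S)).p φ n
  exact h1.trans h2.symm

/-- The product over the base of two functors with `P` has `P`. -/
theorem repByAlgSpWith_prodMap {𝒳₁ 𝒳₂ 𝒴₁ 𝒴₂ : BasedCategory.{u, u + 1} (Over S)}
    (h𝒳₁ : FibCat.IsFibGrpd 𝒳₁.p) (h𝒳₂ : FibCat.IsFibGrpd 𝒳₂.p) (h𝒴₁ : FibCat.IsFibGrpd 𝒴₁.p)
    (P : MorphismProperty (AlgSp.Sp S)) (hPb : StableBC P) (hPc : StableComp P)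
    (hP : AtlasLocal P) (f₁ : 𝒳₁ ⥤ᵇ 𝒴₁) (f₂ : 𝒳₂ ⥤ᵇ 𝒴₂)
    (hf₁ : AlgSt.RepByAlgSpWith P f₁) (hf₂ : AlgSt.RepByAlgSpWith P f₂)
    (e : BasedFunctor.comp (BasedFunctor.comp (FibCat.fpFst (FibCat.toSelf 𝒳₁) (FibCat.toSelf 𝒳₂))
        f₁) (FibCat.toSelf 𝒴₁) ≅
      BasedFunctor.comp (BasedFunctor.comp (FibCat.fpSnd (FibCat.toSelf 𝒳₁) (FibCat.toSelf 𝒳₂))
        f₂) (FibCat.toSelf 𝒴₂)) :
    AlgSt.RepByAlgSpWith P (FibCat.fpLift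
      (BasedFunctor.comp (FibCat.fpFst (FibCat.toSelf 𝒳₁) (FibCat.toSelf 𝒳₂)) f₁)
      (BasedFunctor.comp (FibCat.fpSnd (FibCat.toSelf 𝒳₁) (FibCat.toSelf 𝒳₂)) f₂) e) :=
  repByAlgSpWith_fpLift_prod h𝒳₁ h𝒳₂ h𝒴₁ DiagRepBack.isFibGrpd_selfOver
    (fun m n _ _ φ hm hn => selfOver_hom_eq m n φ hm hn) P hPb hPc hP f₁ f₂
    (FibCat.toSelf 𝒴₁) (FibCat.toSelf 𝒴₂) (FibCat.toSelf 𝒳₁) (FibCat.toSelf 𝒳₂)
    (comp_toSelf f₁).symm (comp_toSelf f₂).symm e hf₁ hf₂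

end Groth.Agent.Helper2.AlgStLib
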