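import Mathlib
import Groth.Prelude.Def_AlgSt4
import Groth.Agent.Lib.Helper2.AlgSt.MonoCover
import Groth.Agent.Lib.Helper2.AlgSp.FpqcCI

/-!
# Properties of morphisms of algebraic stacks, checked on a flat cover by an algebraic space
(helper2)
-/

set_option autoImplicit false
set_option synthInstance.maxHeartbeats 400000
set_option maxHeartbeats 4000000
set_option linter.style.haveILetI false
set_option linter.unusedSectionVars false
set_option linter.unusedVariables false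
set_option linter.unusedSimpArgs false
set_option linter.unnecessarySimpa false

open CategoryTheory CategoryTheory.Functor CategoryTheory.Limits AlgebraicGeometry Opposite

universe u

namespace Groth.Agent.Helper2.AlgStLib.MonoCover

open Groth.Agent.Helper2 Groth.Agent.Helper2.FibCatLib Groth.Agent.Helper2.StkLib
open Groth.Agent.Helper2.AlgSpBasic Groth.Agent.Helper2.EtaleLocal
open Groth.Agent.Helper2.AlgStLib

variable {S : Scheme.{u}} {𝒳 𝒴 : BasedCategory.{u, u + 1} (Over S)}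

/-- A property stable under base change and fppf local on the base can be checked after base
change along an fppf cover of the target by an algebraic space. -/
theorem repByAlgSpWith_iff_fp_flat_cover (P : MorphismProperty (AlgSp.Sp S)) (hPb : StableBC P)
    (hP : AlgSp.IsLocalOnBase AlgSp.IsFppfCover P)
    (h𝒳 : AlgSt.IsAlgStack Scheme.fppfPrecoverage 𝒳)
    (h𝒴 : AlgSt.IsAlgStack Scheme.fppfPrecoverage 𝒴) (f : 𝒳 ⥤ᵇ 𝒴) (W : AlgSp.Space S)
    (w : AlgSt.ofSp W.obj ⥤ᵇ 𝒴) (hw₁ : AlgSt.RepByAlgSpWith (AlgSp.LocP @Flat) w)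
    (hw₂ : AlgSt.RepByAlgSpWith (AlgSp.LocP @LocallyOfFinitePresentation) w)
    (hw₃ : AlgSt.RepByAlgSpWith AlgSp.IsSurjectiveMor w) :
    AlgSt.RepByAlgSpWith P f ↔
      ∃ (V : AlgSp.Space S) (a : V ⟶ W) (e : AlgSt.ofSp V.obj ⥤ᵇ FibCat.fp w f),
        FibCat.IsEquivOver e ∧
          Nonempty (BasedFunctor.comp e (FibCat.fpFst w f) ≅ AlgSt.ofSpMap a.hom) ∧
            P a.hom := by
  constructor
  · intro hf
    obtain ⟨V, e, he, hP'⟩ := exists_rep_fp_of_space_bc h𝒳.isStack.1 h𝒴.isStack.1 _ hPb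
      (ofSchemeBC_of_isLocalOnBase hP) f hf W w
    obtain ⟨κ⟩ := ofPshMap_mapOfFunctor_iso (BasedFunctor.comp e (FibCat.fpFst w f))
    exact ⟨V, ObjectProperty.homMk (ObjectProperty.homMk
      (mapOfFunctor (BasedFunctor.comp e (FibCat.fpFst w f)))), e, he, ⟨κ.symm⟩, hP'⟩
  · rintro ⟨V, a, e, he, ⟨θ⟩, ha⟩
    have hrep : AlgSt.RepByAlgSp (FibCat.fp w f) := ⟨V, e, he⟩
    have hf1 : AlgSt.RepByAlgSp1 f := repByAlgSp1_of_fp_flat_cover h𝒳 h𝒴 f W w hw₁ hw₂ hw₃ hrep
    have h' : AlgSt.RepByAlgSpWith P (FibCat.fpFst w f) :=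
      repByAlgSpWith_fpFst_of_space_test _ hPb f W w V a e he θ ha
    exact repByAlgSpWith_of_fpFst_fppf_cover h𝒳.isStack.1 h𝒴.isStack.1
      (Stk.isFibGrpd_ofPsh W.obj.obj) _ hPb hP f hf1 w hw₁ hw₂ hw₃ h'

theorem isLocalOnBase_fppf_repWith_isOpenImmersion :
    AlgSp.IsLocalOnBase (AlgSp.IsFppfCover (S := S)) (AlgSp.RepWith @IsOpenImmersion) :=
  isLocalOnBase_fppf_of_fpqc isLocalOnBase_fpqc_repWith_isOpenImmersion

theorem isLocalOnBase_fppf_repWith_isClosedImmersion :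
    AlgSp.IsLocalOnBase (AlgSp.IsFppfCover (S := S)) (AlgSp.RepWith @IsClosedImmersion) :=
  isLocalOnBase_fppf_of_fpqc Groth.Agent.Helper2.Lqf.isLocalOnBase_fpqc_repWith_isClosedImmersion

end Groth.Agent.Helper2.AlgStLib.MonoCover
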