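import Mathlib
import Groth.Prelude.Def_W4stkstmodspWNA
import Groth.Prelude.Def_AlgSt3
import Groth.Agent.Lib.Helper2.AlgSt.DiagCover
import Groth.Agent.Lib.Helper2.AlgSt.PFacts3
import Groth.Agent.Lib.Helper2.AlgSt.PFacts4
import Groth.Agent.Lib.Helper2.AlgSt.Pts.QC
import Groth.Agent.Lib.Helper2.AlgSt.RepDiagApps3
import Groth.Agent.Lib.Helper2.AlgSt.LocQ.Tower
import Groth.Agent.Lib.Helper2.AlgSp.ProperQf
import Groth.Agent.Lib.Helper2.AlgSt.QC2

/-!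
# Well-nigh affine algebraic stacks are quasi-compact, quasi-DM and separated (helper2)
-/

set_option autoImplicit false
open CategoryTheory CategoryTheory.Functor CategoryTheory.Limits AlgebraicGeometry Opposite

universe u

namespace Groth.Agent.Helper2.AlgStLib

open Groth.Agent.Helper2 Groth.Agent.Helper2.FibCatLib Groth.Agent.Helper2.StkLib
open Groth.Agent.Helper2.AlgSpBasic Groth.Agent.Helper2.EtaleLocal

variable {S : Scheme.{u}} {𝒜 ℬ 𝒴 𝒵 𝒳 𝒲 : BasedCategory.{u, u + 1} (Over S)}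

/-- Monotonicity of `RepByAlgSpWith` for an implication valid among algebraic spaces. -/
theorem repByAlgSpWith_mono_space {P Q : MorphismProperty (AlgSp.Sp S)}
    (hPQ : ∀ ⦃X Y : AlgSp.Sp S⦄, AlgSp.IsAlgSpace X → AlgSp.IsAlgSpace Y → ∀ (a : X ⟶ Y),
      P a → Q a) (f : 𝒳 ⥤ᵇ 𝒴)
    (h : AlgSt.RepByAlgSpWith P f) : AlgSt.RepByAlgSpWith Q f := by
  intro T t
  obtain ⟨F, e, he, hP⟩ := h T t
  exact ⟨F, e, he, hPQ F.property (AlgSp.IsAlgSpace.yon_obj T) _ hP⟩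

/-- The absolute diagonal read on an fppf covering, with cancellation relative to a property of
the projection. -/
theorem repByAlgSpWith_diag_toSelf_of_cover' (h𝒳 : FibCat.IsFibGrpd 𝒳.p)
    (h𝒲 : FibCat.IsFibGrpd 𝒲.p)
    (P P' : MorphismProperty (AlgSp.Sp S)) (hPb : StableBC P)
    (hP : AlgSp.IsLocalOnBase AlgSp.IsFppfCover P) (hc : CancelSp P P')
    (hΔ : AlgSt.RepByAlgSp1 (FibCat.diag (FibCat.toSelf 𝒳)))
    (w : 𝒲 ⥤ᵇ 𝒳)
    (hw₁ : AlgSt.RepByAlgSpWith (AlgSp.LocP @Flat) w)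
    (hw₂ : AlgSt.RepByAlgSpWith (AlgSp.LocP @LocallyOfFinitePresentation) w)
    (hw₃ : AlgSt.RepByAlgSpWith AlgSp.IsSurjectiveMor w)
    (hwP : AlgSt.RepByAlgSpWith P w)
    (hP' : AlgSt.RepByAlgSpWith P' (FibCat.toSelf 𝒲)) :
    AlgSt.RepByAlgSpWith P (FibCat.diag (FibCat.toSelf 𝒳)) := by
  have hself : FibCat.IsFibGrpd (FibCat.selfOver (Over S)).p := DiagRepBack.isFibGrpd_selfOver
  have hcanon : AlgSt.RepByAlgSpWith P (Magic.canon w w (FibCat.toSelf 𝒳)) := by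
    refine repByAlgSpWith_of_comp_cancel P P' hPb hc (Magic.canon w w (FibCat.toSelf 𝒳))
      (FibCat.fpFst (BasedFunctor.comp w (FibCat.toSelf 𝒳))
        (BasedFunctor.comp w (FibCat.toSelf 𝒳))) ?_ ?_
    · exact repByAlgSpWith_fpFst P w w hwP
    · refine repByAlgSpWith_fpFst P' _ _ ?_
      rw [comp_toSelf w]
      exact hP'
  have h' : AlgSt.RepByAlgSpWith P (FibCat.fpFst (Magic.Hc w w (FibCat.toSelf 𝒳))
      (FibCat.diag (FibCat.toSelf 𝒳))) :=
    (repByAlgSpWith_of_square P (FibCat.fpFst (Magic.Hc w w (FibCat.toSelf 𝒳))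
      (FibCat.diag (FibCat.toSelf 𝒳))) (Magic.canon w w (FibCat.toSelf 𝒳))
      (Magic.Ψ w w (FibCat.toSelf 𝒳)) (BasedFunctor.id _)
      (Magic.Ψ_isEquivOver w w (FibCat.toSelf 𝒳)) ReprInv.isEquivOver_id (Iso.refl _)).2 hcanon
  exact Groth.Agent.S12781.result h𝒳
    (isFibGrpd_fp (FibCat.toSelf 𝒳) (FibCat.toSelf 𝒳) h𝒳 h𝒳 hself)
    (isFibGrpd_fp _ _ h𝒲 h𝒲 hself) P hPb hP (FibCat.diag (FibCat.toSelf 𝒳)) hΔ
    (Magic.Hc w w (FibCat.toSelf 𝒳))
    (exists_local_lift_Hc h𝒲 h𝒲 w w (FibCat.toSelf 𝒳) hw₁ hw₂ hw₃ hw₁ hw₂ hw₃) h'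

/-- The structure functor of the slice over a scheme separated over the base is separated. -/
theorem repByAlgSpWith_isSeparatedMor_toSelf_overCat (U : Over S) [IsSeparated U.hom] :
    AlgSt.RepByAlgSpWith AlgSp.IsSeparatedMor (FibCat.toSelf (FibCat.overCat U)) := by
  let t : U ⟶ Over.mk (𝟙 S) := Over.homMk U.hom (by simp)
  have h1 : AlgSt.RepByAlgSpWith AlgSp.IsSeparatedMor (AlgSt.overMap t) :=
    LocQ.repByAlgSpWith_overMap_of_prop _ stableBC_isSeparatedMor t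
      ((AlgSp.isSeparatedMor_yon_map_iff t).2 (inferInstanceAs (IsSeparated U.hom)))
  have h2 := (repByAlgSpWith_comp_equiv AlgSp.IsSeparatedMor (AlgSt.overMap t)
    (FibCat.toSelf (FibCat.overCat (Over.mk (𝟙 S)))) isEquivOver_toSelf_overCat_terminal).2 h1
  rwa [comp_toSelf] at h2

/-- A well-nigh affine algebraic stack is quasi-compact, quasi-DM and separated over the base. -/
theorem wna_main (h𝒳 : AlgSt.IsAlgStack Scheme.fppfPrecoverage 𝒳)
    (hw : AlgSt.IsWellNighAffine 𝒳) :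
    AlgSt.IsQuasiCompact 𝒳 ∧ AlgSt.IsQuasiDMOver 𝒳 ∧ AlgSt.IsSeparatedOver 𝒳 := by
  obtain ⟨U, x, hU, hx⟩ := hw
  have hsurj : AlgSt.RepByAlgSpWith AlgSp.IsSurjectiveMor x :=
    repByAlgSpWith_mono (fun _ _ m hm => hm.1.1.1) x hx
  have hflat : AlgSt.RepByAlgSpWith (AlgSp.LocP @Flat) x :=
    repByAlgSpWith_mono (fun _ _ m hm => hm.1.1.2) x hx
  have hfin : AlgSt.RepByAlgSpWith AlgSp.IsFiniteMor x :=
    repByAlgSpWith_mono (fun _ _ m hm => hm.1.2) x hx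
  have hlfp : AlgSt.RepByAlgSpWith (AlgSp.LocP @LocallyOfFinitePresentation) x :=
    repByAlgSpWith_mono (fun _ _ m hm => hm.2) x hx
  haveI : IsAffine U.left := hU
  haveI : IsSeparated U.hom := inferInstance
  refine ⟨?_, ?_, ?_⟩
  · haveI := Pts.compactSpace_of_chart h𝒳 x hsurj
    exact Pts.isQuasiCompact_of_compactSpace h𝒳
  · exact repByAlgSpWith_diag_toSelf_of_cover h𝒳.isStack.1 (isFibGrpd_overCat U) _
      (stableBC_locP _)
      (isLocalOnBase_fppf_of_fpqc (isLocalOnBase_fpqc_locP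
        (@LocallyQuasiFinite ⊓ @LocallyOfFiniteType)))
      (cancelSp_lqf ⊤) h𝒳.diag (repByAlgSp_overCat U) x hflat hlfp hsurj
      (repByAlgSpWith_mono_space
        (fun X Y hX _ a ha => Groth.Agent.Helper2.ProperQf.locP_lqf_lft_of_isFiniteMor hX ha) x hfin)
  · exact repByAlgSpWith_diag_toSelf_of_cover' h𝒳.isStack.1 (isFibGrpd_overCat U)
      AlgSp.IsProperMor AlgSp.IsSeparatedMor stableBC_isProperMor isLocalOnBase_fppf_isProperMor
      cancelSp_isProperMor h𝒳.diag x hflat hlfp hsurj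
      (repByAlgSpWith_mono_space
        (fun X Y hX hY a ha => isProperMor_of_isFiniteMor hX hY ha) x hfin)
      (repByAlgSpWith_isSeparatedMor_toSelf_overCat U)

end Groth.Agent.Helper2.AlgStLib
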