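import Mathlib
import Groth.Prelude.Def_AlgSt4
import Groth.Agent.Lib.Helper2.AlgSp.FpqcQAff
import Groth.Agent.Lib.Helper2.AlgSp.FiniteMor
import Groth.Agent.Lib.Helper2.AlgSt.WNA
import Groth.Agent.Lib.Helper2.AlgSt.AffRep
import Groth.Agent.Lib.Helper2.AlgSt.DMQAff

/-!
# Quasi-affine diagonal of an algebraic stack, read on a smooth chart (helper2)

Over an affine base, the diagonal of an algebraic stack is quasi-affine if and only if the
restrictions of a smooth surjective chart to its affine opens are quasi-affine.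
-/

set_option backward.isDefEq.respectTransparency.types false
set_option autoImplicit false
set_option synthInstance.maxHeartbeats 400000
set_option maxHeartbeats 4000000
set_option linter.style.haveILetI false
set_option linter.unusedSectionVars false
set_option linter.unusedVariables false
set_option linter.unusedSimpArgs false
set_option linter.unnecessarySimpa false

open CategoryTheory CategoryTheory.Functor CategoryTheory.Limits AlgebraicGeometry Opposite AlgSp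

universe u

namespace Groth.Agent.Helper2.AlgStLib.QAffDiag

open Groth.Agent.Helper2 Groth.Agent.Helper2.FibCatLib Groth.Agent.Helper2.StkLib
open Groth.Agent.Helper2.AlgSpBasic Groth.Agent.Helper2.EtaleLocal
open Groth.Agent.Helper2.AlgStLib

variable {S : Scheme.{u}}

/-! ### Algebraic spaces -/

theorem stableBC_isQuasiAffineMor : StableBC (S := S) IsQuasiAffineMor := by
  intro X₁ Y₁ X₂ Y₂ _ _ _ _ a b a' b' sq ha
  exact FpqcAffine.isQuasiAffineMor_of_isPullback sq ha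

theorem stableBC_isAffineMor : StableBC (S := S) IsAffineMor := by
  rw [isAffineMor_eq_affRep]
  exact stableBC_affRep _

/-- A closed immersion followed by a quasi-affine morphism is quasi-affine. -/
theorem isQuasiAffineMor_closedImm_comp {X P Y : Sp S} (i : X ⟶ P) (q : P ⟶ Y)
    (hi : RepWith @IsClosedImmersion i) (hq : IsQuasiAffineMor q) : IsQuasiAffineMor (i ≫ q) := by
  intro Z hZ g
  obtain ⟨W, j, fst, sq, hW⟩ := hq hZ g
  obtain ⟨W', s, fst', sq2⟩ := hi.rep fst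
  haveI : IsClosedImmersion s.left := hi.property fst fst' s sq2
  haveI := hW
  refine ⟨W', s ≫ j, fst', ?_, ?_⟩
  · rw [Functor.map_comp]
    exact sq2.paste_vert sq
  · exact Scheme.IsQuasiAffine.of_isAffineHom s.left

/-- A quasi-affine morphism followed by an affine morphism is quasi-affine. -/
theorem isQuasiAffineMor_comp_affine {X Y Z : Sp S} (a : X ⟶ Y) (b : Y ⟶ Z)
    (ha : IsQuasiAffineMor a) (hb : IsAffineMor b) : IsQuasiAffineMor (a ≫ b) := by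
  intro T hT t
  obtain ⟨W₁, i₁, fst₁, sq₁, hW₁⟩ := hb hT t
  obtain ⟨W₂, i₂, fst₂, sq₂, hW₂⟩ := ha hW₁ fst₁
  refine ⟨W₂, i₂ ≫ i₁, fst₂, ?_, hW₂⟩
  rw [Functor.map_comp]
  exact sq₂.paste_vert sq₁

/-- Cancellation: if `a ≫ b` is quasi-affine and `b` is affine, then `a` is quasi-affine. -/
theorem cancelSp_isQuasiAffineMor : CancelSp (S := S) IsQuasiAffineMor IsAffineMor := by
  intro X Y Z hX hY hZ a b hab hb
  have hbs : IsSeparatedMor b := isSeparatedMor_of_isAffineMor hY hb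
  have sq := IsPullback.of_hasPullback (a ≫ b) b
  have h1 : IsQuasiAffineMor (pullback.snd (a ≫ b) b) :=
    FpqcAffine.isQuasiAffineMor_of_isPullback sq hab
  have sqΓ := pullback_lift_diagonal_isPullback a b
  have h2 : RepWith @IsClosedImmersion
      (pullback.lift (𝟙 X) a (by simp) : X ⟶ pullback (a ≫ b) b) :=
    repWith_of_isPullback @IsClosedImmersion sqΓ hbs
  have h3 := isQuasiAffineMor_closedImm_comp _ _ h2 h1
  rwa [pullback.lift_snd] at h3

/-! ### Composition with three properties -/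

section Comp3

variable {𝒳 𝒴 𝒵 : BasedCategory.{u, u + 1} (Over S)}

theorem repByAlgSpWith_comp_bc3 (h𝒳 : FibCat.IsFibGrpd 𝒳.p) (h𝒴 : FibCat.IsFibGrpd 𝒴.p)
    (P Q R : MorphismProperty (AlgSp.Sp S)) (hPb : StableBC P) (hP : OfSchemeBC P)
    (hPQR : ∀ ⦃X Y Z : AlgSp.Sp S⦄, AlgSp.IsAlgSpace X → AlgSp.IsAlgSpace Y →
      AlgSp.IsAlgSpace Z → ∀ (a : X ⟶ Y) (b : Y ⟶ Z), P a → Q b → R (a ≫ b))
    (f : 𝒳 ⥤ᵇ 𝒴) (g : 𝒴 ⥤ᵇ 𝒵)
    (hf : AlgSt.RepByAlgSpWith P f) (hg : AlgSt.RepByAlgSpWith Q g) :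
    AlgSt.RepByAlgSpWith R (BasedFunctor.comp f g) := by
  intro U z
  obtain ⟨G, eG, heG, hPG⟩ := hg U z
  let w : AlgSt.ofSp G.obj ⥤ᵇ 𝒴 := BasedFunctor.comp eG (FibCat.fpSnd z g)
  obtain ⟨F, eF, heF, hPF⟩ := exists_rep_fp_of_space_bc h𝒳 h𝒴 P hPb hP f hf G w
  obtain ⟨Φ, hΦ, hΦ1, -⟩ := exists_equiv_fp_left w (FibCat.fpSnd z g) f eG heG (Iso.refl _)
  let E : AlgSt.ofSp F.obj ⥤ᵇ FibCat.fp z (BasedFunctor.comp f g) :=
    BasedFunctor.comp (BasedFunctor.comp eF Φ) (Paste.pasteA z g f)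
  refine ⟨F, E, ReprInv.isEquivOver_comp (ReprInv.isEquivOver_comp heF hΦ)
    (Paste.pasteA_isEquivOver z g f), ?_⟩
  have h1 : BasedFunctor.comp E (FibCat.fpFst z (BasedFunctor.comp f g)) =
      BasedFunctor.comp (BasedFunctor.comp eF (FibCat.fpFst w f))
        (BasedFunctor.comp eG (FibCat.fpFst z g)) := by
    change BasedFunctor.comp eF (BasedFunctor.comp
      (BasedFunctor.comp Φ (FibCat.fpFst (FibCat.fpSnd z g) f)) (FibCat.fpFst z g)) = _
    rw [hΦ1]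
    rfl
  rw [h1, spMapOfOver_comp]
  exact hPQR F.property G.property (AlgSp.IsAlgSpace.yon_obj U) _ _ hPF hPG

end Comp3

/-! ### The structure functor of an affine scheme over an affine base is affine -/

theorem repByAlgSpWith_isAffineMor_toSelf_overCat [IsAffine S] (U : Over S) [IsAffine U.left] :
    AlgSt.RepByAlgSpWith AlgSp.IsAffineMor (FibCat.toSelf (FibCat.overCat U)) := by
  obtain ⟨t, ht⟩ : ∃ t : U ⟶ Over.mk (𝟙 S), t.left = U.hom :=
    ⟨Over.homMk U.hom (by simp), rfl⟩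
  have hta : IsAffineHom t.left := by
    rw [ht]
    exact @isAffineHom_of_isAffine _ _ U.hom ‹IsAffine U.left› ‹IsAffine S›
  have h1 : AlgSt.RepByAlgSpWith AlgSp.IsAffineMor (AlgSt.overMap t) :=
    LocQ.repByAlgSpWith_overMap_of_prop _ stableBC_isAffineMor t
      (RepFpqc.isAffineMor_yon_map' t hta)
  have h2 := (repByAlgSpWith_comp_equiv AlgSp.IsAffineMor (AlgSt.overMap t)
    (FibCat.toSelf (FibCat.overCat (Over.mk (𝟙 S)))) isEquivOver_toSelf_overCat_terminal).2 h1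
  rwa [comp_toSelf] at h2

/-! ### From the diagonal to the charts -/

section Forward

variable {𝒳 : BasedCategory.{u, u + 1} (Over S)}

/-- If the diagonal over an affine base is quasi-affine, every functor from an affine scheme is
quasi-affine. -/
theorem repByAlgSpWith_isQuasiAffineMor_of_diag [IsAffine S] (hf𝒳 : FibCat.IsFibGrpd 𝒳.p)
    (hΔ : AlgSt.RepByAlgSpWith AlgSp.IsQuasiAffineMor (FibCat.diag (FibCat.toSelf 𝒳)))
    (W : Over S) [IsAffine W.left] (w : FibCat.overCat W ⥤ᵇ 𝒳) :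
    AlgSt.RepByAlgSpWith AlgSp.IsQuasiAffineMor w := by
  have hself : FibCat.IsFibGrpd (FibCat.selfOver (Over S)).p := DiagRepBack.isFibGrpd_selfOver
  have h1 : AlgSt.RepByAlgSpWith AlgSp.IsQuasiAffineMor (graphOver w (FibCat.toSelf 𝒳)) :=
    repByAlgSpWith_graphOver _ w (FibCat.toSelf 𝒳) hΔ
  have h2 : AlgSt.RepByAlgSpWith AlgSp.IsAffineMor
      (FibCat.fpSnd (BasedFunctor.comp w (FibCat.toSelf 𝒳)) (FibCat.toSelf 𝒳)) := by
    refine repByAlgSpWith_fpSnd AlgSp.IsAffineMor (BasedFunctor.comp w (FibCat.toSelf 𝒳))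
      (FibCat.toSelf 𝒳) ?_
    rw [comp_toSelf w]
    exact repByAlgSpWith_isAffineMor_toSelf_overCat W
  have hfp : FibCat.IsFibGrpd
      (FibCat.fp (BasedFunctor.comp w (FibCat.toSelf 𝒳)) (FibCat.toSelf 𝒳)).p :=
    isFibGrpd_fp (BasedFunctor.comp w (FibCat.toSelf 𝒳)) (FibCat.toSelf 𝒳)
      (isFibGrpd_overCat W) hf𝒳 hself
  exact repByAlgSpWith_comp_bc3 (isFibGrpd_overCat W) hfp AlgSp.IsQuasiAffineMor
    AlgSp.IsAffineMor AlgSp.IsQuasiAffineMor stableBC_isQuasiAffineMor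
    (ofSchemeBC_of_isLocalOnBase
      (isLocalOnBase_fppf_of_fpqc FpqcAffine.isLocalOnBase_fpqc_isQuasiAffineMor))
    (fun X Y Z _ _ _ a b ha hb => isQuasiAffineMor_comp_affine a b ha hb)
    (graphOver w (FibCat.toSelf 𝒳))
    (FibCat.fpSnd (BasedFunctor.comp w (FibCat.toSelf 𝒳)) (FibCat.toSelf 𝒳)) h1 h2

end Forward

/-! ### Local lifts through affine opens of a chart -/

/-- A jointly surjective family of open immersions generates an fppf covering sieve. -/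
theorem ofArrows_mem_J_of_open' (V : Over S) {ι : Type*} (W : ι → Over S) (g : ∀ i, W i ⟶ V)
    (hopen : ∀ i, IsOpenImmersion (g i).left)
    (hsurj : ∀ v : V.left, ∃ i, v ∈ Set.range (g i).left) :
    Sieve.ofArrows W g ∈ QuotSh.J Scheme.fppfPrecoverage S V := by
  change _ ∈ (Scheme.fppfPrecoverage.toGrothendieck.over S) _
  rw [GrothendieckTopology.mem_over_iff, Sieve.overEquiv_ofArrows]
  apply Precoverage.generate_mem_toGrothendieck
  apply Scheme.zariskiPrecoverage_le_fppfPrecoverage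
  rw [Scheme.ofArrows_mem_precoverage_iff]
  exact ⟨hsurj, hopen⟩

section Lifts

variable {𝒳 : BasedCategory.{u, u + 1} (Over S)}

/-- `h : V ⟶ T` lifts the point `a` through the restriction of the chart `x` to an affine open. -/
def LiftsAff (U : Over S) (x : FibCat.overCat U ⥤ᵇ 𝒳) {T : Over S} (a : FibCat.overCat T ⥤ᵇ 𝒳)
    ⦃V : Over S⦄ (h : V ⟶ T) : Prop :=
  ∃ (W : U.left.Opens) (_ : IsAffineOpen W)
    (z : FibCat.overCat V ⥤ᵇ FibCat.overCat (Over.mk (W.ι ≫ U.hom))),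
    Nonempty (BasedFunctor.comp z (BasedFunctor.comp
      (AlgSt.overMap (Over.homMk W.ι rfl : Over.mk (W.ι ≫ U.hom) ⟶ U)) x) ≅
      BasedFunctor.comp (AlgSt.overMap h) a)

/-- The sieve of morphisms lifting through an affine open of the chart. -/
def liftsAffSieve (U : Over S) (x : FibCat.overCat U ⥤ᵇ 𝒳) {T : Over S}
    (a : FibCat.overCat T ⥤ᵇ 𝒳) : Sieve T where
  arrows := fun V h => LiftsAff U x a h
  downward_closed := by
    rintro V V' h ⟨W, hW, z, ⟨θ⟩⟩ k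
    exact ⟨W, hW, BasedFunctor.comp (AlgSt.overMap k) z,
      ⟨whiskerLeftIso (AlgSt.overMap k) θ ≪≫ (postF _ a).mapIso (overMapCompIso k h)⟩⟩

theorem liftsAff_restrict (U : Over S) (x : FibCat.overCat U ⥤ᵇ 𝒳) {T V : Over S}
    (a : FibCat.overCat T ⥤ᵇ 𝒳) (h : V ⟶ T) (c : V ⟶ U)
    (θ : BasedFunctor.comp (AlgSt.overMap c) x ≅ BasedFunctor.comp (AlgSt.overMap h) a)
    (W : U.left.Opens) (hW : IsAffineOpen W) :
    LiftsAff U x a ((Over.homMk (c.left ⁻¹ᵁ W).ι rfl :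
      Over.mk ((c.left ⁻¹ᵁ W).ι ≫ V.hom) ⟶ V) ≫ h) := by
  obtain ⟨gW, hgW⟩ : ∃ gW : Over.mk ((c.left ⁻¹ᵁ W).ι ≫ V.hom) ⟶ V,
      gW = Over.homMk (c.left ⁻¹ᵁ W).ι rfl := ⟨_, rfl⟩
  obtain ⟨jW, hjW⟩ : ∃ jW : Over.mk (W.ι ≫ U.hom) ⟶ U, jW = Over.homMk W.ι rfl := ⟨_, rfl⟩
  have hw : (c.left ∣_ W) ≫ (Over.mk (W.ι ≫ U.hom)).hom =
      (Over.mk ((c.left ⁻¹ᵁ W).ι ≫ V.hom)).hom := by
    change (c.left ∣_ W) ≫ (W.ι ≫ U.hom) = (c.left ⁻¹ᵁ W).ι ≫ V.hom
    rw [← Category.assoc, morphismRestrict_ι, Category.assoc, Over.w c]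
  obtain ⟨cW, hcW⟩ : ∃ cW : Over.mk ((c.left ⁻¹ᵁ W).ι ≫ V.hom) ⟶ Over.mk (W.ι ≫ U.hom),
      cW.left = c.left ∣_ W := ⟨Over.homMk (c.left ∣_ W) hw, rfl⟩
  have hsq : cW ≫ jW = gW ≫ c := by
    apply Over.OverMorphism.ext
    rw [Over.comp_left, Over.comp_left, hcW, hjW, hgW]
    exact morphismRestrict_ι c.left W
  have E : BasedFunctor.comp (AlgSt.overMap cW) (AlgSt.overMap jW) ≅
      BasedFunctor.comp (AlgSt.overMap gW) (AlgSt.overMap c) :=
    overMapCompIso cW jW ≪≫ eqToIso (congrArg AlgSt.overMap hsq) ≪≫ (overMapCompIso gW c).symm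
  have F : BasedFunctor.comp (AlgSt.overMap cW) (BasedFunctor.comp (AlgSt.overMap jW) x) ≅
      BasedFunctor.comp (AlgSt.overMap (gW ≫ h)) a :=
    (postF _ x).mapIso E ≪≫ whiskerLeftIso (AlgSt.overMap gW) θ ≪≫
      (postF _ a).mapIso (overMapCompIso gW h)
  subst hgW
  subst hjW
  exact ⟨W, hW, AlgSt.overMap cW, ⟨F⟩⟩

theorem exists_local_lift_affineOpen (U : Over S) (x : FibCat.overCat U ⥤ᵇ 𝒳)
    (hx₁ : AlgSt.RepByAlgSpWith (AlgSp.LocP @Flat) x)
    (hx₂ : AlgSt.RepByAlgSpWith (AlgSp.LocP @LocallyOfFinitePresentation) x)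
    (hx₃ : AlgSt.RepByAlgSpWith AlgSp.IsSurjectiveMor x)
    (T : Over S) (a : FibCat.overCat T ⥤ᵇ 𝒳) :
    liftsAffSieve U x a ∈ (QuotSh.J Scheme.fppfPrecoverage S) T := by
  obtain ⟨R₁, hR₁, hl₁⟩ := exists_local_lift_of_fppf (isFibGrpd_overCat U) x hx₁ hx₂ hx₃ T a
  refine (QuotSh.J Scheme.fppfPrecoverage S).transitive hR₁ _ (fun V h hh => ?_)
  obtain ⟨z, ⟨θz⟩⟩ := hl₁ h hh
  obtain ⟨θc⟩ := OverFun.nonempty_iso_overMapBased z
  obtain ⟨c, hc⟩ : ∃ c : V ⟶ U, c = OverFun.classify z := ⟨_, rfl⟩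
  have θc' : z ≅ AlgSt.overMap c := by
    subst hc
    exact θc
  have θ : BasedFunctor.comp (AlgSt.overMap c) x ≅ BasedFunctor.comp (AlgSt.overMap h) a :=
    (postF _ x).mapIso θc'.symm ≪≫ θz
  have hcovV : Sieve.ofArrows
      (fun W : {W : U.left.Opens // IsAffineOpen W} => Over.mk ((c.left ⁻¹ᵁ W.1).ι ≫ V.hom))
      (fun W => (Over.homMk (c.left ⁻¹ᵁ W.1).ι rfl :
        Over.mk ((c.left ⁻¹ᵁ W.1).ι ≫ V.hom) ⟶ V)) ∈ QuotSh.J Scheme.fppfPrecoverage S V := by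
    refine ofArrows_mem_J_of_open' V _ _ (fun W => ?_) (fun v => ?_)
    · change IsOpenImmersion (c.left ⁻¹ᵁ W.1).ι
      infer_instance
    · obtain ⟨W, hW, hvW, -⟩ := exists_isAffineOpen_mem_and_subset (x := c.left v)
        (U := (⊤ : U.left.Opens)) trivial
      refine ⟨⟨W, hW⟩, ?_⟩
      change v ∈ Set.range (c.left ⁻¹ᵁ W).ι
      rw [Scheme.Opens.range_ι]
      exact hvW
  refine (QuotSh.J Scheme.fppfPrecoverage S).superset_covering ?_ hcovV
  rw [Sieve.ofArrows, Sieve.generate_le_iff]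
  rintro _ _ ⟨W⟩
  exact liftsAff_restrict U x a h c θ W.1 W.2

end Lifts

/-! ### From the charts to the diagonal -/

section Backward

variable {𝒳 𝒴 𝒵 𝒲 : BasedCategory.{u, u + 1} (Over S)}

/-- The local step of descent along local lifts. -/
theorem repOver_of_lift (P : MorphismProperty (AlgSp.Sp S))
    (f : 𝒳 ⥤ᵇ 𝒴) (g : 𝒵 ⥤ᵇ 𝒴) (h' : AlgSt.RepByAlgSpWith P (FibCat.fpFst g f))
    {T V : Over S} (h : V ⟶ T) (y : FibCat.overCat T ⥤ᵇ 𝒴) (z : FibCat.overCat V ⥤ᵇ 𝒵)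
    (θ : BasedFunctor.comp z g ≅ BasedFunctor.comp (AlgSt.overMap h) y) :
    RepOver P (FibCat.fp (AlgSt.overMap h) (FibCat.fpFst y f))
      (FibCat.fpFst (AlgSt.overMap h) (FibCat.fpFst y f)) := by
  have h1 := h' V z
  have h2 := (repOver_iff_of_equiv P
    (FibCat.fpFst z (FibCat.fpFst g f)) (FibCat.fpFst (BasedFunctor.comp z g) f)
    (Paste.pasteB z g f) (Paste.pasteB_isEquivOver z g f) (Iso.refl _)).1 h1
  obtain ⟨Φ, hΦ, hΦfst⟩ := exists_equiv_fp_congr_fst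
    (BasedFunctor.comp z g) (BasedFunctor.comp (AlgSt.overMap h) y) f θ
  have h3 := (repOver_iff_of_equiv P
    (FibCat.fpFst (BasedFunctor.comp z g) f)
    (FibCat.fpFst (BasedFunctor.comp (AlgSt.overMap h) y) f) Φ hΦ (eqToIso hΦfst)).1 h2
  exact (repOver_iff_of_equiv P
    (FibCat.fpFst (AlgSt.overMap h) (FibCat.fpFst y f))
    (FibCat.fpFst (BasedFunctor.comp (AlgSt.overMap h) y) f)
    (Paste.pasteB (AlgSt.overMap h) y f)
    (Paste.pasteB_isEquivOver (AlgSt.overMap h) y f)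
    (Iso.refl _)).2 h3

/-- The diagonal has `P` locally where the first component lifts through a functor `w` with `P`
whose source has structure functor with `P'`, under cancellation. -/
theorem repOver_diag_of_lift (P P' : MorphismProperty (AlgSp.Sp S)) (hPb : StableBC P)
    (hc : CancelSp P P') (w : 𝒲 ⥤ᵇ 𝒳) (hwP : AlgSt.RepByAlgSpWith P w)
    (hP' : AlgSt.RepByAlgSpWith P' (FibCat.toSelf 𝒲))
    {T V : Over S} (h : V ⟶ T)
    (y : FibCat.overCat T ⥤ᵇ FibCat.fp (FibCat.toSelf 𝒳) (FibCat.toSelf 𝒳))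
    (z₁ : FibCat.overCat V ⥤ᵇ 𝒲)
    (θ₁ : BasedFunctor.comp z₁ w ≅ BasedFunctor.comp (BasedFunctor.comp (AlgSt.overMap h) y)
      (FibCat.fpFst (FibCat.toSelf 𝒳) (FibCat.toSelf 𝒳))) :
    RepOver P (FibCat.fp (AlgSt.overMap h) (FibCat.fpFst y (FibCat.diag (FibCat.toSelf 𝒳))))
      (FibCat.fpFst (AlgSt.overMap h) (FibCat.fpFst y (FibCat.diag (FibCat.toSelf 𝒳)))) := by
  have hcanon : AlgSt.RepByAlgSpWith P
      (Magic.canon w (BasedFunctor.id 𝒳) (FibCat.toSelf 𝒳)) := by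
    refine repByAlgSpWith_of_comp_cancel P P' hPb hc
      (Magic.canon w (BasedFunctor.id 𝒳) (FibCat.toSelf 𝒳))
      (FibCat.fpSnd (BasedFunctor.comp w (FibCat.toSelf 𝒳))
        (BasedFunctor.comp (BasedFunctor.id 𝒳) (FibCat.toSelf 𝒳))) ?_ ?_
    · exact repByAlgSpWith_fpSnd P w (BasedFunctor.id 𝒳) hwP
    · refine repByAlgSpWith_fpSnd P' _ _ ?_
      rw [comp_toSelf w]
      exact hP'
  have h' : AlgSt.RepByAlgSpWith P
      (FibCat.fpFst (Magic.Hc w (BasedFunctor.id 𝒳) (FibCat.toSelf 𝒳))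
        (FibCat.diag (FibCat.toSelf 𝒳))) :=
    (repByAlgSpWith_of_square P
      (FibCat.fpFst (Magic.Hc w (BasedFunctor.id 𝒳) (FibCat.toSelf 𝒳))
        (FibCat.diag (FibCat.toSelf 𝒳)))
      (Magic.canon w (BasedFunctor.id 𝒳) (FibCat.toSelf 𝒳))
      (Magic.Ψ w (BasedFunctor.id 𝒳) (FibCat.toSelf 𝒳)) (BasedFunctor.id _)
      (Magic.Ψ_isEquivOver w (BasedFunctor.id 𝒳) (FibCat.toSelf 𝒳)) ReprInv.isEquivOver_id
      (Iso.refl _)).2 hcanon
  exact repOver_of_lift P (FibCat.diag (FibCat.toSelf 𝒳))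
    (Magic.Hc w (BasedFunctor.id 𝒳) (FibCat.toSelf 𝒳)) h' h y
    (Magic.liftHc w (BasedFunctor.id 𝒳) (FibCat.toSelf 𝒳)
      (BasedFunctor.comp (AlgSt.overMap h) y) z₁
      (BasedFunctor.comp (BasedFunctor.comp (AlgSt.overMap h) y)
        (FibCat.fpSnd (FibCat.toSelf 𝒳) (FibCat.toSelf 𝒳))) θ₁ (Iso.refl _))
    (Magic.liftHcIso w (BasedFunctor.id 𝒳) (FibCat.toSelf 𝒳)
      (BasedFunctor.comp (AlgSt.overMap h) y) z₁
      (BasedFunctor.comp (BasedFunctor.comp (AlgSt.overMap h) y)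
        (FibCat.fpSnd (FibCat.toSelf 𝒳) (FibCat.toSelf 𝒳))) θ₁ (Iso.refl _))

/-- If the restrictions of a smooth surjective chart to its affine opens are quasi-affine, the
diagonal over an affine base is quasi-affine. -/
theorem repByAlgSpWith_isQuasiAffineMor_diag_of_cover [IsAffine S]
    (h𝒳 : AlgSt.IsAlgStack Scheme.fppfPrecoverage 𝒳) (U : Over S) (x : FibCat.overCat U ⥤ᵇ 𝒳)
    (hx1 : AlgSt.RepByAlgSpWith (AlgSp.LocP @Smooth) x)
    (hx2 : AlgSt.RepByAlgSpWith AlgSp.IsSurjectiveMor x)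
    (hV : ∀ (V : U.left.Opens), IsAffineOpen V →
      AlgSt.RepByAlgSpWith AlgSp.IsQuasiAffineMor
        (BasedFunctor.comp (AlgSt.overMap (Over.homMk V.ι rfl : Over.mk (V.ι ≫ U.hom) ⟶ U)) x)) :
    AlgSt.RepByAlgSpWith AlgSp.IsQuasiAffineMor (FibCat.diag (FibCat.toSelf 𝒳)) := by
  have hf𝒳 : FibCat.IsFibGrpd 𝒳.p := h𝒳.isStack.1
  have hx1f : AlgSt.RepByAlgSpWith (AlgSp.LocP @Flat) x :=
    repByAlgSpWith_locP_mono (fun _ _ g (hg : Smooth g) => (inferInstance : Flat g)) x hx1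
  have hx1p : AlgSt.RepByAlgSpWith (AlgSp.LocP @LocallyOfFinitePresentation) x :=
    repByAlgSpWith_locP_mono (fun _ _ g (hg : Smooth g) =>
      (inferInstance : LocallyOfFinitePresentation g)) x hx1
  intro T y
  have hR := exists_local_lift_affineOpen U x hx1f hx1p hx2 T
    (BasedFunctor.comp y (FibCat.fpFst (FibCat.toSelf 𝒳) (FibCat.toSelf 𝒳)))
  obtain ⟨ι, V, h, hRV, hcov⟩ := exists_fppfCover_of_mem_J _ hR
  apply repOver_of_cover AlgSp.IsQuasiAffineMor stableBC_isQuasiAffineMor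
    (isLocalOnBase_fppf_of_fpqc FpqcAffine.isLocalOnBase_fpqc_isQuasiAffineMor)
    (FibCat.fpFst y (FibCat.diag (FibCat.toSelf 𝒳))) (h𝒳.diag T y) V h hcov
  intro i
  obtain ⟨W, hW, z₁, ⟨θ₁⟩⟩ := hRV i
  haveI : IsAffine (Over.mk (W.ι ≫ U.hom)).left := hW
  exact repOver_diag_of_lift AlgSp.IsQuasiAffineMor AlgSp.IsAffineMor stableBC_isQuasiAffineMor
    cancelSp_isQuasiAffineMor
    (BasedFunctor.comp (AlgSt.overMap (Over.homMk W.ι rfl : Over.mk (W.ι ≫ U.hom) ⟶ U)) x)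
    (hV W hW) (repByAlgSpWith_isAffineMor_toSelf_overCat (Over.mk (W.ι ≫ U.hom)))
    (h i) y z₁ θ₁

end Backward

/-- **Quasi-affine diagonal read on a smooth chart.** -/
theorem main [IsAffine S] (𝒳 : AlgSt.Cat S)
    (h𝒳 : AlgSt.IsAlgStack Scheme.fppfPrecoverage 𝒳) :
    AlgSt.RepByAlgSpWith AlgSp.IsQuasiAffineMor (FibCat.diag (FibCat.toSelf 𝒳)) ↔
      ∃ (U : Over S) (x : FibCat.overCat U ⥤ᵇ 𝒳),
        AlgSt.RepByAlgSpWith (AlgSp.LocP @Smooth) x ∧
          AlgSt.RepByAlgSpWith AlgSp.IsSurjectiveMor x ∧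
          ∀ (V : U.left.Opens), IsAffineOpen V →
            AlgSt.RepByAlgSpWith AlgSp.IsQuasiAffineMor
              (BasedFunctor.comp
                (AlgSt.overMap (Over.homMk V.ι rfl : Over.mk (V.ι ≫ U.hom) ⟶ U)) x) := by
  constructor
  · intro hΔ
    obtain ⟨U, x, hx1, hx2⟩ := h𝒳.atlas
    refine ⟨U, x, hx1, hx2, fun V hV => ?_⟩
    haveI : IsAffine (Over.mk (V.ι ≫ U.hom)).left := hV
    exact repByAlgSpWith_isQuasiAffineMor_of_diag h𝒳.isStack.1 hΔ _ _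
  · rintro ⟨U, x, hx1, hx2, hV⟩
    exact repByAlgSpWith_isQuasiAffineMor_diag_of_cover h𝒳 U x hx1 hx2 hV

end Groth.Agent.Helper2.AlgStLib.QAffDiag
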