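import Mathlib
import Groth.Prelude.Def_AlgSt5
import Groth.Prelude.Def_AlgSp
import Groth.Agent.Lib.Helper2.Stk.OfPsh
import Groth.Agent.Lib.Helper2.Sch.LocTrivLift

/-!
# The universal property of the quotient stack `[X/G]` towards sheaves (helper2)
-/

set_option autoImplicit false
set_option backward.isDefEq.respectTransparency false
set_option backward.isDefEq.respectTransparency.types false
set_option linter.style.haveILetI false

namespace Groth.Agent.Helper2.QuotUniv
open CategoryTheory CategoryTheory.Limits MonoidalCategory CartesianMonoidalCategory MonObj GrpObj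
  AlgebraicGeometry Opposite
open Groth.Agent.Helper2.StkLib Groth.Agent.Helper2.LocTrivLift
universe w v₂ u₂ v u

section General

variable {C : Type u} [Category.{v} C] {P : Cᵒᵖ ⥤ Type w} {𝒜 : BasedCategory.{v₂, u₂} C}

theorem eltObj_ext (a b : Stk.EltObj P) (e : a.base = b.base)
    (h : a.sec = PshSec.tr e b.sec) : a = b := by
  obtain ⟨ab, as⟩ := a
  obtain ⟨bb, bs⟩ := b
  dsimp only at e
  subst e
  simp only [PshSec.tr_rfl] at h
  subst h
  rfl

theorem eqToHom_hom {a b : Stk.EltObj P} (e : a = b) :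
    (eqToHom e : a ⟶ b).hom = eqToHom (congrArg Stk.EltObj.base e) := by
  subst e
  rfl

/-- Functors over `C` into the category of a presheaf with the same family of sections are
equal. -/
theorem eq_of_ofFunctor_eq {G G' : 𝒜 ⥤ᵇ Stk.ofPsh P}
    (h : PshSec.ofFunctor G = PshSec.ofFunctor G') : G = G' := by
  have hval : ∀ a, PshSec.tr (G.w_obj a).symm (G.obj a).sec =
      PshSec.tr (G'.w_obj a).symm (G'.obj a).sec :=
    fun a => congrArg (fun s => s.val a) h
  have hobj : ∀ a, G.obj a = G'.obj a := by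
    intro a
    refine eltObj_ext _ _ ((G.w_obj a).trans (G'.w_obj a).symm) ?_
    apply PshSec.tr_injective (G.w_obj a).symm
    rw [hval a, PshSec.tr_tr]
  have hF : G.toFunctor = G'.toFunctor := by
    refine CategoryTheory.Functor.ext hobj ?_
    intro a a' g
    apply Stk.EltObj.hom_ext
    have h1 : (G.map g).hom = eqToHom (G.w_obj a) ≫ 𝒜.p.map g ≫ eqToHom (G.w_obj a').symm :=
      Functor.congr_hom G.w g
    have h2 : (G'.map g).hom = eqToHom (G'.w_obj a) ≫ 𝒜.p.map g ≫ eqToHom (G'.w_obj a').symm :=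
      Functor.congr_hom G'.w g
    change (G.map g).hom = (eqToHom (hobj a)).hom ≫ (G'.map g).hom ≫ (eqToHom (hobj a').symm).hom
    rw [eqToHom_hom, eqToHom_hom, h1, h2]
    simp
  cases G; cases G'
  cases hF
  rfl

end General

variable {S : Scheme.{u}}

/-- Descent of sections of a sheaf along a morphism with fppf-local sections. -/
theorem existsUnique_desc_section {E Y : Over S} (π : E ⟶ Y)
    (hloc : NonAbH1.IsLocallyTrivialFor Scheme.fppfPrecoverage (Over.mk π.left : Over Y.left))
    (M : AlgSp.Sp S) (m : M.obj.obj (op E))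
    (hm : ∀ {T : Over S} (e₁ e₂ : T ⟶ E), e₁ ≫ π = e₂ ≫ π →
      M.obj.map e₁.op m = M.obj.map e₂.op m) :
    ∃! m' : M.obj.obj (op Y), M.obj.map π.op m' = m := by
  have hsh : Presieve.IsSheaf (AlgSp.J S) M.obj := (isSheaf_iff_isSheaf_of_type _ _).1 M.property
  have hS := liftSieve_mem π hloc
  let fam : Presieve.FamilyOfElements M.obj (liftSieve π).arrows :=
    fun T' f hf => M.obj.map hf.choose.op m
  have hcompat : fam.Compatible := by
    rw [Presieve.compatible_iff_sieveCompatible]
    intro T' T'' f g hf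
    show M.obj.map ((liftSieve π).downward_closed hf g).choose.op m =
      M.obj.map g.op (M.obj.map hf.choose.op m)
    rw [← FunctorToTypes.map_comp_apply, ← op_comp]
    apply hm
    rw [Category.assoc, hf.choose_spec]
    exact ((liftSieve π).downward_closed hf g).choose_spec
  refine ⟨(hsh _ hS).amalgamate fam hcompat, ?_, ?_⟩
  · have h1 : (liftSieve π).arrows π := ⟨𝟙 E, Category.id_comp _⟩
    have h2 := (hsh _ hS).valid_glue hcompat π h1
    show M.obj.map π.op _ = m
    rw [h2]
    show M.obj.map h1.choose.op m = m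
    have h3 := hm h1.choose (𝟙 E) (by rw [h1.choose_spec, Category.id_comp])
    rw [h3]
    simp
  · intro m'' hm''
    apply (hsh _ hS).isSeparatedFor.ext
    intro T' f hf
    rw [(hsh _ hS).valid_glue hcompat f hf]
    show M.obj.map f.op m'' = M.obj.map hf.choose.op m
    rw [← hm'', ← FunctorToTypes.map_comp_apply, ← op_comp, hf.choose_spec]

section Quot

variable (G : Over S) [GrpObj G] {X : Over S} (aX : AlgGrp.Action G X)
variable (M : AlgSp.Sp S) (f : (AlgSp.yon S).obj X ⟶ M)

/-- evaluation of `f` on a point -/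
def ev {T : Over S} (x : T ⟶ X) : M.obj.obj (op T) := f.hom.app (op T) ⟨x⟩

theorem map_ev {T T' : Over S} (e : T' ⟶ T) (x : T ⟶ X) :
    M.obj.map e.op (ev M f x) = ev M f (e ≫ x) := by
  exact (NatTrans.naturality_apply f.hom e.op (⟨x⟩ : ULift (T ⟶ X))).symm

variable {G aX M f}

theorem ev_act (hf : (AlgSp.yon S).map aX.act ≫ f = (AlgSp.yon S).map (snd G X) ≫ f)
    {T : Over S} (v : T ⟶ G ⊗ X) : ev M f (v ≫ aX.act) = ev M f (v ≫ snd G X) := by
  have := congrArg (fun φ => φ.hom.app (op T) ⟨v⟩) hf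
  exact this

variable (A : AlgSt.QuotObj Scheme.fppfPrecoverage G aX)

theorem ev_invariant (hf : (AlgSp.yon S).map aX.act ≫ f = (AlgSp.yon S).map (snd G X) ≫ f)
    {T : Over S} (e₁ e₂ : T ⟶ A.P) (h : e₁ ≫ A.π = e₂ ≫ A.π) :
    M.obj.map e₁.op (ev M f A.φ) = M.obj.map e₂.op (ev M f A.φ) := by
  rw [map_ev, map_ev]
  obtain ⟨u, hu1, hu2⟩ : ∃ u : T ⟶ G ⊗ A.P, u ≫ A.act.act = e₁ ∧ u ≫ snd G A.P = e₂ :=
    ⟨A.cart.lift e₁ e₂ h, A.cart.lift_fst _ _ _, A.cart.lift_snd _ _ _⟩
  rw [← hu1, ← hu2, Category.assoc, A.eqv, ← Category.assoc, ev_act hf, Category.assoc,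
    whiskerLeft_snd, Category.assoc]

/-- the family of sections defining the functor `[X/G] ⟶ M` -/
noncomputable def sec (hf : (AlgSp.yon S).map aX.act ≫ f = (AlgSp.yon S).map (snd G X) ≫ f) :
    PshSec M.obj (AlgSt.QuotSt Scheme.fppfPrecoverage G aX) where
  val A := (existsUnique_desc_section A.π A.loc M (ev M f A.φ)
    (fun e₁ e₂ h => ev_invariant A hf e₁ e₂ h)).choose
  compat {A B} h := by
    have hA := (existsUnique_desc_section A.π A.loc M (ev M f A.φ)
      (fun e₁ e₂ h => ev_invariant A hf e₁ e₂ h)).choose_spec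
    have hB := (existsUnique_desc_section B.π B.loc M (ev M f B.φ)
      (fun e₁ e₂ h => ev_invariant B hf e₁ e₂ h)).choose_spec
    apply hA.2
    show M.obj.map A.π.op (M.obj.map h.base.op _) = _
    rw [← FunctorToTypes.map_comp_apply, ← op_comp, ← h.cart.w, op_comp,
      FunctorToTypes.map_comp_apply, hB.1, map_ev, h.wφ]

theorem sec_spec (hf : (AlgSp.yon S).map aX.act ≫ f = (AlgSp.yon S).map (snd G X) ≫ f) :
    M.obj.map A.π.op ((sec hf).val A) = ev M f A.φ :=
  (existsUnique_desc_section A.π A.loc M (ev M f A.φ)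
    (fun e₁ e₂ h => ev_invariant A hf e₁ e₂ h)).choose_spec.1

theorem sec_unique (hf : (AlgSp.yon S).map aX.act ≫ f = (AlgSp.yon S).map (snd G X) ≫ f)
    (m : M.obj.obj (op A.base)) (hm : M.obj.map A.π.op m = ev M f A.φ) : m = (sec hf).val A :=
  (existsUnique_desc_section A.π A.loc M (ev M f A.φ)
    (fun e₁ e₂ h => ev_invariant A hf e₁ e₂ h)).choose_spec.2 m hm

end Quot

end Groth.Agent.Helper2.QuotUniv
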