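import Mathlib
import Groth.Agent.Lib.Helper2.AlgSt.QuotUniv

/-!
# The universal property of the quotient stack `[X/G]` towards sheaves, II (helper2)
-/

set_option autoImplicit false
set_option backward.isDefEq.respectTransparency false
set_option backward.isDefEq.respectTransparency.types false
set_option linter.style.haveILetI false

namespace Groth.Agent.Helper2.QuotUniv
open CategoryTheory CategoryTheory.Limits MonoidalCategory CartesianMonoidalCategory MonObj GrpObj
  AlgebraicGeometry Opposite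
open Groth.Agent.Helper2.StkLib Groth.Agent.Helper2.LocTrivLift
universe u

variable {S : Scheme.{u}} {G : Over S} [GrpObj G] {X : Over S} {aX : AlgGrp.Action G X}

/-- the point of `X` over `A.P` given by the equivariant map -/
def pt (A : AlgSt.QuotObj Scheme.fppfPrecoverage G aX) : (AlgSt.ofSch X).obj := ⟨A.P, ⟨A.φ⟩⟩

theorem leftMul_act_eq (T : Over S) :
    (AlgSt.leftMul G T).act = (α_ G G T).inv ≫ (μ[G] ▷ T) := by
  have hμ : fst (G ⊗ G) T ≫ μ[G] = (fst _ _ ≫ fst G G) * (fst _ _ ≫ snd G G) := by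
    rw [Hom.mul_def, ← comp_lift, lift_fst_snd, Category.comp_id]
  apply CartesianMonoidalCategory.hom_ext
  · simp only [AlgSt.leftMul, Category.assoc, lift_fst, lift_snd, whiskerRight_fst,
      whiskerRight_snd, associator_inv_fst_fst, associator_inv_fst_snd, associator_inv_snd, hμ,
      comp_mul, associator_inv_fst_fst_assoc, associator_inv_fst_snd_assoc]
  · simp only [AlgSt.leftMul, Category.assoc, lift_fst, lift_snd, whiskerRight_fst,
      whiskerRight_snd, associator_inv_fst_fst, associator_inv_fst_snd, associator_inv_snd]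

/-- the canonical morphism from the trivial torsor over `A.P` to `A`, over `A.π` -/
noncomputable def canHom (A : AlgSt.QuotObj Scheme.fppfPrecoverage G aX) :
    (AlgSt.quotMap Scheme.fppfPrecoverage G aX).obj (pt A) ⟶ A where
  base := A.π
  top := A.act.act
  eqv := by
    change (AlgSt.leftMul G A.P).act ≫ A.act.act = (G ◁ A.act.act) ≫ A.act.act
    rw [leftMul_act_eq, Category.assoc, A.act.mul_act, Iso.inv_hom_id_assoc]
  cart := A.cart
  wφ := A.eqv

variable (M : AlgSp.Sp S) (f : (AlgSp.yon S).obj X ⟶ M)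
  (hf : (AlgSp.yon S).map aX.act ≫ f = (AlgSp.yon S).map (snd G X) ≫ f)

/-- the sections of a functor `[X/G] ⟶ M` restricting to `f` on `X` -/
theorem ofFunctor_val_eq (φ' : AlgSt.QuotSt Scheme.fppfPrecoverage G aX ⥤ᵇ AlgSt.ofSp M)
    (hφ' : BasedFunctor.comp (AlgSt.quotMap Scheme.fppfPrecoverage G aX) φ' = AlgSt.ofSpMap f)
    (A : AlgSt.QuotObj Scheme.fppfPrecoverage G aX) :
    M.obj.map A.π.op ((PshSec.ofFunctor φ').val A) = ev M f A.φ := by
  have h1 := (PshSec.ofFunctor φ').compat (canHom A)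
  have h2 : (PshSec.ofFunctor φ').val
      ((AlgSt.quotMap Scheme.fppfPrecoverage G aX).obj (pt A)) = ev M f A.φ := by
    have h3 := congrArg (fun Φ => (PshSec.ofFunctor Φ).val (pt A)) hφ'
    simp only [PshSec.ofFunctor_comp] at h3
    have h4 : (PshSec.pullback (AlgSt.quotMap Scheme.fppfPrecoverage G aX)
        (PshSec.ofFunctor φ')).val (pt A) = (PshSec.ofFunctor φ').val
          ((AlgSt.quotMap Scheme.fppfPrecoverage G aX).obj (pt A)) := PshSec.tr_rfl _
    rw [h4] at h3
    rw [h3]
    exact PshSec.tr_rfl _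
  rw [← h2, ← h1]
  rfl

include hf in
theorem comp_toFunctor_sec :
    BasedFunctor.comp (AlgSt.quotMap Scheme.fppfPrecoverage G aX) (sec hf).toFunctor =
      AlgSt.ofSpMap f := by
  apply eq_of_ofFunctor_eq
  rw [PshSec.ofFunctor_comp, PshSec.ofFunctor_toFunctor]
  ext a
  change PshSec.tr _ ((sec hf).val ((AlgSt.quotMap Scheme.fppfPrecoverage G aX).obj a)) =
    PshSec.tr _ (f.hom.app (op a.base) a.sec)
  rw [PshSec.tr_rfl, PshSec.tr_rfl]
  symm
  refine sec_unique ((AlgSt.quotMap Scheme.fppfPrecoverage G aX).obj a) hf _ ?_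
  change M.obj.map (snd G a.base).op (ev M f a.sec.down) =
    ev M f ((G ◁ a.sec.down) ≫ aX.act)
  rw [map_ev, ev_act hf, whiskerLeft_snd]

include hf in
theorem existsUnique_functor :
    ∃! φ : AlgSt.QuotSt Scheme.fppfPrecoverage G aX ⥤ᵇ AlgSt.ofSp M,
      BasedFunctor.comp (AlgSt.quotMap Scheme.fppfPrecoverage G aX) φ = AlgSt.ofSpMap f := by
  refine ⟨(sec hf).toFunctor, comp_toFunctor_sec M f hf, ?_⟩
  intro φ' hφ'
  apply eq_of_ofFunctor_eq
  rw [PshSec.ofFunctor_toFunctor]
  ext A
  exact sec_unique A hf _ (ofFunctor_val_eq M f φ' hφ' A)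

end Groth.Agent.Helper2.QuotUniv
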