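import Mathlib
import Groth.Agent.Lib.Helper2.AlgSt.QuotUniv2

/-!
# Functors from `[X/G]` to a sheaf are invariant sections over `X` (helper2)
-/

set_option autoImplicit false
set_option backward.isDefEq.respectTransparency false
set_option backward.isDefEq.respectTransparency.types false
set_option linter.style.haveILetI false

namespace Groth.Agent.Helper2.QuotUniv
open CategoryTheory CategoryTheory.Limits MonoidalCategory CartesianMonoidalCategory MonObj GrpObj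
  AlgebraicGeometry Opposite
open Groth.Agent.Helper2.StkLib Groth.Agent.Helper2.LocTrivLift
universe u

variable {S : Scheme.{u}} {G : Over S} [GrpObj G] {X : Over S} {aX : AlgGrp.Action G X}

/-- sections of a sheaf pull back injectively along a morphism with fppf-local sections -/
theorem map_injective_of_isLocallyTrivialFor {E Y : Over S} (π : E ⟶ Y)
    (hloc : NonAbH1.IsLocallyTrivialFor Scheme.fppfPrecoverage (Over.mk π.left : Over Y.left))
    (M : AlgSp.Sp S) {m m' : M.obj.obj (op Y)} (h : M.obj.map π.op m = M.obj.map π.op m') :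
    m = m' := by
  have hsh : Presieve.IsSheaf (AlgSp.J S) M.obj := (isSheaf_iff_isSheaf_of_type _ _).1 M.property
  have hS := liftSieve_mem π hloc
  apply (hsh _ hS).isSeparatedFor.ext
  intro T' f hf
  obtain ⟨g₀, hg₀⟩ := hf
  rw [← hg₀, op_comp, FunctorToTypes.map_comp_apply, FunctorToTypes.map_comp_apply, h]

variable (aX) in
/-- the universal point of `X` -/
def univPt : (AlgSt.ofSch X).obj := ⟨X, ⟨𝟙 X⟩⟩

/-- the morphism from a point to the universal point -/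
def toUnivPt (a : (AlgSt.ofSch X).obj) : a ⟶ (⟨X, ⟨𝟙 X⟩⟩ : (AlgSt.ofSch X).obj) where
  hom := a.sec.down
  map_sec := by
    show (⟨a.sec.down ≫ 𝟙 X⟩ : ULift (a.base ⟶ X)) = a.sec
    rw [Category.comp_id]
    rfl

variable {N : AlgSp.Sp S}

/-- the section over `X` of a functor `[X/G] ⟶ N` -/
noncomputable def res (φ : AlgSt.QuotSt Scheme.fppfPrecoverage G aX ⥤ᵇ AlgSt.ofSp N) :
    N.obj.obj (op X) :=
  (PshSec.ofFunctor φ).val ((AlgSt.quotMap Scheme.fppfPrecoverage G aX).obj ⟨X, ⟨𝟙 X⟩⟩)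

theorem val_quotMap (φ : AlgSt.QuotSt Scheme.fppfPrecoverage G aX ⥤ᵇ AlgSt.ofSp N)
    (a : (AlgSt.ofSch X).obj) :
    (PshSec.ofFunctor φ).val ((AlgSt.quotMap Scheme.fppfPrecoverage G aX).obj a) =
      N.obj.map a.sec.down.op (res φ) :=
  ((PshSec.ofFunctor φ).compat
    ((AlgSt.quotMap Scheme.fppfPrecoverage G aX).map (toUnivPt a))).symm

theorem map_val (φ : AlgSt.QuotSt Scheme.fppfPrecoverage G aX ⥤ᵇ AlgSt.ofSp N)
    (A : AlgSt.QuotObj Scheme.fppfPrecoverage G aX) :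
    N.obj.map A.π.op ((PshSec.ofFunctor φ).val A) = N.obj.map A.φ.op (res φ) := by
  have h1 := (PshSec.ofFunctor φ).compat (canHom A)
  rw [val_quotMap] at h1
  exact h1

theorem res_invariant (φ : AlgSt.QuotSt Scheme.fppfPrecoverage G aX ⥤ᵇ AlgSt.ofSp N) :
    N.obj.map aX.act.op (res φ) = N.obj.map (snd G X).op (res φ) := by
  have h1 := map_val φ ((AlgSt.quotMap Scheme.fppfPrecoverage G aX).obj ⟨X, ⟨𝟙 X⟩⟩)
  have h2 : ((AlgSt.quotMap Scheme.fppfPrecoverage G aX).obj ⟨X, ⟨𝟙 X⟩⟩).φ = aX.act := by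
    change (G ◁ 𝟙 X) ≫ aX.act = aX.act
    rw [MonoidalCategory.whiskerLeft_id, Category.id_comp]
  rw [h2] at h1
  exact h1.symm

/-- a functor `[X/G] ⟶ N` is determined by its section over `X` -/
theorem ext_of_res_eq {φ₁ φ₂ : AlgSt.QuotSt Scheme.fppfPrecoverage G aX ⥤ᵇ AlgSt.ofSp N}
    (h : res φ₁ = res φ₂) : φ₁ = φ₂ := by
  apply eq_of_ofFunctor_eq
  ext A
  apply map_injective_of_isLocallyTrivialFor A.π A.loc N
  rw [map_val, map_val, h]

theorem tr_app {N N' : AlgSp.Sp S} (g : N ⟶ N') {T T' : Over S} (h : T = T')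
    (x : N.obj.obj (op T')) :
    g.hom.app (op T) (PshSec.tr h x) = PshSec.tr h (g.hom.app (op T') x) := by
  subst h
  simp

theorem res_comp {N' : AlgSp.Sp S}
    (φ : AlgSt.QuotSt Scheme.fppfPrecoverage G aX ⥤ᵇ AlgSt.ofSp N) (g : N ⟶ N') :
    res (BasedFunctor.comp φ (AlgSt.ofSpMap g)) = g.hom.app (op X) (res φ) := by
  unfold res
  change PshSec.tr _ (g.hom.app _ _) = g.hom.app (op X) (PshSec.tr _ _)
  rw [tr_app]
  rfl

theorem res_eq_of_iso {φ₁ φ₂ : AlgSt.QuotSt Scheme.fppfPrecoverage G aX ⥤ᵇ AlgSt.ofSp N}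
    (h : Nonempty (φ₁ ≅ φ₂)) : res φ₁ = res φ₂ := by
  obtain ⟨e⟩ := h
  unfold res
  rw [PshSec.ofFunctor_eq_of_hom e.hom]

theorem res_of_comp_iso (φ : AlgSt.QuotSt Scheme.fppfPrecoverage G aX ⥤ᵇ AlgSt.ofSp N)
    (f : (AlgSp.yon S).obj X ⟶ N)
    (h : Nonempty (BasedFunctor.comp (AlgSt.quotMap Scheme.fppfPrecoverage G aX) φ ≅
      AlgSt.ofSpMap f)) : res φ = f.hom.app (op X) ⟨𝟙 X⟩ := by
  obtain ⟨e⟩ := h
  have h1 := congrArg (fun s => s.val (⟨X, ⟨𝟙 X⟩⟩ : (AlgSt.ofSch X).obj))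
    (PshSec.ofFunctor_eq_of_hom e.hom)
  simp only [PshSec.ofFunctor_comp] at h1
  have h2 : (PshSec.pullback (AlgSt.quotMap Scheme.fppfPrecoverage G aX)
      (PshSec.ofFunctor φ)).val (⟨X, ⟨𝟙 X⟩⟩ : (AlgSt.ofSch X).obj) = res φ := PshSec.tr_rfl _
  rw [h2] at h1
  rw [h1]
  exact PshSec.tr_rfl _

/-- every invariant section over `X` comes from a functor `[X/G] ⟶ N` -/
theorem exists_res_eq (n : N.obj.obj (op X))
    (hn : N.obj.map aX.act.op n = N.obj.map (snd G X).op n) :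
    ∃ φ : AlgSt.QuotSt Scheme.fppfPrecoverage G aX ⥤ᵇ AlgSt.ofSp N, res φ = n := by
  let f : (AlgSp.yon S).obj X ⟶ N := (AlgSp.J S).uliftYonedaEquiv.symm n
  have hf : (AlgSp.yon S).map aX.act ≫ f = (AlgSp.yon S).map (snd G X) ≫ f := by
    change (AlgSp.J S).uliftYoneda.map aX.act ≫ (AlgSp.J S).uliftYonedaEquiv.symm n =
      (AlgSp.J S).uliftYoneda.map (snd G X) ≫ (AlgSp.J S).uliftYonedaEquiv.symm n
    rw [GrothendieckTopology.uliftYonedaEquiv_symm_naturality_left,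
      GrothendieckTopology.uliftYonedaEquiv_symm_naturality_left, hn]
  refine ⟨(sec hf).toFunctor, ?_⟩
  rw [res_of_comp_iso _ f ⟨eqToIso (comp_toFunctor_sec N f hf)⟩]
  have := (AlgSp.J S).uliftYonedaEquiv_apply f
  rw [← this]
  exact Equiv.apply_symm_apply _ _

end Groth.Agent.Helper2.QuotUniv
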