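import Mathlib
import Groth.Prelude.Def_StCoarse
import Groth.Prelude.Def_W4bk4git07Quot
import Groth.Agent.Lib.Helper2.AlgSt.QuotUniv3

/-!
# `[X/G] ⟶ Y` is a categorical moduli scheme iff `X ⟶ Y` is a categorical quotient (helper2)
-/

set_option autoImplicit false
set_option backward.isDefEq.respectTransparency false
set_option backward.isDefEq.respectTransparency.types false
set_option linter.style.haveILetI false

namespace Groth.Agent.Helper2.QuotUniv
open CategoryTheory CategoryTheory.Limits MonoidalCategory CartesianMonoidalCategory MonObj GrpObj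
  AlgebraicGeometry Opposite
open Groth.Agent.Helper2.StkLib Groth.Agent.Helper2.LocTrivLift
universe u

variable {S : Scheme.{u}} {G : Over S} [GrpObj G] {X Y : Over S} {aX : AlgGrp.Action G X}

theorem isRepresentable_yon (Z : Over S) : ((AlgSp.yon S).obj Z).obj.IsRepresentable :=
  ⟨Z, ⟨(Functor.RepresentableBy.equivUliftYonedaIso _ Z).symm (Iso.refl _)⟩⟩

theorem yon_map_app {Z W T : Over S} (χ : Z ⟶ W) (x : T ⟶ Z) :
    ((AlgSp.yon S).map χ).hom.app (op T) ⟨x⟩ = ⟨x ≫ χ⟩ := rfl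

theorem yon_obj_map {Z T T' : Over S} (e : T' ⟶ T) (x : T ⟶ Z) :
    ((AlgSp.yon S).obj Z).obj.map e.op ⟨x⟩ = ⟨e ≫ x⟩ := rfl

variable (f : X ⟶ Y) (π : AlgSt.QuotSt Scheme.fppfPrecoverage G aX ⥤ᵇ AlgSt.ofSch Y)
  (hπ : Nonempty (BasedFunctor.comp (AlgSt.quotMap Scheme.fppfPrecoverage G aX) π ≅
    AlgSt.ofSpMap ((AlgSp.yon S).map f)))

include hπ in
theorem res_π : res π = ⟨f⟩ := by
  rw [res_of_comp_iso π _ hπ, yon_map_app, Category.id_comp]

include hπ in
theorem isInvariant_of_functor : GIT.IsInvariant aX f := by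
  have h := res_invariant π
  rw [res_π f π hπ, yon_obj_map, yon_obj_map] at h
  exact congrArg ULift.down h

include hπ in
theorem isCatQuot_of_isCatModuliSch (h : AlgSt.IsCatModuliSch π) : GIT.IsCatQuot aX f := by
  refine ⟨isInvariant_of_functor f π hπ, ?_⟩
  intro Z ψ hψ
  have hn : ((AlgSp.yon S).obj Z).obj.map aX.act.op ⟨ψ⟩ =
      ((AlgSp.yon S).obj Z).obj.map (snd G X).op ⟨ψ⟩ := by
    rw [yon_obj_map, yon_obj_map]
    exact congrArg ULift.up hψ
  obtain ⟨φ, hφ⟩ := exists_res_eq (N := (AlgSp.yon S).obj Z) ⟨ψ⟩ hn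
  obtain ⟨g, hg, hguniq⟩ := h.2 ((AlgSp.yon S).obj Z) (isRepresentable_yon Z) φ
  obtain ⟨χ, rfl⟩ := (AlgSp.yon S).map_surjective g
  have key : ∀ χ' : Y ⟶ Z, res (BasedFunctor.comp π (AlgSt.ofSpMap ((AlgSp.yon S).map χ'))) =
      ⟨f ≫ χ'⟩ := by
    intro χ'
    rw [res_comp, res_π f π hπ, yon_map_app]
  refine ⟨χ, ?_, ?_⟩
  · have h1 := res_eq_of_iso hg
    rw [key, hφ] at h1
    exact congrArg ULift.down h1
  · intro χ' hχ'
    have h1 : BasedFunctor.comp π (AlgSt.ofSpMap ((AlgSp.yon S).map χ')) = φ := by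
      apply ext_of_res_eq
      rw [key, hφ, hχ']
    have h2 := hguniq ((AlgSp.yon S).map χ') ⟨eqToIso h1⟩
    exact (AlgSp.yon S).map_injective h2

include hπ in
theorem isCatModuliSch_of_isCatQuot (h : GIT.IsCatQuot aX f) : AlgSt.IsCatModuliSch π := by
  refine ⟨isRepresentable_yon Y, ?_⟩
  intro N hN φ
  obtain ⟨Z, ⟨e⟩⟩ := hN.has_representation
  -- the invariant morphism attached to `φ`
  obtain ⟨ψ, hψ⟩ : ∃ ψ : X ⟶ Z, e.homEquiv ψ = res φ := ⟨e.homEquiv.symm (res φ), by simp⟩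
  have hinv : GIT.IsInvariant aX ψ := by
    apply e.homEquiv.injective
    rw [e.homEquiv_comp, e.homEquiv_comp, hψ]
    exact res_invariant φ
  obtain ⟨χ, hχ, hχuniq⟩ := h.2 Z ψ hinv
  have key : ∀ g : (AlgSp.yon S).obj Y ⟶ N,
      res (BasedFunctor.comp π (AlgSt.ofSpMap g)) =
        N.obj.map f.op ((AlgSp.J S).uliftYonedaEquiv g) := by
    intro g
    rw [res_comp, res_π f π hπ, GrothendieckTopology.uliftYonedaEquiv_apply]
    have := NatTrans.naturality_apply g.hom f.op (⟨𝟙 Y⟩ : ULift (Y ⟶ Y))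
    rw [← this, yon_obj_map, Category.comp_id]
  refine ⟨(AlgSp.J S).uliftYonedaEquiv.symm (e.homEquiv χ), ?_, ?_⟩
  · refine ⟨eqToIso (ext_of_res_eq ?_)⟩
    rw [key, Equiv.apply_symm_apply, ← e.homEquiv_comp, hχ, hψ]
  · intro g' ⟨i⟩
    have h1 := res_eq_of_iso ⟨i⟩
    rw [key] at h1
    obtain ⟨χ', hχ'⟩ : ∃ χ' : Y ⟶ Z, e.homEquiv χ' = (AlgSp.J S).uliftYonedaEquiv g' :=
      ⟨e.homEquiv.symm ((AlgSp.J S).uliftYonedaEquiv g'), by simp⟩
    rw [← hχ', ← e.homEquiv_comp, ← hψ] at h1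
    have h2 := hχuniq χ' (e.homEquiv.injective h1)
    apply (AlgSp.J S).uliftYonedaEquiv.injective
    rw [Equiv.apply_symm_apply, ← hχ', h2]

include hπ in
theorem isCatModuliSch_iff : AlgSt.IsCatModuliSch π ↔ GIT.IsCatQuot aX f :=
  ⟨isCatQuot_of_isCatModuliSch f π hπ, isCatModuliSch_of_isCatQuot f π hπ⟩

end Groth.Agent.Helper2.QuotUniv
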