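import Mathlib
import Groth.Prelude.Def_AlgSt5
import Groth.Prelude.Def_StCoarse

/-!
# Geometric points of `[X/G]` for a general precoverage (helper2)
-/

set_option autoImplicit false
set_option backward.isDefEq.respectTransparency false
set_option backward.isDefEq.respectTransparency.types false
set_option linter.style.haveILetI false

namespace Groth.Agent.Helper2.QuotK
open CategoryTheory CategoryTheory.Limits MonoidalCategory CartesianMonoidalCategory MonObj GrpObj
  AlgebraicGeometry Opposite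
universe u

variable {S : Scheme.{u}} {K : Precoverage Scheme.{u}} [K.HasIsos] {G : Over S} [GrpObj G]
  {X Y : Over S} {aX : AlgGrp.Action G X}

/-- the morphism from the trivial object given by a section of the torsor -/
noncomputable def ofSection (A : AlgSt.QuotObj K G aX) (s : A.base ⟶ A.P)
    (hs : s ≫ A.π = 𝟙 _) :
    (AlgSt.quotMap K G aX).obj ⟨A.base, ⟨s ≫ A.φ⟩⟩ ⟶ A where
  base := 𝟙 _
  top := (G ◁ s) ≫ A.act.act
  eqv := ((AlgSt.quotMap K G A.act).obj ⟨A.base, ⟨s⟩⟩).eqv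
  cart := by
    have h1 := AlgSt.isPullback_whiskerLeft (G := G) s
    have h2 := h1.paste_horiz A.cart
    rw [hs] at h2
    exact h2
  wφ := by
    change ((G ◁ s) ≫ A.act.act) ≫ A.φ = (G ◁ (s ≫ A.φ)) ≫ aX.act
    rw [Category.assoc, A.eqv, MonoidalCategory.whiskerLeft_comp, Category.assoc]

theorem isHomLift_ofSection (A : AlgSt.QuotObj K G aX) (s : A.base ⟶ A.P)
    (hs : s ≫ A.π = 𝟙 _) :
    (AlgSt.QuotSt K G aX).p.IsHomLift (𝟙 A.base) (ofSection A s hs) := by
  show (AlgSt.QuotSt K G aX).p.IsHomLift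
    ((AlgSt.QuotSt K G aX).p.map (ofSection A s hs)) (ofSection A s hs)
  infer_instance

/-- a morphism of `[X/G]` over an isomorphism is an isomorphism -/
theorem isIso_of_isIso_base {A B : AlgSt.QuotObj K G aX} (h : A ⟶ B)
    [IsIso h.base] : IsIso h := by
  have : IsIso h.top := h.cart.isIso_fst_of_isIso
  refine ⟨⟨{ base := inv h.base, top := inv h.top, eqv := ?_, cart := ?_, wφ := ?_ }, ?_, ?_⟩⟩
  · rw [← cancel_mono h.top, Category.assoc, Category.assoc, IsIso.inv_hom_id, Category.comp_id,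
      h.eqv, ← MonoidalCategory.whiskerLeft_comp_assoc, IsIso.inv_hom_id,
      MonoidalCategory.whiskerLeft_id, Category.id_comp]
  · refine IsPullback.of_horiz_isIso ⟨?_⟩
    rw [IsIso.inv_comp_eq, ← Category.assoc, h.cart.w, Category.assoc, IsIso.hom_inv_id,
      Category.comp_id]
  · rw [IsIso.inv_comp_eq, h.wφ]
  · exact AlgSt.QuotObj.hom_ext (IsIso.hom_inv_id h.base) (IsIso.hom_inv_id h.top)
  · exact AlgSt.QuotObj.hom_ext (IsIso.inv_hom_id h.base) (IsIso.inv_hom_id h.top)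

/-- a morphism of `[X/G]` over an identity gives an isomorphism of the fibre category -/
theorem fiber_iso_of_hom {T : Over S}
    {x y : (AlgSt.QuotSt K G aX).p.Fiber T} (h : x.1 ⟶ y.1)
    (hb : (AlgSt.QuotSt K G aX).p.IsHomLift (𝟙 T) h) : Nonempty (x ≅ y) := by
  have h1 : h.base = eqToHom x.2 ≫ 𝟙 T ≫ eqToHom y.2.symm :=
    IsHomLift.fac' (AlgSt.QuotSt K G aX).p (𝟙 T) h
  haveI : IsIso h.base := by rw [h1]; infer_instance
  haveI : IsIso h := isIso_of_isIso_base h
  exact ⟨⟨⟨h, hb⟩, ⟨inv h, inferInstance⟩, Subtype.ext (IsIso.hom_inv_id h),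
    Subtype.ext (IsIso.inv_hom_id h)⟩⟩

variable (K aX) in
/-- the trivial object of the fibre over `T` given by a `T`-point of `X` -/
noncomputable def triv {T : Over S} (a : T ⟶ X) :
    (AlgSt.QuotSt K G aX).p.Fiber T :=
  ⟨(AlgSt.quotMap K G aX).obj ⟨T, ⟨a⟩⟩, rfl⟩

theorem exists_iso_triv {T : Over S} (x : (AlgSt.QuotSt K G aX).p.Fiber T)
    (s : x.1.base ⟶ x.1.P) (hs : s ≫ x.1.π = 𝟙 _) :
    ∃ a : T ⟶ X, Nonempty (triv K aX a ≅ x) := by
  obtain ⟨A, hA⟩ := x
  subst hA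
  refine ⟨s ≫ A.φ, ?_⟩
  exact fiber_iso_of_hom (x := triv K aX (s ≫ A.φ)) (y := ⟨A, rfl⟩) (ofSection A s hs)
    (isHomLift_ofSection A s hs)

theorem triv_iso_of_translate {T : Over S} (a a' : T ⟶ X) (g : T ⟶ G)
    (h : lift g a' ≫ aX.act = a) : Nonempty (triv K aX a ≅ triv K aX a') := by
  subst h
  have hs : lift g (𝟙 T) ≫ snd G T = 𝟙 T := lift_snd _ _
  have e : lift g a' ≫ aX.act = lift g (𝟙 T) ≫ (G ◁ a') ≫ aX.act := by
    rw [← Category.assoc]
    congr 1
    apply CartesianMonoidalCategory.hom_ext <;> simp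
  rw [e]
  exact fiber_iso_of_hom (x := triv K aX (lift g (𝟙 T) ≫ (G ◁ a') ≫ aX.act)) (y := triv K aX a')
    (ofSection ((AlgSt.quotMap K G aX).obj ⟨T, ⟨a'⟩⟩) (lift g (𝟙 T)) hs)
    (isHomLift_ofSection ((AlgSt.quotMap K G aX).obj ⟨T, ⟨a'⟩⟩)
      (lift g (𝟙 T)) hs)


end Groth.Agent.Helper2.QuotK
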