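import Mathlib
import Groth.Prelude.Def_AlgSt5
import Groth.Prelude.Def_ChGrp
import Groth.Agent.Lib.Helper2.AlgSt.QuotGeomPtK
import Groth.Agent.Lib.Helper2.AlgSp.GeomPoint

/-!
# Isomorphism classes of the fibre of `[X/G]` over an algebraically closed field are orbits
(helper2)
-/

set_option autoImplicit false
set_option backward.isDefEq.respectTransparency false
set_option backward.isDefEq.respectTransparency.types false
set_option linter.style.haveILetI false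

namespace Groth.Agent.Helper2.QuotK
open CategoryTheory CategoryTheory.Limits MonoidalCategory CartesianMonoidalCategory MonObj GrpObj
  AlgebraicGeometry Opposite
universe u

variable {S : Scheme.{u}} {K : Precoverage Scheme.{u}} [K.HasIsos] {G : Over S} [GrpObj G]
  {X : Over S} {aX : AlgGrp.Action G X}

theorem exists_section_of_algClosed_etale {Ω : Type u} [Field Ω] [IsAlgClosed Ω]
    (t : Spec (CommRingCat.of Ω) ⟶ S) (A : AlgSt.QuotObj Scheme.etalePrecoverage G aX)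
    (hA : A.base = Over.mk t) : ∃ s : A.base ⟶ A.P, s ≫ A.π = 𝟙 _ := by
  obtain ⟨base, P, act, π, cart, loc, φ, eqv⟩ := A
  dsimp only at hA
  subst hA
  dsimp only
  obtain ⟨R, hR, hsec⟩ := loc
  obtain ⟨κ, U, j, rfl⟩ := R.exists_eq_ofArrows
  rw [Scheme.etalePrecoverage, Scheme.ofArrows_mem_precoverage_iff] at hR
  obtain ⟨hsurj, hP⟩ := hR
  obtain ⟨i, u, hu⟩ := hsurj (Nonempty.some (inferInstance : Nonempty ↥(Spec (CommRingCat.of Ω))))
  haveI : Nonempty (U i) := ⟨u⟩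
  haveI : Etale (j i) := hP i
  obtain ⟨σ, hσ⟩ := AlgSpBasic.exists_section_of_lft_algClosed (j i)
  obtain ⟨s, hs⟩ := hsec (j i) (Presieve.ofArrows.mk i)
  have hs' : s ≫ π.left = j i := hs
  refine ⟨Over.homMk (σ ≫ s) ?_, ?_⟩
  · have hw : π.left ≫ t = P.hom := Over.w π
    show (σ ≫ s) ≫ P.hom = t
    rw [← hw, Category.assoc, ← Category.assoc s, hs', ← Category.assoc, hσ]
    exact Category.id_comp _
  · ext
    show (σ ≫ s) ≫ π.left = 𝟙 _
    rw [Category.assoc, hs', hσ]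

theorem exists_section_fiber_etale {Ω : Type u} [Field Ω] [IsAlgClosed Ω]
    (t : Spec (CommRingCat.of Ω) ⟶ S)
    (A : (AlgSt.QuotObj.forget Scheme.etalePrecoverage G aX).Fiber (Over.mk t)) :
    ∃ s : Over.mk t ⟶ A.1.P, s ≫ A.1.π = eqToHom A.2.symm := by
  obtain ⟨A, hA⟩ := A
  obtain ⟨s, hs⟩ := exists_section_of_algClosed_etale t A hA
  refine ⟨eqToHom hA.symm ≫ s, ?_⟩
  show (eqToHom hA.symm ≫ s) ≫ A.π = eqToHom hA.symm
  rw [Category.assoc, hs]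
  exact Category.comp_id _

theorem exists_translate_of_hom {A B : AlgSt.QuotObj K G aX} (h : A ⟶ B) {T : Over S}
    (tA : T ⟶ A.P) (tB : T ⟶ B.P) (hc : tB ≫ B.π = (tA ≫ A.π) ≫ h.base) :
    ∃ g : T ⟶ G, lift g (tA ≫ A.φ) ≫ aX.act = tB ≫ B.φ := by
  have hw : h.top ≫ B.π = A.π ≫ h.base := h.cart.w
  have hcond : tB ≫ B.π = (tA ≫ h.top) ≫ B.π := by
    rw [hc, Category.assoc, Category.assoc, hw]
  obtain ⟨u, hu1, hu2⟩ : ∃ u : T ⟶ G ⊗ B.P, u ≫ B.act.act = tB ∧ u ≫ snd G B.P = tA ≫ h.top :=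
    ⟨B.cart.lift tB (tA ≫ h.top) hcond, B.cart.lift_fst _ _ _, B.cart.lift_snd _ _ _⟩
  refine ⟨u ≫ fst G B.P, ?_⟩
  have h1 : u = lift (u ≫ fst G B.P) (tA ≫ h.top) := by
    apply CartesianMonoidalCategory.hom_ext
    · rw [lift_fst]
    · rw [lift_snd, hu2]
  have h3 : h.top ≫ B.φ = A.φ := h.wφ
  rw [← hu1, Category.assoc, B.eqv, ← Category.assoc]
  conv_rhs => rw [h1, lift_whiskerLeft, Category.assoc, h3]

theorem triv_iso_of_section {T : Over S} (x : (AlgSt.QuotSt K G aX).p.Fiber T)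
    (t : T ⟶ x.1.P) (ht : t ≫ x.1.π = eqToHom x.2.symm) :
    Nonempty (triv K aX (t ≫ x.1.φ) ≅ x) := by
  obtain ⟨A, hA⟩ := x
  subst hA
  have ht' : t ≫ A.π = 𝟙 _ := ht
  exact fiber_iso_of_hom (x := triv K aX (t ≫ A.φ)) (y := ⟨A, rfl⟩) (ofSection A t ht')
    (isHomLift_ofSection A t ht')

theorem iso_iff_translate {T : Over S} (A B : (AlgSt.QuotSt K G aX).p.Fiber T)
    (tA : T ⟶ A.1.P) (tB : T ⟶ B.1.P) (hA : tA ≫ A.1.π = eqToHom A.2.symm)
    (hB : tB ≫ B.1.π = eqToHom B.2.symm) :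
    Nonempty (A ≅ B) ↔ ∃ g : T ⟶ G, lift g (tA ≫ A.1.φ) ≫ aX.act = tB ≫ B.1.φ := by
  constructor
  · rintro ⟨i⟩
    apply exists_translate_of_hom i.hom.1 tA tB
    have h1 : i.hom.1.base = eqToHom A.2 ≫ 𝟙 T ≫ eqToHom B.2.symm :=
      @IsHomLift.fac' _ _ _ _ (AlgSt.QuotSt K G aX).p _ _ _ _ (𝟙 T) i.hom.1 i.hom.2
    rw [hA, hB, h1]
    simp
  · rintro ⟨g, hg⟩
    obtain ⟨i1⟩ := triv_iso_of_section A tA hA
    obtain ⟨i2⟩ := triv_iso_of_section B tB hB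
    obtain ⟨i3⟩ := triv_iso_of_translate (K := K) (tB ≫ B.1.φ) (tA ≫ A.1.φ) g hg
    exact ⟨i1.symm ≪≫ i3.symm ≪≫ i2⟩

theorem exists_section_triv {T : Over S} (x : T ⟶ X) :
    ∃ (A : (AlgSt.QuotSt K G aX).p.Fiber T) (t : T ⟶ A.1.P),
      t ≫ A.1.π = eqToHom A.2.symm ∧ t ≫ A.1.φ = x := by
  refine ⟨triv K aX x, lift (1 : T ⟶ G) (𝟙 T), ?_, ?_⟩
  · exact lift_snd _ _
  · show lift (1 : T ⟶ G) (𝟙 T) ≫ (G ◁ x) ≫ aX.act = x
    rw [← Category.assoc, lift_whiskerLeft, Category.id_comp, AlgGrp.Action.lift_one_act]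

end Groth.Agent.Helper2.QuotK
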