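import Mathlib
import Groth.Prelude.Def_StCoarse
import Groth.Agent.Lib.Helper2.AlgSt.QuotCatModuli
import Groth.Agent.Lib.Helper2.AlgSp.GeomPoint
import Groth.Agent.Lib.Helper2.AlgSt.CoverSieve

/-!
# Geometric points of `[X/G]` (helper2)
-/

set_option autoImplicit false
set_option backward.isDefEq.respectTransparency false
set_option backward.isDefEq.respectTransparency.types false
set_option linter.style.haveILetI false

namespace Groth.Agent.Helper2.QuotUniv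
open CategoryTheory CategoryTheory.Limits MonoidalCategory CartesianMonoidalCategory MonObj GrpObj
  AlgebraicGeometry Opposite
open Groth.Agent.Helper2.StkLib Groth.Agent.Helper2.LocTrivLift
universe u

variable {S : Scheme.{u}} {G : Over S} [GrpObj G] {X Y : Over S} {aX : AlgGrp.Action G X}

/-- the morphism from the trivial object given by a section of the torsor -/
noncomputable def ofSection (A : AlgSt.QuotObj Scheme.fppfPrecoverage G aX) (s : A.base ⟶ A.P)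
    (hs : s ≫ A.π = 𝟙 _) :
    (AlgSt.quotMap Scheme.fppfPrecoverage G aX).obj ⟨A.base, ⟨s ≫ A.φ⟩⟩ ⟶ A where
  base := 𝟙 _
  top := (G ◁ s) ≫ A.act.act
  eqv := ((AlgSt.quotMap Scheme.fppfPrecoverage G A.act).obj ⟨A.base, ⟨s⟩⟩).eqv
  cart := by
    have h1 := AlgSt.isPullback_whiskerLeft (G := G) s
    have h2 := h1.paste_horiz A.cart
    rw [hs] at h2
    exact h2
  wφ := by
    change ((G ◁ s) ≫ A.act.act) ≫ A.φ = (G ◁ (s ≫ A.φ)) ≫ aX.act
    rw [Category.assoc, A.eqv, MonoidalCategory.whiskerLeft_comp, Category.assoc]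

theorem isHomLift_ofSection (A : AlgSt.QuotObj Scheme.fppfPrecoverage G aX) (s : A.base ⟶ A.P)
    (hs : s ≫ A.π = 𝟙 _) :
    (AlgSt.QuotSt Scheme.fppfPrecoverage G aX).p.IsHomLift (𝟙 A.base) (ofSection A s hs) := by
  show (AlgSt.QuotSt Scheme.fppfPrecoverage G aX).p.IsHomLift
    ((AlgSt.QuotSt Scheme.fppfPrecoverage G aX).p.map (ofSection A s hs)) (ofSection A s hs)
  infer_instance

/-- a morphism of `[X/G]` over an isomorphism is an isomorphism -/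
theorem isIso_of_isIso_base {A B : AlgSt.QuotObj Scheme.fppfPrecoverage G aX} (h : A ⟶ B)
    [IsIso h.base] : IsIso h := by
  have : IsIso h.top := h.cart.isIso_fst_of_isIso
  refine ⟨⟨{ base := inv h.base, top := inv h.top, eqv := ?_, cart := ?_, wφ := ?_ }, ?_, ?_⟩⟩
  · rw [← cancel_mono h.top, Category.assoc, Category.assoc, IsIso.inv_hom_id, Category.comp_id,
      h.eqv, ← MonoidalCategory.whiskerLeft_comp_assoc, IsIso.inv_hom_id,
      MonoidalCategory.whiskerLeft_id, Category.id_comp]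
  · refine IsPullback.of_horiz_isIso ⟨?_⟩
    rw [IsIso.inv_comp_eq, ← Category.assoc, h.cart.w, Category.assoc, IsIso.hom_inv_id,
      Category.comp_id]
  · rw [IsIso.inv_comp_eq, h.wφ]
  · exact AlgSt.QuotObj.hom_ext (IsIso.hom_inv_id h.base) (IsIso.hom_inv_id h.top)
  · exact AlgSt.QuotObj.hom_ext (IsIso.inv_hom_id h.base) (IsIso.inv_hom_id h.top)

/-- a morphism of `[X/G]` over an identity gives an isomorphism of the fibre category -/
theorem fiber_iso_of_hom {T : Over S}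
    {x y : (AlgSt.QuotSt Scheme.fppfPrecoverage G aX).p.Fiber T} (h : x.1 ⟶ y.1)
    (hb : (AlgSt.QuotSt Scheme.fppfPrecoverage G aX).p.IsHomLift (𝟙 T) h) : Nonempty (x ≅ y) := by
  have h1 : h.base = eqToHom x.2 ≫ 𝟙 T ≫ eqToHom y.2.symm :=
    IsHomLift.fac' (AlgSt.QuotSt Scheme.fppfPrecoverage G aX).p (𝟙 T) h
  haveI : IsIso h.base := by rw [h1]; infer_instance
  haveI : IsIso h := isIso_of_isIso_base h
  exact ⟨⟨⟨h, hb⟩, ⟨inv h, inferInstance⟩, Subtype.ext (IsIso.hom_inv_id h),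
    Subtype.ext (IsIso.inv_hom_id h)⟩⟩

variable (aX) in
/-- the trivial object of the fibre over `T` given by a `T`-point of `X` -/
noncomputable def triv {T : Over S} (a : T ⟶ X) :
    (AlgSt.QuotSt Scheme.fppfPrecoverage G aX).p.Fiber T :=
  ⟨(AlgSt.quotMap Scheme.fppfPrecoverage G aX).obj ⟨T, ⟨a⟩⟩, rfl⟩

theorem exists_iso_triv {T : Over S} (x : (AlgSt.QuotSt Scheme.fppfPrecoverage G aX).p.Fiber T)
    (s : x.1.base ⟶ x.1.P) (hs : s ≫ x.1.π = 𝟙 _) :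
    ∃ a : T ⟶ X, Nonempty (triv aX a ≅ x) := by
  obtain ⟨A, hA⟩ := x
  subst hA
  refine ⟨s ≫ A.φ, ?_⟩
  exact fiber_iso_of_hom (x := triv aX (s ≫ A.φ)) (y := ⟨A, rfl⟩) (ofSection A s hs)
    (isHomLift_ofSection A s hs)

theorem triv_iso_of_translate {T : Over S} (a a' : T ⟶ X) (g : T ⟶ G)
    (h : lift g a' ≫ aX.act = a) : Nonempty (triv aX a ≅ triv aX a') := by
  subst h
  have hs : lift g (𝟙 T) ≫ snd G T = 𝟙 T := lift_snd _ _
  have e : lift g a' ≫ aX.act = lift g (𝟙 T) ≫ (G ◁ a') ≫ aX.act := by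
    rw [← Category.assoc]
    congr 1
    apply CartesianMonoidalCategory.hom_ext <;> simp
  rw [e]
  exact fiber_iso_of_hom (x := triv aX (lift g (𝟙 T) ≫ (G ◁ a') ≫ aX.act)) (y := triv aX a')
    (ofSection ((AlgSt.quotMap Scheme.fppfPrecoverage G aX).obj ⟨T, ⟨a'⟩⟩) (lift g (𝟙 T)) hs)
    (isHomLift_ofSection ((AlgSt.quotMap Scheme.fppfPrecoverage G aX).obj ⟨T, ⟨a'⟩⟩)
      (lift g (𝟙 T)) hs)

section fib
variable {𝒳 : BasedCategory.{u, u + 1} (Over S)} {M : AlgSp.Sp S}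

theorem fibSec_eq (π : 𝒳 ⥤ᵇ AlgSt.ofSp M) {T : Over S} (x : 𝒳.p.Fiber T) :
    AlgSt.fibSec π x = PshSec.tr x.2.symm ((PshSec.ofFunctor π).val x.1) := by
  change PshSec.tr _ _ = PshSec.tr _ (PshSec.tr _ _)
  rw [PshSec.tr_tr]

theorem fibSec_eq_of_hom (π : 𝒳 ⥤ᵇ AlgSt.ofSp M) {T : Over S} {x y : 𝒳.p.Fiber T} (h : x ⟶ y) :
    AlgSt.fibSec π x = AlgSt.fibSec π y := by
  rw [fibSec_eq, fibSec_eq, ← (PshSec.ofFunctor π).compat h.1]
  have h2 : 𝒳.p.map h.1 = eqToHom x.2 ≫ 𝟙 T ≫ eqToHom y.2.symm :=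
    @IsHomLift.fac' _ _ _ _ 𝒳.p _ _ _ _ (𝟙 T) h.1 h.2
  rw [h2]
  unfold PshSec.tr
  rw [← FunctorToTypes.map_comp_apply, ← op_comp]
  simp

end fib

variable (f : X ⟶ Y) (π : AlgSt.QuotSt Scheme.fppfPrecoverage G aX ⥤ᵇ AlgSt.ofSch Y)
  (hπ : Nonempty (BasedFunctor.comp (AlgSt.quotMap Scheme.fppfPrecoverage G aX) π ≅
    AlgSt.ofSpMap ((AlgSp.yon S).map f)))

include hπ in
theorem fibSec_triv {T : Over S} (a : T ⟶ X) : AlgSt.fibSec π (triv aX a) = ⟨a ≫ f⟩ := by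
  rw [fibSec_eq]
  change PshSec.tr rfl _ = _
  rw [PshSec.tr_rfl]
  change (PshSec.ofFunctor π).val ((AlgSt.quotMap Scheme.fppfPrecoverage G aX).obj ⟨T, ⟨a⟩⟩) = _
  rw [val_quotMap, res_π f π hπ]
  exact yon_obj_map a f

theorem exists_section_of_algClosed {Ω : Type u} [Field Ω] [IsAlgClosed Ω]
    (t : Spec (CommRingCat.of Ω) ⟶ S) (A : AlgSt.QuotObj Scheme.fppfPrecoverage G aX)
    (hA : A.base = Over.mk t) : ∃ s : A.base ⟶ A.P, s ≫ A.π = 𝟙 _ := by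
  obtain ⟨base, P, act, π, cart, loc, φ, eqv⟩ := A
  dsimp only at hA
  subst hA
  dsimp only
  obtain ⟨R, hR, hsec⟩ := loc
  obtain ⟨κ, U, j, rfl⟩ := R.exists_eq_ofArrows
  rw [Scheme.fppfPrecoverage, Scheme.ofArrows_mem_precoverage_iff] at hR
  obtain ⟨hsurj, hP⟩ := hR
  obtain ⟨i, u, hu⟩ := hsurj (Nonempty.some (inferInstance : Nonempty ↥(Spec (CommRingCat.of Ω))))
  haveI : Nonempty (U i) := ⟨u⟩
  haveI : LocallyOfFinitePresentation (j i) := (hP i).2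
  obtain ⟨σ, hσ⟩ := AlgSpBasic.exists_section_of_lft_algClosed (j i)
  obtain ⟨s, hs⟩ := hsec (j i) (Presieve.ofArrows.mk i)
  have hs' : s ≫ π.left = j i := hs
  refine ⟨Over.homMk (σ ≫ s) ?_, ?_⟩
  · have hw : π.left ≫ t = P.hom := Over.w π
    show (σ ≫ s) ≫ P.hom = t
    rw [← hw, Category.assoc, ← Category.assoc s, hs', ← Category.assoc, hσ]
    exact Category.id_comp _
  · ext
    show (σ ≫ s) ≫ π.left = 𝟙 _
    rw [Category.assoc, hs', hσ]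

include hπ in
theorem geomPtBij
    (horb : ∀ (Ω : Type u) [Field Ω] [IsAlgClosed Ω] (t : Spec (CommRingCat.of Ω) ⟶ S),
      (∀ y : Over.mk t ⟶ Y, ∃ x : Over.mk t ⟶ X, x ≫ f = y) ∧
      (∀ x x' : Over.mk t ⟶ X, x ≫ f = x' ≫ f → ∃ g : Over.mk t ⟶ G, lift g x' ≫ aX.act = x)) :
    AlgSt.GeomPtBij π := by
  intro Ω _ _ t
  obtain ⟨h1, h2⟩ := horb Ω t
  constructor
  · intro m
    obtain ⟨a, ha⟩ := h1 m.down
    refine ⟨triv aX a, ?_⟩
    rw [fibSec_triv f π hπ, ha]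
    rfl
  · intro x y hxy
    obtain ⟨sx, hsx⟩ := exists_section_of_algClosed t x.1 x.2
    obtain ⟨sy, hsy⟩ := exists_section_of_algClosed t y.1 y.2
    obtain ⟨a, ⟨ia⟩⟩ := exists_iso_triv x sx hsx
    obtain ⟨b, ⟨ib⟩⟩ := exists_iso_triv y sy hsy
    have h3 : AlgSt.fibSec π (triv aX a) = AlgSt.fibSec π (triv aX b) := by
      rw [fibSec_eq_of_hom π ia.hom, hxy, ← fibSec_eq_of_hom π ib.hom]
    rw [fibSec_triv f π hπ, fibSec_triv f π hπ] at h3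
    obtain ⟨g, hg⟩ := h2 a b (congrArg ULift.down h3)
    obtain ⟨i⟩ := triv_iso_of_translate a b g hg
    exact ⟨ia.symm ≪≫ i ≪≫ ib⟩

theorem uliftYonedaEquiv_map_comp {N : AlgSp.Sp S} (g : (AlgSp.yon S).obj Y ⟶ N) :
    (AlgSp.J S).uliftYonedaEquiv ((AlgSp.yon S).map f ≫ g) = g.hom.app (op X) ⟨f⟩ := by
  rw [GrothendieckTopology.uliftYonedaEquiv_apply]
  change g.hom.app (op X) (((AlgSp.yon S).map f).hom.app (op X) ⟨𝟙 X⟩) = _
  rw [yon_map_app, Category.id_comp]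

include hπ in
theorem res_comp_ofSpMap {N : AlgSp.Sp S} (g : (AlgSp.yon S).obj Y ⟶ N) :
    res (BasedFunctor.comp π (AlgSt.ofSpMap g)) = g.hom.app (op X) ⟨f⟩ := by
  rw [res_comp, res_π f π hπ]

include hπ in
theorem isCatModuli
    (hcat : ∀ (N : AlgSp.Space S) (ψ : (AlgSp.yon S).obj X ⟶ N.obj),
      (AlgSp.yon S).map aX.act ≫ ψ = (AlgSp.yon S).map (snd G X) ≫ ψ →
        ∃! χ : (AlgSp.yon S).obj Y ⟶ N.obj, (AlgSp.yon S).map f ≫ χ = ψ) :
    AlgSt.IsCatModuli π := by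
  refine ⟨AlgSp.IsAlgSpace.yon_obj _, ?_⟩
  intro N hN φ
  obtain ⟨ψ, hψ⟩ : ∃ ψ : (AlgSp.yon S).obj X ⟶ N, (AlgSp.J S).uliftYonedaEquiv ψ = res φ :=
    ⟨(AlgSp.J S).uliftYonedaEquiv.symm (res φ), Equiv.apply_symm_apply _ _⟩
  have hinv : (AlgSp.yon S).map aX.act ≫ ψ = (AlgSp.yon S).map (snd G X) ≫ ψ := by
    apply (AlgSp.J S).uliftYonedaEquiv.injective
    have h1 := res_invariant φ
    rw [← hψ] at h1
    change (AlgSp.J S).uliftYonedaEquiv ((AlgSp.J S).uliftYoneda.map aX.act ≫ ψ) =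
      (AlgSp.J S).uliftYonedaEquiv ((AlgSp.J S).uliftYoneda.map (snd G X) ≫ ψ)
    rw [← GrothendieckTopology.uliftYonedaEquiv_naturality,
      ← GrothendieckTopology.uliftYonedaEquiv_naturality]
    exact h1
  obtain ⟨χ, hχ, hχuniq⟩ := hcat ⟨N, hN⟩ ψ hinv
  refine ⟨χ, ?_, ?_⟩
  · refine ⟨eqToIso (ext_of_res_eq ?_)⟩
    rw [res_comp_ofSpMap f π hπ, ← uliftYonedaEquiv_map_comp, ← hψ]
    exact congrArg _ hχ
  · intro g' ⟨i⟩
    apply hχuniq
    apply (AlgSp.J S).uliftYonedaEquiv.injective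
    rw [hψ, uliftYonedaEquiv_map_comp, ← res_comp_ofSpMap f π hπ]
    exact res_eq_of_iso ⟨i⟩

include hπ in
theorem isCoarseModuli
    (horb : ∀ (Ω : Type u) [Field Ω] [IsAlgClosed Ω] (t : Spec (CommRingCat.of Ω) ⟶ S),
      (∀ y : Over.mk t ⟶ Y, ∃ x : Over.mk t ⟶ X, x ≫ f = y) ∧
      (∀ x x' : Over.mk t ⟶ X, x ≫ f = x' ≫ f → ∃ g : Over.mk t ⟶ G, lift g x' ≫ aX.act = x))
    (hcat : ∀ (N : AlgSp.Space S) (ψ : (AlgSp.yon S).obj X ⟶ N.obj),
      (AlgSp.yon S).map aX.act ≫ ψ = (AlgSp.yon S).map (snd G X) ≫ ψ →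
        ∃! χ : (AlgSp.yon S).obj Y ⟶ N.obj, (AlgSp.yon S).map f ≫ χ = ψ) :
    AlgSt.IsCoarseModuli π :=
  ⟨isCatModuli f π hπ hcat, geomPtBij f π hπ horb⟩

end Groth.Agent.Helper2.QuotUniv
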