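import Mathlib
import Groth.Prelude.Def_AlgSt5
import Groth.Agent.S12838
import Groth.Agent.Lib.Helper2.AlgSt.QuotGeomPt

/-!
# Points of a torsor and morphisms from trivial objects of `[X/G]` (helper2)
-/

set_option autoImplicit false
set_option backward.isDefEq.respectTransparency false
set_option backward.isDefEq.respectTransparency.types false
set_option linter.style.haveILetI false

namespace Groth.Agent.Helper2.QuotRep
open CategoryTheory CategoryTheory.Limits MonoidalCategory CartesianMonoidalCategory MonObj GrpObj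
  AlgebraicGeometry Opposite
open Groth.Agent.Helper2.QuotUniv
universe u

variable {S : Scheme.{u}} {G : Over S} [GrpObj G] {X : Over S} {aX : AlgGrp.Action G X}

theorem whiskerLeft_unit_leftMul (T : Over S) :
    (G ◁ lift (1 : T ⟶ G) (𝟙 T)) ≫ (AlgSt.leftMul G T).act = 𝟙 (G ⊗ T) := by
  apply AlgGrp.Action.hom_ext_lift₂
  intro Z g t
  rw [← Category.assoc, lift_whiskerLeft, comp_lift, Category.comp_id, comp_one,
    Groth.Agent.S12838.lift_leftMul, _root_.mul_one, Category.comp_id]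

variable {A B : AlgSt.QuotObj Scheme.fppfPrecoverage G aX} (h : B ⟶ A)

/-- the point of `A.P` attached to a morphism from a trivial object to `B` -/
noncomputable def ptOf {T : Over S} {x : T ⟶ X}
    (m : (AlgSt.quotMap Scheme.fppfPrecoverage G aX).obj ⟨T, ⟨x⟩⟩ ⟶ B) : T ⟶ A.P :=
  lift (1 : T ⟶ G) (𝟙 T) ≫ m.top ≫ h.top

theorem ptOf_π {T : Over S} {x : T ⟶ X}
    (m : (AlgSt.quotMap Scheme.fppfPrecoverage G aX).obj ⟨T, ⟨x⟩⟩ ⟶ B) :
    ptOf h m ≫ A.π = m.base ≫ h.base := by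
  have h1 : m.top ≫ B.π = snd G T ≫ m.base := m.cart.w
  have h2 : h.top ≫ A.π = B.π ≫ h.base := h.cart.w
  unfold ptOf
  rw [Category.assoc, Category.assoc, h2, reassoc_of% h1, lift_snd_assoc, Category.id_comp]

theorem ptOf_φ {T : Over S} {x : T ⟶ X}
    (m : (AlgSt.quotMap Scheme.fppfPrecoverage G aX).obj ⟨T, ⟨x⟩⟩ ⟶ B) :
    ptOf h m ≫ A.φ = x := by
  have h1 : m.top ≫ B.φ = (G ◁ x) ≫ aX.act := m.wφ
  unfold ptOf
  rw [Category.assoc, Category.assoc, h.wφ, h1, ← Category.assoc, lift_whiskerLeft,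
    Category.id_comp, AlgGrp.Action.lift_one_act]

theorem unit_top_π {T : Over S} {x : T ⟶ X}
    (m : (AlgSt.quotMap Scheme.fppfPrecoverage G aX).obj ⟨T, ⟨x⟩⟩ ⟶ B) :
    (lift (1 : T ⟶ G) (𝟙 T) ≫ m.top) ≫ B.π = m.base := by
  have h1 : m.top ≫ B.π = snd G T ≫ m.base := m.cart.w
  rw [Category.assoc, h1, lift_snd_assoc, Category.id_comp]

theorem top_eq {T : Over S} {x : T ⟶ X}
    (m : (AlgSt.quotMap Scheme.fppfPrecoverage G aX).obj ⟨T, ⟨x⟩⟩ ⟶ B) :
    m.top = (G ◁ (lift (1 : T ⟶ G) (𝟙 T) ≫ m.top)) ≫ B.act.act := by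
  have h1 : (AlgSt.leftMul G T).act ≫ m.top = (G ◁ m.top) ≫ B.act.act := m.eqv
  rw [MonoidalCategory.whiskerLeft_comp, Category.assoc, ← h1, ← Category.assoc,
    whiskerLeft_unit_leftMul, Category.id_comp]

theorem hom_ext_of_ptOf {T : Over S} {x : T ⟶ X}
    {m m' : (AlgSt.quotMap Scheme.fppfPrecoverage G aX).obj ⟨T, ⟨x⟩⟩ ⟶ B}
    (hb : m.base = m'.base) (hp : ptOf h m = ptOf h m') : m = m' := by
  apply AlgSt.QuotObj.hom_ext hb
  rw [top_eq m, top_eq m']
  congr 2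
  apply h.cart.hom_ext
  · simpa [ptOf, Category.assoc] using hp
  · rw [unit_top_π, unit_top_π, hb]

/-- the morphism from a trivial object attached to a point of `A.P` -/
noncomputable def ofPt {T : Over S} (p : T ⟶ A.P) (b : T ⟶ B.base) (hpb : p ≫ A.π = b ≫ h.base) :
    (AlgSt.quotMap Scheme.fppfPrecoverage G aX).obj ⟨T, ⟨p ≫ A.φ⟩⟩ ⟶ B where
  base := b
  top := (G ◁ h.cart.lift p b hpb) ≫ B.act.act
  eqv := ((AlgSt.quotMap Scheme.fppfPrecoverage G B.act).obj ⟨T, ⟨h.cart.lift p b hpb⟩⟩).eqv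
  cart := by
    have h1 := AlgSt.isPullback_whiskerLeft (G := G) (h.cart.lift p b hpb)
    have h2 := h1.paste_horiz B.cart
    rw [h.cart.lift_snd] at h2
    exact h2
  wφ := by
    change ((G ◁ h.cart.lift p b hpb) ≫ B.act.act) ≫ B.φ = (G ◁ (p ≫ A.φ)) ≫ aX.act
    rw [Category.assoc, B.eqv, ← MonoidalCategory.whiskerLeft_comp_assoc, ← h.wφ,
      ← Category.assoc (h.cart.lift p b hpb), h.cart.lift_fst]

theorem ofPt_base {T : Over S} (p : T ⟶ A.P) (b : T ⟶ B.base) (hpb : p ≫ A.π = b ≫ h.base) :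
    (ofPt h p b hpb).base = b := rfl

theorem ptOf_ofPt {T : Over S} (p : T ⟶ A.P) (b : T ⟶ B.base) (hpb : p ≫ A.π = b ≫ h.base) :
    ptOf h (ofPt h p b hpb) = p := by
  unfold ptOf
  change lift (1 : T ⟶ G) (𝟙 T) ≫ ((G ◁ h.cart.lift p b hpb) ≫ B.act.act) ≫ h.top = p
  rw [← Category.assoc, ← Category.assoc, lift_whiskerLeft, Category.id_comp,
    AlgGrp.Action.lift_one_act, h.cart.lift_fst]

end Groth.Agent.Helper2.QuotRep
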