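import Mathlib
import Groth.Prelude.Def_AlgSt5
import Groth.Agent.Lib.Helper2.AlgSt.QuotRep
import Groth.Agent.Lib.Helper2.FibCat.Yoneda
import Groth.Agent.Lib.Helper2.FibCat.EquivCrit

/-!
# The fibre product `T ×_{[X/G]} X` is the torsor (helper2)
-/

set_option autoImplicit false
set_option backward.isDefEq.respectTransparency false
set_option backward.isDefEq.respectTransparency.types false
set_option linter.style.haveILetI false

namespace Groth.Agent.Helper2.QuotRep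
open CategoryTheory CategoryTheory.Limits MonoidalCategory CartesianMonoidalCategory MonObj GrpObj
  AlgebraicGeometry Opposite
open Groth.Agent.Helper2.QuotUniv Groth.Agent.Helper2.FibCatLib
universe u

variable {S : Scheme.{u}} {G : Over S} [GrpObj G] {X : Over S} {aX : AlgGrp.Action G X}

section comp

variable {A B B' : AlgSt.QuotObj Scheme.fppfPrecoverage G aX}

theorem ptOf_comp_right (h : B ⟶ A) (h' : B' ⟶ B) {T : Over S} {x : T ⟶ X}
    (m : (AlgSt.quotMap Scheme.fppfPrecoverage G aX).obj ⟨T, ⟨x⟩⟩ ⟶ B') :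
    ptOf h (m ≫ h') = ptOf (h' ≫ h) m := by
  unfold ptOf
  change _ ≫ (m.top ≫ h'.top) ≫ h.top = _ ≫ m.top ≫ (h'.top ≫ h.top)
  rw [Category.assoc]

theorem ptOf_comp_left (h : B ⟶ A) {T T' : Over S} {x : T ⟶ X} {x' : T' ⟶ X}
    (k : (⟨T', ⟨x'⟩⟩ : (AlgSt.ofSch X).obj) ⟶ ⟨T, ⟨x⟩⟩)
    (m : (AlgSt.quotMap Scheme.fppfPrecoverage G aX).obj ⟨T, ⟨x⟩⟩ ⟶ B) :
    ptOf h ((AlgSt.quotMap Scheme.fppfPrecoverage G aX).map k ≫ m) = k.hom ≫ ptOf h m := by
  unfold ptOf
  change lift (1 : T' ⟶ G) (𝟙 T') ≫ ((G ◁ k.hom) ≫ m.top) ≫ h.top = _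
  rw [Category.assoc, ← Category.assoc, lift_whiskerLeft, Category.id_comp, ← Category.assoc k.hom,
    comp_lift, comp_one, Category.comp_id]

end comp

variable {U : Over S} (y : FibCat.overCat U ⥤ᵇ AlgSt.QuotSt Scheme.fppfPrecoverage G aX)

variable (aX) in
/-- the second leg -/
noncomputable abbrev leg : FibCat.overCat X ⥤ᵇ AlgSt.QuotSt Scheme.fppfPrecoverage G aX :=
  BasedFunctor.comp (AlgSt.ofOverCat X) (AlgSt.quotMap Scheme.fppfPrecoverage G aX)

theorem hb (t : Over U) : (y.obj t).base = t.left := y.w_obj t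

/-- the canonical morphism to the object over `U` -/
noncomputable def hmor (t : Over U) : y.obj t ⟶ y.obj (Over.mk (𝟙 U)) := y.map (toId U t)

theorem map_base {t t' : Over U} (ψ : t ⟶ t') :
    (y.map ψ).base = eqToHom (hb y t) ≫ ψ.left ≫ eqToHom (hb y t').symm :=
  Functor.congr_hom y.w ψ

theorem hmor_base (t : Over U) :
    (hmor y t).base = eqToHom (hb y t) ≫ t.hom ≫ eqToHom (hb y (Over.mk (𝟙 U))).symm :=
  map_base y (toId U t)

theorem map_comp_hmor {t t' : Over U} (ψ : t ⟶ t') : y.map ψ ≫ hmor y t' = hmor y t :=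
  map_comp_toId U y ψ

/-- the structure morphism of the torsor over `U` -/
noncomputable def π' : (y.obj (Over.mk (𝟙 U))).P ⟶ U :=
  (y.obj (Over.mk (𝟙 U))).π ≫ eqToHom (hb y (Over.mk (𝟙 U)))

theorem cond {T : Over S} (p : T ⟶ (y.obj (Over.mk (𝟙 U))).P) :
    p ≫ (y.obj (Over.mk (𝟙 U))).π =
      eqToHom (hb y (Over.mk (p ≫ π' y))).symm ≫ (hmor y (Over.mk (p ≫ π' y))).base := by
  rw [hmor_base]
  simp [π']

/-- the trivialisation attached to a point of the torsor -/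
noncomputable def mOf {T : Over S} (p : T ⟶ (y.obj (Over.mk (𝟙 U))).P) :
    (AlgSt.quotMap Scheme.fppfPrecoverage G aX).obj
      ⟨T, ⟨p ≫ (y.obj (Over.mk (𝟙 U))).φ⟩⟩ ⟶ y.obj (Over.mk (p ≫ π' y)) :=
  ofPt (hmor y (Over.mk (p ≫ π' y))) p (eqToHom (hb y (Over.mk (p ≫ π' y))).symm) (cond y p)

theorem mOf_base {T : Over S} (p : T ⟶ (y.obj (Over.mk (𝟙 U))).P) :
    (mOf y p).base = eqToHom (hb y (Over.mk (p ≫ π' y))).symm := rfl

theorem ptOf_mOf {T : Over S} (p : T ⟶ (y.obj (Over.mk (𝟙 U))).P) :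
    ptOf (hmor y (Over.mk (p ≫ π' y))) (mOf y p) = p :=
  ptOf_ofPt _ _ _ _

instance {T : Over S} (p : T ⟶ (y.obj (Over.mk (𝟙 U))).P) : IsIso (mOf y p) := by
  haveI : IsIso (mOf y p).base := by
    rw [mOf_base]
    infer_instance
  exact isIso_of_isIso_base _

theorem isHomLift_mOf {T : Over S} (p : T ⟶ (y.obj (Over.mk (𝟙 U))).P) :
    (AlgSt.QuotSt Scheme.fppfPrecoverage G aX).p.IsHomLift (𝟙 T) (mOf y p) := by
  apply IsHomLift.of_fac' _ _ _ rfl (hb y (Over.mk (p ≫ π' y)))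
  change (mOf y p).base = _
  rw [mOf_base, eqToHom_refl, Category.id_comp]
  exact (Category.id_comp _).symm

/-- the base morphism between the objects over `U` -/
noncomputable def fstMap {T T' : Over S} (p : T ⟶ (y.obj (Over.mk (𝟙 U))).P) (k : T' ⟶ T) :
    (Over.mk ((k ≫ p) ≫ π' y) : Over U) ⟶ Over.mk (p ≫ π' y) :=
  Over.homMk k (by simp)

/-- the base morphism between the objects over `X` -/
noncomputable def sndMap {T T' : Over S} (p : T ⟶ (y.obj (Over.mk (𝟙 U))).P) (k : T' ⟶ T) :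
    (Over.mk ((k ≫ p) ≫ (y.obj (Over.mk (𝟙 U))).φ) : Over X) ⟶
      Over.mk (p ≫ (y.obj (Over.mk (𝟙 U))).φ) :=
  Over.homMk k (by simp)

theorem mOf_naturality {T T' : Over S} (p : T ⟶ (y.obj (Over.mk (𝟙 U))).P) (k : T' ⟶ T) :
    mOf y (k ≫ p) ≫ y.map (fstMap y p k) = (leg aX).map (sndMap y p k) ≫ mOf y p := by
  apply hom_ext_of_ptOf (hmor y (Over.mk (p ≫ π' y)))
  · change (mOf y (k ≫ p)).base ≫ (y.map (fstMap y p k)).base = k ≫ (mOf y p).base
    rw [mOf_base, mOf_base, map_base]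
    simp [fstMap]
  · rw [ptOf_comp_right, map_comp_hmor, ptOf_mOf]
    have := ptOf_comp_left (hmor y (Over.mk (p ≫ π' y)))
      ((AlgSt.ofOverCat X).map (sndMap y p k)) (mOf y p)
    rw [ptOf_mOf] at this
    exact this.symm

theorem mOf_naturality' {T T' : Over S} (p : T ⟶ (y.obj (Over.mk (𝟙 U))).P)
    (p' : T' ⟶ (y.obj (Over.mk (𝟙 U))).P) (k : T' ⟶ T) (hk : k ≫ p = p') :
    mOf y p' ≫ y.map (Over.homMk k (by rw [← hk]; simp) :
        (Over.mk (p' ≫ π' y) : Over U) ⟶ Over.mk (p ≫ π' y)) =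
      (leg aX).map (Over.homMk k (by rw [← hk]; simp) :
        (Over.mk (p' ≫ (y.obj (Over.mk (𝟙 U))).φ) : Over X) ⟶
          Over.mk (p ≫ (y.obj (Over.mk (𝟙 U))).φ)) ≫ mOf y p := by
  subst hk
  exact mOf_naturality y p k

theorem sec_comp {Z : Over S} {ξ' ξ : (AlgSt.ofSch Z).obj} (k : ξ' ⟶ ξ) :
    k.hom ≫ ξ.sec.down = ξ'.sec.down :=
  congrArg ULift.down k.map_sec

/-- the object of the fibre product attached to a point of the torsor -/
noncomputable def eObj (ξ : (AlgSt.ofSch (y.obj (Over.mk (𝟙 U))).P).obj) :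
    (FibCat.fp y (leg aX)).obj :=
  ⟨{ fst := Over.mk (ξ.sec.down ≫ π' y)
     snd := Over.mk (ξ.sec.down ≫ (y.obj (Over.mk (𝟙 U))).φ)
     iso := (asIso (mOf y ξ.sec.down)).symm },
   (by
    show (AlgSt.QuotSt Scheme.fppfPrecoverage G aX).p.IsHomLift (𝟙 ξ.base)
      (inv (mOf y ξ.sec.down))
    haveI := isHomLift_mOf y ξ.sec.down
    infer_instance)⟩

/-- first component of the comparison functor on morphisms -/
noncomputable def fstOf {ξ' ξ : (AlgSt.ofSch (y.obj (Over.mk (𝟙 U))).P).obj} (k : ξ' ⟶ ξ) :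
    (Over.mk (ξ'.sec.down ≫ π' y) : Over U) ⟶ Over.mk (ξ.sec.down ≫ π' y) :=
  Over.homMk k.hom (by
    show k.hom ≫ ξ.sec.down ≫ π' y = ξ'.sec.down ≫ π' y
    rw [← sec_comp k, Category.assoc])

/-- second component of the comparison functor on morphisms -/
noncomputable def sndOf {ξ' ξ : (AlgSt.ofSch (y.obj (Over.mk (𝟙 U))).P).obj} (k : ξ' ⟶ ξ) :
    (Over.mk (ξ'.sec.down ≫ (y.obj (Over.mk (𝟙 U))).φ) : Over X) ⟶
      Over.mk (ξ.sec.down ≫ (y.obj (Over.mk (𝟙 U))).φ) :=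
  Over.homMk k.hom (by
    show k.hom ≫ ξ.sec.down ≫ (y.obj (Over.mk (𝟙 U))).φ =
      ξ'.sec.down ≫ (y.obj (Over.mk (𝟙 U))).φ
    rw [← sec_comp k, Category.assoc])

theorem eMap_w {ξ' ξ : (AlgSt.ofSch (y.obj (Over.mk (𝟙 U))).P).obj} (k : ξ' ⟶ ξ) :
    y.map (fstOf y k) ≫ inv (mOf y ξ.sec.down) =
      inv (mOf y ξ'.sec.down) ≫ (leg aX).map (sndOf y k) := by
  rw [IsIso.comp_inv_eq, Category.assoc, IsIso.eq_inv_comp]
  exact mOf_naturality' y _ _ k.hom (sec_comp k)

/-- the comparison functor from the torsor to the fibre product -/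
noncomputable def eFun : AlgSt.ofSch (y.obj (Over.mk (𝟙 U))).P ⥤ᵇ FibCat.fp y (leg aX) where
  toFunctor :=
    { obj := eObj y
      map := fun {ξ' ξ} k => ObjectProperty.homMk
        { fst := fstOf y k
          snd := sndOf y k
          w := eMap_w y k }
      map_id := fun ξ => by
        apply ObjectProperty.hom_ext
        apply CategoricalPullback.hom_ext
        · apply Over.OverMorphism.ext
          rfl
        · apply Over.OverMorphism.ext
          rfl
      map_comp := fun k k' => by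
        apply ObjectProperty.hom_ext
        apply CategoricalPullback.hom_ext
        · apply Over.OverMorphism.ext
          rfl
        · apply Over.OverMorphism.ext
          rfl }
  w := rfl

end Groth.Agent.Helper2.QuotRep
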