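import Mathlib
import Groth.Prelude.Def_AlgSt5
import Groth.Agent.Lib.Helper2.AlgSt.QuotRep2

/-!
# The fibre product `T ×_{[X/G]} X` is the torsor: the equivalence (helper2)
-/

set_option autoImplicit false
set_option backward.isDefEq.respectTransparency false
set_option backward.isDefEq.respectTransparency.types false
set_option linter.style.haveILetI false

namespace Groth.Agent.Helper2.QuotRep
open CategoryTheory CategoryTheory.Limits MonoidalCategory CartesianMonoidalCategory MonObj GrpObj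
  AlgebraicGeometry Opposite
open Groth.Agent.Helper2.QuotUniv Groth.Agent.Helper2.FibCatLib
universe u

variable {S : Scheme.{u}} {G : Over S} [GrpObj G] {X : Over S} {aX : AlgGrp.Action G X}
variable {U : Over S} (y : FibCat.overCat U ⥤ᵇ AlgSt.QuotSt Scheme.fppfPrecoverage G aX)

instance : (eFun y).toFunctor.Faithful where
  map_injective := by
    intro ξ' ξ k k' h
    apply Stk.EltObj.hom_ext
    have h1 := congrArg (fun m : (eFun y).obj ξ' ⟶ (eFun y).obj ξ => m.hom.fst.left) h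
    exact h1

theorem eFun_full_aux {ξ' ξ : (AlgSt.ofSch (y.obj (Over.mk (𝟙 U))).P).obj}
    (a : (Over.mk (ξ'.sec.down ≫ π' y) : Over U) ⟶ Over.mk (ξ.sec.down ≫ π' y))
    (b : (Over.mk (ξ'.sec.down ≫ (y.obj (Over.mk (𝟙 U))).φ) : Over X) ⟶
      Over.mk (ξ.sec.down ≫ (y.obj (Over.mk (𝟙 U))).φ))
    (hw : mOf y ξ'.sec.down ≫ y.map a = (leg aX).map b ≫ mOf y ξ.sec.down) :
    a.left = b.left ∧ b.left ≫ ξ.sec.down = ξ'.sec.down := by
  constructor
  · have hbase := congrArg AlgSt.QuotObj.Hom.base hw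
    change (mOf y _).base ≫ (y.map a).base = b.left ≫ (mOf y _).base at hbase
    rw [mOf_base, mOf_base, map_base] at hbase
    simp only [Category.assoc, eqToHom_trans_assoc, eqToHom_refl, Category.id_comp] at hbase
    exact (cancel_mono _).1 hbase
  · have hp := congrArg (ptOf (hmor y (Over.mk (ξ.sec.down ≫ π' y)))) hw
    rw [ptOf_comp_right, map_comp_hmor, ptOf_mOf] at hp
    have h2 := ptOf_comp_left (hmor y (Over.mk (ξ.sec.down ≫ π' y)))
      ((AlgSt.ofOverCat X).map b) (mOf y ξ.sec.down)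
    rw [ptOf_mOf] at h2
    exact (hp.trans h2).symm

instance : (eFun y).toFunctor.Full where
  map_surjective := by
    intro ξ' ξ m0
    have hw : y.map m0.hom.fst ≫ inv (mOf y ξ.sec.down) =
        inv (mOf y ξ'.sec.down) ≫ (leg aX).map m0.hom.snd := m0.hom.w
    rw [IsIso.comp_inv_eq, Category.assoc, IsIso.eq_inv_comp] at hw
    obtain ⟨h1, h2⟩ := eFun_full_aux y m0.hom.fst m0.hom.snd hw
    refine ⟨⟨m0.hom.snd.left, congrArg ULift.up h2⟩, ?_⟩
    apply ObjectProperty.hom_ext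
    apply CategoricalPullback.hom_ext
    · apply Over.OverMorphism.ext
      exact h1.symm
    · apply Over.OverMorphism.ext
      rfl

theorem exists_iso (z : (FibCat.fp y (leg aX)).obj) :
    ∃ (ξ : (AlgSt.ofSch (y.obj (Over.mk (𝟙 U))).P).obj) (e : (eFun y).toFunctor.obj ξ ≅ z),
      (FibCat.fp y (leg aX)).p.IsHomLift (𝟙 ((FibCat.fp y (leg aX)).p.obj z)) e.hom := by
  obtain ⟨⟨t, x, β⟩, hz⟩ := z
  obtain ⟨xl, ⟨⟨⟩⟩, xh⟩ := x
  have hz' : (AlgSt.QuotSt Scheme.fppfPrecoverage G aX).p.IsHomLift (𝟙 t.left) β.hom := hz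
  have hT : xl = t.left :=
    IsHomLift.codomain_eq (AlgSt.QuotSt Scheme.fppfPrecoverage G aX).p (𝟙 t.left) β.hom
  subst hT
  have hm : β.inv.base = eqToHom (hb y t).symm := by
    have := IsHomLift.fac' (AlgSt.QuotSt Scheme.fppfPrecoverage G aX).p (𝟙 t.left) β.inv
    simp only [Category.id_comp, eqToHom_trans] at this
    exact this
  obtain ⟨p, hp⟩ : ∃ p : t.left ⟶ (y.obj (Over.mk (𝟙 U))).P, p = ptOf (hmor y t) β.inv := ⟨_, rfl⟩
  have hpπ : p ≫ π' y = t.hom := by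
    have h1 := ptOf_π (hmor y t) β.inv
    rw [← hp, hm, hmor_base] at h1
    unfold π'
    rw [reassoc_of% h1]
    simp
  have hpφ : p ≫ (y.obj (Over.mk (𝟙 U))).φ = xh := by
    rw [hp]
    exact ptOf_φ (hmor y t) β.inv
  obtain ⟨eₗ, heₗ⟩ : ∃ eₗ : (Over.mk (p ≫ π' y) : Over U) ≅ t, eₗ.hom.left = 𝟙 _ :=
    ⟨Over.isoMk (Iso.refl _) (by simp [hpπ]), rfl⟩
  obtain ⟨eᵣ, heᵣ⟩ : ∃ eᵣ : (Over.mk (p ≫ (y.obj (Over.mk (𝟙 U))).φ) : Over X) ≅
      (⟨t.left, ⟨⟨⟩⟩, xh⟩ : Over X), eᵣ.hom.left = 𝟙 _ :=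
    ⟨Over.isoMk (Iso.refl _) (by simp [hpφ]), rfl⟩
  refine ⟨⟨t.left, ⟨p⟩⟩, ObjectProperty.isoMk _ (CategoricalPullback.mkIso eₗ eᵣ ?_), ?_⟩
  · show y.map eₗ.hom ≫ β.hom = inv (mOf y p) ≫ (leg aX).map eᵣ.hom
    rw [IsIso.eq_inv_comp, ← Category.assoc, ← Iso.eq_comp_inv]
    apply hom_ext_of_ptOf (hmor y t)
    · change (mOf y p).base ≫ (y.map eₗ.hom).base = eᵣ.hom.left ≫ β.inv.base
      rw [mOf_base, map_base, hm, heₗ, heᵣ]
      simp
    · rw [ptOf_comp_right, map_comp_hmor, ptOf_mOf]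
      have h2 := ptOf_comp_left (hmor y t) ((AlgSt.ofOverCat X).map eᵣ.hom) β.inv
      rw [← hp] at h2
      refine Eq.trans ?_ h2.symm
      change p = eᵣ.hom.left ≫ p
      rw [heᵣ, Category.id_comp]
  · apply IsHomLift.of_fac' _ _ _ rfl rfl
    simp only [eqToHom_refl, Category.id_comp, Category.comp_id]
    exact heₗ

theorem eFun_isEquivOver : FibCat.IsEquivOver (eFun y) :=
  isEquivOver_of_fullyFaithful_of_exists_iso (eFun y) (exists_iso y)

theorem spMapOfOver_eFun :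
    AlgSt.spMapOfOver (BasedFunctor.comp (eFun y) (FibCat.fpFst y (leg aX))) =
      (AlgSp.yon S).map (π' y) := by
  apply ObjectProperty.hom_ext
  ext T x
  show (⟨AlgSt.secHom _ ⟨T.unop, x⟩⟩ : ULift (T.unop ⟶ U)) = ⟨x.down ≫ π' y⟩
  congr 1

end Groth.Agent.Helper2.QuotRep
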