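import Mathlib
import Groth.Prelude.Def_AlgSt5
import Groth.Agent.Lib.Helper2.AlgSt.QuotRep3
import Groth.Agent.Lib.Helper2.AlgSp.Descent

/-!
# Properties of the structure morphism of a torsor, and of `X ⟶ [X/G]` (helper2)
-/

set_option autoImplicit false
set_option backward.isDefEq.respectTransparency false
set_option backward.isDefEq.respectTransparency.types false
set_option linter.style.haveILetI false

namespace Groth.Agent.Helper2.QuotRep
open CategoryTheory CategoryTheory.Limits MonoidalCategory CartesianMonoidalCategory MonObj GrpObj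
  AlgebraicGeometry Opposite MorphismProperty
open Groth.Agent.Helper2.QuotUniv Groth.Agent.Helper2.FibCatLib
universe u

variable {S : Scheme.{u}} {G : Over S} [GrpObj G] {X : Over S} {aX : AlgGrp.Action G X}

/-- the projection `G ×_S V ⟶ V` inherits the properties of `G ⟶ S` -/
theorem prop_snd_left (Q : MorphismProperty Scheme.{u}) [Q.IsStableUnderBaseChange]
    (hG : Q G.hom) (V : Over S) : Q (snd G V).left := by
  have sq := (AlgSt.isPullback_fst_snd G V).map (Over.forget S)
  exact Q.of_isPullback sq hG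

/-- the structure morphism of a torsor inherits the fppf-local properties of `G ⟶ S` -/
theorem prop_π_left (Q : MorphismProperty Scheme.{u}) [Q.IsStableUnderBaseChange]
    [IsZariskiLocalAtTarget Q]
    [Q.DescendsAlong (@Surjective ⊓ @Flat ⊓ @LocallyOfFinitePresentation)]
    (hG : Q G.hom) (A : AlgSt.QuotObj Scheme.fppfPrecoverage G aX) : Q A.π.left := by
  haveI := AlgSpBasic.isLocalAtTarget_fppf_of_descendsAlong Q
  obtain ⟨R, hR, hsec⟩ := A.loc
  apply IsLocalAtTarget.of_forall_pullbackSnd (K := Scheme.fppfPrecoverage) hR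
  intro V f _ hf
  obtain ⟨s, hs⟩ := hsec f hf
  have hs' : s ≫ A.π.left = f := hs
  have hw : s ≫ A.P.hom = f ≫ A.base.hom := by
    rw [← Over.w A.π, ← Category.assoc, hs']
  have hσπ : (Over.homMk s hw : (Over.mk (f ≫ A.base.hom) : Over S) ⟶ A.P) ≫ A.π =
      (Over.homMk f rfl : (Over.mk (f ≫ A.base.hom) : Over S) ⟶ A.base) := by
    ext
    exact hs'
  have h1 := AlgSt.isPullback_whiskerLeft (G := G)
    (Over.homMk s hw : (Over.mk (f ≫ A.base.hom) : Over S) ⟶ A.P)
  have h2 := h1.paste_horiz A.cart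
  rw [hσπ] at h2
  have h4 : IsPullback ((G ◁ (Over.homMk s hw : (Over.mk (f ≫ A.base.hom) : Over S) ⟶ A.P)) ≫
      A.act.act).left (snd G (Over.mk (f ≫ A.base.hom))).left A.π.left f :=
    h2.map (Over.forget S)
  have h5 := h4.isoPullback_hom_snd
  have h6 : Q (h4.isoPullback.hom ≫ pullback.snd A.π.left f) := by
    rw [h5]
    exact prop_snd_left Q hG _
  exact (Q.cancel_left_of_respectsIso _ _).1 h6

theorem flat_codescendsAlong :
    RingHom.CodescendsAlong (@RingHom.Flat) (@RingHom.FaithfullyFlat) := by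
  refine .mk _ RingHom.Flat.respectsIso fun R S T _ _ _ _ _ h h' => ?_
  rw [RingHom.flat_algebraMap_iff] at h' ⊢
  rw [RingHom.faithfullyFlat_algebraMap_iff] at h
  exact Module.Flat.of_flat_tensorProduct R T S

theorem flat_descendsAlong :
    MorphismProperty.DescendsAlong @Flat
      (@Surjective ⊓ @Flat ⊓ @QuasiCompact : MorphismProperty Scheme.{u}) :=
  HasRingHomProperty.descendsAlong_flat flat_codescendsAlong

variable {U : Over S} (y : FibCat.overCat U ⥤ᵇ AlgSt.QuotSt Scheme.fppfPrecoverage G aX)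

theorem prop_π'_left (Q : MorphismProperty Scheme.{u}) [Q.IsStableUnderBaseChange]
    [IsZariskiLocalAtTarget Q]
    [Q.DescendsAlong (@Surjective ⊓ @Flat ⊓ @LocallyOfFinitePresentation)]
    (hG : Q G.hom) : Q (π' y).left := by
  have h1 := prop_π_left Q hG (y.obj (Over.mk (𝟙 U)))
  have h2 : (π' y).left = (y.obj (Over.mk (𝟙 U))).π.left ≫
      (eqToHom (hb y (Over.mk (𝟙 U)))).left := rfl
  rw [h2]
  haveI : IsIso (eqToHom (hb y (Over.mk (𝟙 U)))).left :=
    inferInstanceAs (IsIso ((Over.forget S).map (eqToHom (hb y (Over.mk (𝟙 U))))))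
  exact (Q.cancel_right_of_respectsIso _ _).2 h1

variable (aX) in
theorem repByAlgSpWith_leg (P : MorphismProperty (AlgSp.Sp S))
    (hP : ∀ (U : Over S) (y : FibCat.overCat U ⥤ᵇ AlgSt.QuotSt Scheme.fppfPrecoverage G aX),
      P ((AlgSp.yon S).map (π' y))) :
    AlgSt.RepByAlgSpWith P (leg aX) := by
  intro U y
  refine ⟨⟨(AlgSp.yon S).obj _, AlgSp.IsAlgSpace.yon_obj _⟩, eFun y, eFun_isEquivOver y, ?_⟩
  rw [spMapOfOver_eFun]
  exact hP U y

end Groth.Agent.Helper2.QuotRep
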