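import Mathlib
import Groth.Prelude.Def_AlgSt5
import Groth.Agent.Lib.Helper2.AlgSt.QuotRep4
import Groth.Agent.Lib.Helper2.AlgSt.LocQ.Rep

/-!
# `X ⟶ [X/G]` is representable, flat, locally of finite presentation, surjective, smooth (helper2)
-/

set_option autoImplicit false
set_option backward.isDefEq.respectTransparency false
set_option backward.isDefEq.respectTransparency.types false
set_option linter.style.haveILetI false

namespace Groth.Agent.Helper2.QuotRep
open CategoryTheory CategoryTheory.Limits MonoidalCategory CartesianMonoidalCategory MonObj GrpObj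
  AlgebraicGeometry Opposite MorphismProperty
open Groth.Agent.Helper2.QuotUniv Groth.Agent.Helper2.FibCatLib
open Groth.Agent.Helper2.AlgSpBasic Groth.Agent.Helper2.EtaleLocal
universe u

variable {S : Scheme.{u}} (G : Over S) [GrpObj G] {X : Over S} (aX : AlgGrp.Action G X)

theorem surjective_hom : Surjective G.hom := by
  have h : (η[G]).left ≫ G.hom = 𝟙 S := Over.w η[G]
  refine ⟨fun x => ⟨(η[G]).left x, ?_⟩⟩
  rw [← Scheme.Hom.comp_apply, h]
  rfl

theorem repByAlgSpWith_locP (Q : MorphismProperty Scheme.{u}) [IsEtaleLocalST Q]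
    [IsZariskiLocalAtTarget Q]
    [Q.DescendsAlong (@Surjective ⊓ @Flat ⊓ @LocallyOfFinitePresentation)]
    (hG : Q G.hom) : AlgSt.RepByAlgSpWith (AlgSp.LocP Q) (leg aX) := by
  apply repByAlgSpWith_leg
  intro U y
  exact locP_of_repWith Q (AlgSp.IsAlgSpace.yon_obj _).diag _
    ((AlgSp.repWith_yon_map_iff Q (π' y)).2 (prop_π'_left y Q hG))

theorem repByAlgSpWith_surjective :
    AlgSt.RepByAlgSpWith AlgSp.IsSurjectiveMor (leg aX) := by
  apply repByAlgSpWith_leg
  intro U y
  have h : Surjective (π' y).left := prop_π'_left y @Surjective (surjective_hom G)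
  exact (surjectiveMor_yon_map_iff (π' y)).2 h.surj

end Groth.Agent.Helper2.QuotRep
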