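import Mathlib
import Groth.Prelude.Def_AlgSt5
import Groth.Agent.S12838
import Groth.Agent.Lib.Helper2.AlgSt.QuotGeomPt
import Groth.Agent.Lib.Helper2.FibCat.EquivCrit
import Groth.Agent.Lib.Helper2.Stk.OfPshFp

/-!
# The square `G × X ⇉ X ⟶ [X/G]` is 2-cartesian (helper2)
-/

set_option autoImplicit false
set_option backward.isDefEq.respectTransparency false
set_option backward.isDefEq.respectTransparency.types false
set_option linter.style.haveILetI false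

namespace Groth.Agent.Helper2.QuotTwoCart
open CategoryTheory CategoryTheory.Limits MonoidalCategory CartesianMonoidalCategory MonObj GrpObj
  AlgebraicGeometry Opposite
open Groth.Agent.Helper2.QuotUniv
universe u

variable {S : Scheme.{u}} {G : Over S} [GrpObj G] {X : Over S} (aX : AlgGrp.Action G X)

/-- the translation morphism between trivial objects -/
noncomputable def trHom {T T' : Over S} (f : T ⟶ T') (g : T ⟶ G) (x : T ⟶ X) (x' : T' ⟶ X)
    (hg : lift g (f ≫ x') ≫ aX.act = x) :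
    (AlgSt.quotMap Scheme.fppfPrecoverage G aX).obj ⟨T, ⟨x⟩⟩ ⟶
      (AlgSt.quotMap Scheme.fppfPrecoverage G aX).obj ⟨T', ⟨x'⟩⟩ where
  base := f
  top := Groth.Agent.S12838.tr f g
  eqv := Groth.Agent.S12838.tr_eqv f g
  cart := Groth.Agent.S12838.tr_cart f g
  wφ := Groth.Agent.S12838.tr_phi aX f g x x' hg

theorem lift_fst_snd_act {T : Over S} (v : T ⟶ G ⊗ X) :
    lift (v ≫ fst G X) (𝟙 T ≫ v ≫ snd G X) ≫ aX.act = v ≫ aX.act := by
  rw [Category.id_comp, ← comp_lift, lift_fst_snd, Category.comp_id]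

/-- the component of the 2-isomorphism -/
noncomputable def eComp (w : (AlgSt.ofSch (G ⊗ X)).obj) :
    (AlgSt.quotMap Scheme.fppfPrecoverage G aX).obj ⟨w.base, ⟨w.sec.down ≫ aX.act⟩⟩ ⟶
      (AlgSt.quotMap Scheme.fppfPrecoverage G aX).obj ⟨w.base, ⟨w.sec.down ≫ snd G X⟩⟩ :=
  trHom aX (𝟙 w.base) (w.sec.down ≫ fst G X) _ _ (lift_fst_snd_act aX w.sec.down)

instance (w : (AlgSt.ofSch (G ⊗ X)).obj) : IsIso (eComp aX w) := by
  haveI : IsIso (eComp aX w).base := by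
    show IsIso (𝟙 w.base)
    infer_instance
  exact isIso_of_isIso_base _

theorem isHomLift_eComp (w : (AlgSt.ofSch (G ⊗ X)).obj) :
    (AlgSt.QuotSt Scheme.fppfPrecoverage G aX).p.IsHomLift (𝟙 w.base) (eComp aX w) := by
  show (AlgSt.QuotSt Scheme.fppfPrecoverage G aX).p.IsHomLift
    ((AlgSt.QuotSt Scheme.fppfPrecoverage G aX).p.map (eComp aX w)) (eComp aX w)
  infer_instance

/-- the first leg -/
noncomputable abbrev legA : AlgSt.ofSch (G ⊗ X) ⥤ᵇ AlgSt.QuotSt Scheme.fppfPrecoverage G aX :=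
  BasedFunctor.comp (AlgSt.ofSpMap ((AlgSp.yon S).map aX.act))
    (AlgSt.quotMap Scheme.fppfPrecoverage G aX)

/-- the second leg -/
noncomputable abbrev legB : AlgSt.ofSch (G ⊗ X) ⥤ᵇ AlgSt.QuotSt Scheme.fppfPrecoverage G aX :=
  BasedFunctor.comp (AlgSt.ofSpMap ((AlgSp.yon S).map (snd G X)))
    (AlgSt.quotMap Scheme.fppfPrecoverage G aX)

theorem hom_comp_sec {w w' : (AlgSt.ofSch (G ⊗ X)).obj} (k : w ⟶ w') :
    k.hom ≫ w'.sec.down = w.sec.down :=
  congrArg ULift.down k.map_sec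

theorem whisker_tr {T T' : Over S} (k : T ⟶ T') (g' : T' ⟶ G) :
    (G ◁ k) ≫ Groth.Agent.S12838.tr (𝟙 T') g' =
      Groth.Agent.S12838.tr (𝟙 T) (k ≫ g') ≫ (G ◁ k) := by
  apply AlgGrp.Action.hom_ext_lift₂
  intro Z h t
  conv_lhs => rw [← Category.assoc, lift_whiskerLeft, Groth.Agent.S12838.lift_tr]
  conv_rhs => rw [← Category.assoc, Groth.Agent.S12838.lift_tr, lift_whiskerLeft]
  simp only [Category.assoc, Category.comp_id]

theorem eComp_naturality {w w' : (AlgSt.ofSch (G ⊗ X)).obj} (k : w ⟶ w') :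
    (legA aX).map k ≫ eComp aX w' = eComp aX w ≫ (legB aX).map k := by
  apply AlgSt.QuotObj.hom_ext
  · show k.hom ≫ 𝟙 _ = 𝟙 _ ≫ k.hom
    rw [Category.comp_id, Category.id_comp]
  · show (G ◁ k.hom) ≫ Groth.Agent.S12838.tr (𝟙 w'.base) (w'.sec.down ≫ fst G X) =
      Groth.Agent.S12838.tr (𝟙 w.base) (w.sec.down ≫ fst G X) ≫ (G ◁ k.hom)
    rw [whisker_tr, ← hom_comp_sec k, Category.assoc]

/-- the 2-isomorphism -/
noncomputable def eIso : legA aX ≅ legB aX :=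
  BasedNatIso.mkNatIso
    (NatIso.ofComponents (fun w => asIso (eComp aX w)) (fun k => eComp_naturality aX k))
    (fun w => isHomLift_eComp aX w)

/-- the comparison functor -/
noncomputable abbrev cmp : AlgSt.ofSch (G ⊗ X) ⥤ᵇ
    FibCat.fp (AlgSt.quotMap Scheme.fppfPrecoverage G aX)
      (AlgSt.quotMap Scheme.fppfPrecoverage G aX) :=
  FibCat.fpLift (AlgSt.ofSpMap ((AlgSp.yon S).map aX.act))
    (AlgSt.ofSpMap ((AlgSp.yon S).map (snd G X))) (eIso aX)

instance : (cmp aX).toFunctor.Faithful where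
  map_injective := by
    intro w w' k k' h
    apply Stk.EltObj.hom_ext
    have h1 := congrArg (fun m : (cmp aX).obj w ⟶ (cmp aX).obj w' => m.hom.fst.hom) h
    exact h1

theorem cmp_iso_hom (w : (AlgSt.ofSch (G ⊗ X)).obj) :
    ((cmp aX).obj w).obj.iso.hom = eComp aX w := rfl

/-- cancelling translations -/
theorem tr_cancel {T T' : Over S} (k k₂ : T ⟶ T') (g : T ⟶ G) (g' : T' ⟶ G)
    (h : (G ◁ k) ≫ Groth.Agent.S12838.tr (𝟙 T') g' =
      Groth.Agent.S12838.tr (𝟙 T) g ≫ (G ◁ k₂)) : k ≫ g' = g := by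
  have h1 : lift (1 : T ⟶ G) (𝟙 T) ≫ ((G ◁ k) ≫ Groth.Agent.S12838.tr (𝟙 T') g') ≫ fst G T' =
      lift (1 : T ⟶ G) (𝟙 T) ≫ (Groth.Agent.S12838.tr (𝟙 T) g ≫ (G ◁ k₂)) ≫ fst G T' := by
    rw [h]
  conv_lhs at h1 => rw [← Category.assoc, ← Category.assoc, lift_whiskerLeft,
    Groth.Agent.S12838.lift_tr, lift_fst]
  conv_rhs at h1 => rw [← Category.assoc, ← Category.assoc, Groth.Agent.S12838.lift_tr,
    lift_whiskerLeft, lift_fst]
  simpa using h1

instance : (cmp aX).toFunctor.Full where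
  map_surjective := by
    intro w w' m
    obtain ⟨k, hk⟩ : ∃ k : w.base ⟶ w'.base, k = m.hom.fst.hom := ⟨_, rfl⟩
    obtain ⟨k₂, hk₂⟩ : ∃ k₂ : w.base ⟶ w'.base, k₂ = m.hom.snd.hom := ⟨_, rfl⟩
    have hw := m.hom.w
    rw [cmp_iso_hom, cmp_iso_hom] at hw
    have hb : k = k₂ := by
      have := congrArg AlgSt.QuotObj.Hom.base hw
      change m.hom.fst.hom ≫ 𝟙 _ = 𝟙 _ ≫ m.hom.snd.hom at this
      rw [Category.comp_id, Category.id_comp] at this
      rw [hk, hk₂]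
      exact this
    have ht : (G ◁ k) ≫ Groth.Agent.S12838.tr (𝟙 w'.base) (w'.sec.down ≫ fst G X) =
        Groth.Agent.S12838.tr (𝟙 w.base) (w.sec.down ≫ fst G X) ≫ (G ◁ k₂) := by
      rw [hk, hk₂]
      exact congrArg AlgSt.QuotObj.Hom.top hw
    have hg := tr_cancel k k₂ _ _ ht
    have hs : k₂ ≫ w'.sec.down ≫ snd G X = w.sec.down ≫ snd G X := by
      rw [hk₂]
      exact congrArg ULift.down m.hom.snd.map_sec
    have hv : k ≫ w'.sec.down = w.sec.down := by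
      apply CartesianMonoidalCategory.hom_ext
      · rw [Category.assoc, hg]
      · rw [Category.assoc, hb, hs]
    refine ⟨⟨k, congrArg ULift.up hv⟩, ?_⟩
    apply ObjectProperty.hom_ext
    apply CategoricalPullback.hom_ext
    · apply Stk.EltObj.hom_ext
      exact hk
    · apply Stk.EltObj.hom_ext
      exact hb.trans hk₂

theorem exists_iso (z : (FibCat.fp (AlgSt.quotMap Scheme.fppfPrecoverage G aX)
      (AlgSt.quotMap Scheme.fppfPrecoverage G aX)).obj) :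
    ∃ (ξ : (AlgSt.ofSch (G ⊗ X)).obj) (e : (cmp aX).toFunctor.obj ξ ≅ z),
      (FibCat.fp (AlgSt.quotMap Scheme.fppfPrecoverage G aX)
        (AlgSt.quotMap Scheme.fppfPrecoverage G aX)).p.IsHomLift
        (𝟙 ((FibCat.fp (AlgSt.quotMap Scheme.fppfPrecoverage G aX)
          (AlgSt.quotMap Scheme.fppfPrecoverage G aX)).p.obj z)) e.hom := by
  obtain ⟨⟨p1, p2, iso⟩, hz⟩ := z
  obtain ⟨T, ⟨x⟩⟩ := p1
  obtain ⟨T₂, ⟨x'⟩⟩ := p2
  have hz' : (AlgSt.QuotSt Scheme.fppfPrecoverage G aX).p.IsHomLift (𝟙 T) iso.hom := hz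
  have hT : T₂ = T := IsHomLift.codomain_eq (AlgSt.QuotSt Scheme.fppfPrecoverage G aX).p (𝟙 T)
    iso.hom
  subst hT
  have hf : iso.hom.base = 𝟙 T₂ := by
    have := IsHomLift.fac' (AlgSt.QuotSt Scheme.fppfPrecoverage G aX).p (𝟙 T₂) iso.hom
    simp only [eqToHom_refl, Category.id_comp, Category.comp_id] at this
    exact this
  obtain ⟨g, hg, htop⟩ := (Groth.Agent.S12838.main S G X aX T₂ T₂ (𝟙 T₂) x x').1 iso.hom hf
  rw [Category.id_comp] at hg
  have h1 : (⟨lift g x' ≫ aX.act⟩ : ULift (T₂ ⟶ X)) = ⟨x⟩ := congrArg ULift.up hg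
  have h2 : (⟨lift g x' ≫ snd G X⟩ : ULift (T₂ ⟶ X)) = ⟨x'⟩ := congrArg ULift.up (lift_snd _ _)
  refine ⟨⟨T₂, ⟨lift g x'⟩⟩, ObjectProperty.isoMk _ (CategoricalPullback.mkIso
    (StkLib.eltIsoOfEq h1) (StkLib.eltIsoOfEq h2) ?_), ?_⟩
  · apply AlgSt.QuotObj.hom_ext
    · show 𝟙 T₂ ≫ iso.hom.base = 𝟙 T₂ ≫ 𝟙 T₂
      rw [hf]
    · show (G ◁ 𝟙 T₂) ≫ iso.hom.top =
        Groth.Agent.S12838.tr (𝟙 T₂) (lift g x' ≫ fst G X) ≫ (G ◁ 𝟙 T₂)
      rw [htop, MonoidalCategory.whiskerLeft_id, Category.id_comp, Category.comp_id, lift_fst]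
      rfl
  · apply IsHomLift.of_fac' _ _ _ rfl rfl
    simp only [eqToHom_refl, Category.id_comp, Category.comp_id]
    rfl

theorem isTwoCartOver :
    FibCat.IsTwoCartOver (AlgSt.ofSpMap ((AlgSp.yon S).map aX.act))
      (AlgSt.ofSpMap ((AlgSp.yon S).map (snd G X))) (eIso aX) :=
  FibCatLib.isEquivOver_of_fullyFaithful_of_exists_iso (cmp aX) (exists_iso aX)

end Groth.Agent.Helper2.QuotTwoCart
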