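import Mathlib
import Groth.Prelude.Def_StGerb
import Groth.Agent.Lib.Helper2.FibCat.FpMap
import Groth.Agent.Lib.Helper2.AlgSt.LocQ.Dict2
import Groth.Agent.Lib.Helper2.AlgSt.LocQ.Crux
import Groth.Agent.Lib.Helper2.AlgSt.LocQ.Tower
import Groth.Agent.Lib.Helper2.AlgSt.LocalBase
import Groth.Agent.Lib.Helper2.AlgSt.Substack.FullSubFp
import Groth.Agent.Lib.Helper2.AlgSp.FpqcCover
import Groth.Agent.Lib.Helper2.AlgSp.Fpqc2

/-! Smooth charts of full substacks of slices. -/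
namespace Groth.Agent.Helper2.AlgStLib.SubSlice
open CategoryTheory CategoryTheory.Functor CategoryTheory.Limits AlgebraicGeometry Opposite
open Groth.Agent.Helper2 Groth.Agent.Helper2.FibCatLib Groth.Agent.Helper2.StkLib
open Groth.Agent.Helper2.AlgSpBasic Groth.Agent.Helper2.EtaleLocal
open Groth.Agent.Helper2.AlgStLib Groth.Agent.Helper2.AlgStLib.Pts
open Groth.Agent.Helper2.AlgStLib.LocQ
open Groth.Agent.Helper2.AlgStLib.Substack
universe u

variable {S : Scheme.{u}} {𝒜 ℬ 𝒳 𝒴 : BasedCategory.{u, u + 1} (Over S)}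

/-- Postcomposition with a fully faithful functor does not change 2-fibre products. -/
theorem exists_equiv_fp_postcomp (a : 𝒜 ⥤ᵇ 𝒳) (b : ℬ ⥤ᵇ 𝒳) (j : 𝒳 ⥤ᵇ 𝒴) [j.toFunctor.Full]
    [j.toFunctor.Faithful] :
    ∃ Φ : FibCat.fp a b ⥤ᵇ FibCat.fp (BasedFunctor.comp a j) (BasedFunctor.comp b j),
      FibCat.IsEquivOver Φ ∧
      BasedFunctor.comp Φ (FibCat.fpFst (BasedFunctor.comp a j) (BasedFunctor.comp b j)) =
        FibCat.fpFst a b ∧
      BasedFunctor.comp Φ (FibCat.fpSnd (BasedFunctor.comp a j) (BasedFunctor.comp b j)) =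
        FibCat.fpSnd a b := by
  let eF : a.toFunctor ⋙ j.toFunctor ≅
      (BasedFunctor.id 𝒜).toFunctor ⋙ (BasedFunctor.comp a j).toFunctor := Iso.refl _
  let eG : b.toFunctor ⋙ j.toFunctor ≅
      (BasedFunctor.id ℬ).toFunctor ⋙ (BasedFunctor.comp b j).toFunctor := Iso.refl _
  have heF : ∀ w, 𝒴.p.IsHomLift (𝟙 (𝒜.p.obj w)) (eF.hom.app w) := fun w =>
    FpInv.isHomLift_id' 𝒴 ((BasedFunctor.comp a j).obj w) ((BasedFunctor.comp a j).w_obj w)
  have heG : ∀ x, 𝒴.p.IsHomLift (𝟙 (ℬ.p.obj x)) (eG.hom.app x) := fun x =>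
    FpInv.isHomLift_id' 𝒴 ((BasedFunctor.comp b j).obj x) ((BasedFunctor.comp b j).w_obj x)
  refine ⟨FpMap.fpMap a b (BasedFunctor.comp a j) (BasedFunctor.comp b j) (BasedFunctor.id 𝒜)
    (BasedFunctor.id ℬ) j eF eG heF heG, ?_, rfl, rfl⟩
  exact FpMap.fpMap_isEquivOver a b _ _ _ _ _ eF eG heF heG ReprInv.isEquivOver_id
    ReprInv.isEquivOver_id


/-- A smooth chart of a full substack of a slice: the projection of `V ×_U V` is smooth. -/
theorem locP_smooth_pullback_snd_of_sm_chart {U V : Over S} (R : (FibCat.overCat U).obj → Prop)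
    (v : FibCat.overCat V ⥤ᵇ AlgSt.fullSub (FibCat.overCat U) R) (hv : Sm v) (h : V ⟶ U)
    (θ : BasedFunctor.comp v (AlgSt.subIncl (FibCat.overCat U) R) ≅ AlgSt.overMap h) :
    AlgSp.LocP @Smooth (pullback.snd ((AlgSp.yon S).map h) ((AlgSp.yon S).map h)) := by
  have h1 : Sm (FibCat.fpFst v v) := repByAlgSpWith_fpFst _ v v hv
  obtain ⟨Φ₁, hΦ₁, hΦ₁f, -⟩ := exists_equiv_fp_postcomp v v (AlgSt.subIncl (FibCat.overCat U) R)
  have h2 : Sm (FibCat.fpFst (BasedFunctor.comp v (AlgSt.subIncl (FibCat.overCat U) R))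
      (BasedFunctor.comp v (AlgSt.subIncl (FibCat.overCat U) R))) := by
    refine (repByAlgSpWith_equiv_comp _ Φ₁ hΦ₁ _).1 ?_
    rw [hΦ₁f]
    exact h1
  obtain ⟨Φ₂, hΦ₂, hΦ₂f, -⟩ := exists_equiv_fp_congr_both
    (BasedFunctor.comp v (AlgSt.subIncl (FibCat.overCat U) R)) (AlgSt.overMap h)
    (BasedFunctor.comp v (AlgSt.subIncl (FibCat.overCat U) R)) θ
  have h3 : Sm (FibCat.fpFst (AlgSt.overMap h)
      (BasedFunctor.comp v (AlgSt.subIncl (FibCat.overCat U) R))) := by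
    refine (repByAlgSpWith_equiv_comp _ Φ₂ hΦ₂ _).1 ?_
    rw [hΦ₂f]
    exact h2
  obtain ⟨Φ₃, hΦ₃, hΦ₃f, -⟩ := exists_equiv_fp_congr_right_both (AlgSt.overMap h)
    (BasedFunctor.comp v (AlgSt.subIncl (FibCat.overCat U) R)) (AlgSt.overMap h) θ
  have h4 : Sm (FibCat.fpFst (AlgSt.overMap h) (AlgSt.overMap h)) := by
    refine (repByAlgSpWith_equiv_comp _ Φ₃ hΦ₃ _).1 ?_
    rw [hΦ₃f]
    exact h3
  have sq0 := IsPullback.of_hasPullback ((AlgSp.yon S).map h) ((AlgSp.yon S).map h)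
  have sq : IsPullback (pullback.fst ((AlgSp.yon S).map h) ((AlgSp.yon S).map h))
      (pullback.snd ((AlgSp.yon S).map h) ((AlgSp.yon S).map h))
      (AlgSt.spMapOfOver (BasedFunctor.comp (AlgSt.toOverCat V) (AlgSt.overMap h)))
      ((AlgSp.yon S).map h) := by
    rw [spMapOfOver_toOverCat_overMap]
    exact sq0
  obtain ⟨E, hE, hEv⟩ := exists_equiv_fp_overMap (AlgSt.overMap h) (AlgSt.toOverCat V)
    (toOverCat_isEquivOver V) h _ _ sq
  have hX : AlgSp.IsAlgSpace (pullback ((AlgSp.yon S).map h) ((AlgSp.yon S).map h)) :=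
    isAlgSpace_of_isPullback (AlgSp.IsAlgSpace.yon_obj U).diag (AlgSp.IsAlgSpace.yon_obj V)
      (AlgSp.IsAlgSpace.yon_obj V) _ _ _ _ sq0
  have h5 : Sm (BasedFunctor.comp E (FibCat.fpFst (AlgSt.overMap h) (AlgSt.overMap h))) :=
    (repByAlgSpWith_equiv_comp _ E hE _).2 h4
  have h6 := prop_spMapOfOver_of_repByAlgSpWith (AlgSp.LocP @Smooth)
    (respectsIsoSp_of_stableBC (stableBC_locP _)) ⟨_, hX⟩ _ h5
  rw [hEv] at h6
  exact h6


/-- fpqc descent of smoothness along the morphism itself. -/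
theorem smooth_of_smooth_pullback_snd {U V : Over S} (h : V ⟶ U) [IsAffine U.left]
    [CompactSpace ↥V.left] [Flat h.left] [Surjective h.left]
    (hs : AlgSp.LocP @Smooth (pullback.snd ((AlgSp.yon S).map h) ((AlgSp.yon S).map h))) :
    Smooth h.left := by
  have hV := AlgSp.IsAlgSpace.yon_obj (S := S) V
  have hU := AlgSp.IsAlgSpace.yon_obj (S := S) U
  have hfl : AlgSp.LocP @Flat ((AlgSp.yon S).map h) :=
    (locP_yon_map_iff @Flat h).2 inferInstance
  have hqc : AlgSp.IsQuasiCompactMor ((AlgSp.yon S).map h) :=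
    isQuasiCompactMor_of_isQuasiCompactSp_of_affine hV inferInstance _
      ((isQuasiCompactSp_yon_iff V).2 inferInstance)
  have hsj : AlgSp.IsSurjectiveMor ((AlgSp.yon S).map h) :=
    (surjectiveMor_yon_map_iff h).2 (Surjective.surj (f := h.left))
  have hcov := isFpqcCover_of_flat_qc_surjective hV hU _ hfl hqc hsj
  have sq := IsPullback.of_hasPullback ((AlgSp.yon S).map h) ((AlgSp.yon S).map h)
  have hX : AlgSp.IsAlgSpace (pullback ((AlgSp.yon S).map h) ((AlgSp.yon S).map h)) :=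
    isAlgSpace_of_isPullback hU.diag hV hV _ _ _ _ sq
  have key := isLocalOnBase_fpqc_locP @Smooth (fun _ : PUnit.{u + 1} => (AlgSp.yon S).obj V)
    (fun _ => (AlgSp.yon S).map h) hU (fun _ => hV) hcov ((AlgSp.yon S).map h) hV
    (fun _ => pullback ((AlgSp.yon S).map h) ((AlgSp.yon S).map h))
    (fun _ => pullback.snd ((AlgSp.yon S).map h) ((AlgSp.yon S).map h))
    (fun _ => pullback.fst ((AlgSp.yon S).map h) ((AlgSp.yon S).map h))
    (fun _ => hX) (fun _ => sq)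
  have h1 : AlgSp.LocP @Smooth ((AlgSp.yon S).map h) := key.2 (fun _ => hs)
  exact (locP_yon_map_iff @Smooth h).1 h1

end Groth.Agent.Helper2.AlgStLib.SubSlice
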