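import Mathlib
import Groth.Prelude.Def_StGerb
import Groth.Agent.Lib.Helper2.AlgSt.SubSliceChart
import Groth.Agent.Lib.Helper2.AlgSt.MonoFieldPt
import Groth.Agent.Lib.Helper2.AlgSt.Substack.Reduced
import Groth.Agent.Lib.Helper2.AlgSt.NoethPt

/-! Residual gerbes: field points factor through them, and functoriality. -/
namespace Groth.Agent.Helper2.AlgStLib.ResGerbe
open CategoryTheory CategoryTheory.Functor CategoryTheory.Limits AlgebraicGeometry Opposite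
open Groth.Agent.Helper2 Groth.Agent.Helper2.FibCatLib Groth.Agent.Helper2.StkLib
open Groth.Agent.Helper2.AlgSpBasic Groth.Agent.Helper2.EtaleLocal
open Groth.Agent.Helper2.AlgStLib Groth.Agent.Helper2.AlgStLib.Pts
open Groth.Agent.Helper2.AlgStLib.LocQ
open Groth.Agent.Helper2.AlgStLib.Substack Groth.Agent.Helper2.AlgStLib.SubSlice
open Groth.Agent.Helper2.AlgStLib.FieldPt
universe u

variable {S : Scheme.{u}} {𝒳 𝒴 : BasedCategory.{u, u + 1} (Over S)}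

/-- A nonempty strictly full algebraic substack of the slice over the spectrum of a field is
everything. -/
theorem forall_mem_of_fullSub_field {k : Type u} [Field k] (a : Spec (CommRingCat.of k) ⟶ S)
    (R : (FibCat.overCat (Over.mk a)).obj → Prop)
    (hRiso : ObjectProperty.IsClosedUnderIsomorphisms R)
    (hR : AlgSt.IsAlgStack Scheme.fppfPrecoverage (AlgSt.fullSub (FibCat.overCat (Over.mk a)) R))
    [Nonempty (AlgSt.Points (AlgSt.fullSub (FibCat.overCat (Over.mk a)) R))]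
    (A : (FibCat.overCat (Over.mk a)).obj) : R A := by
  have hK := isAlgStack_overCat (S := S) (Over.mk a)
  obtain ⟨V, v, hv1, hv2⟩ := hR.atlas
  obtain ⟨x⟩ := nonempty_of_sj_chart hR v hv2
  obtain ⟨_, ⟨W₀, hW₀ : IsAffineOpen W₀, rfl⟩, hxW₀, -⟩ :=
    V.left.isBasis_affineOpens.exists_subset_of_mem_open (Set.mem_univ x) isOpen_univ
  obtain ⟨W, hW, hxW⟩ : ∃ W : V.left.Opens, IsAffineOpen W ∧ x ∈ W := ⟨W₀, hW₀, hxW₀⟩
  let V' : Over S := Over.mk (W.ι ≫ V.hom)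
  let i : V' ⟶ V := Over.homMk W.ι rfl
  haveI : Smooth i.left := (inferInstance : Smooth W.ι)
  have hv' : Sm (BasedFunctor.comp (AlgSt.overMap i) v) :=
    sm_comp (isFibGrpd_overCat V') (isFibGrpd_overCat V) _ _ (sm_overMap i) hv1
  obtain ⟨θ⟩ := nonempty_iso_overMap_classify (BasedFunctor.comp
    (BasedFunctor.comp (AlgSt.overMap i) v) (AlgSt.subIncl (FibCat.overCat (Over.mk a)) R))
  set h' := OverFun.classify (BasedFunctor.comp
    (BasedFunctor.comp (AlgSt.overMap i) v) (AlgSt.subIncl (FibCat.overCat (Over.mk a)) R))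
  haveI : IsAffine (Over.mk a).left := (inferInstance : IsAffine (Spec (CommRingCat.of k)))
  haveI : IsAffine V'.left := hW
  haveI : CompactSpace ↥V'.left := inferInstance
  haveI : Flat h'.left := by
    show Flat (X := V'.left) (Y := Spec (CommRingCat.of k)) _
    infer_instance
  haveI : Surjective h'.left := by
    refine ⟨fun y => ⟨(⟨x, hxW⟩ : ↥W), ?_⟩⟩
    haveI : Subsingleton ↥(Over.mk a).left :=
      (inferInstance : Subsingleton ↥(Spec (CommRingCat.of k)))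
    exact Subsingleton.elim _ _
  haveI : Smooth h'.left := smooth_of_smooth_pullback_snd h'
    (locP_smooth_pullback_snd_of_sm_chart R _ hv' h' θ)
  refine forall_mem_of_atlas hK R hRiso hR.isStack (AlgSt.overMap h') (sm_overMap h')
    (sj_overMap h') ?_ A
  have e : ((BasedFunctor.comp (AlgSt.overMap i) v).obj (Over.mk (𝟙 V'))).obj ≅
      (AlgSt.overMap h').obj (Over.mk (𝟙 V')) :=
    ⟨θ.hom.toNatTrans.app _, θ.inv.toNatTrans.app _,
      congrArg (fun t => t.toNatTrans.app (Over.mk (𝟙 V'))) θ.hom_inv_id,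
      congrArg (fun t => t.toNatTrans.app (Over.mk (𝟙 V'))) θ.inv_hom_id⟩
  exact hRiso.of_iso e ((BasedFunctor.comp (AlgSt.overMap i) v).obj (Over.mk (𝟙 V'))).property


/-- A field point in the class of `x` lands in the residual gerbe at `x`. -/
theorem mem_of_isResGerbe (h𝒳 : AlgSt.IsAlgStack Scheme.fppfPrecoverage 𝒳) (x : AlgSt.Points 𝒳)
    (Q : 𝒳.obj → Prop) (hQ : Gerb.IsResGerbe Scheme.fppfPrecoverage 𝒳 x Q)
    {K : Type u} [Field K] (a : Spec (CommRingCat.of K) ⟶ S)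
    (p : FibCat.overCat (Over.mk a) ⥤ᵇ 𝒳)
    (hp : ∀ t : ↥(Over.mk a).left, AlgSt.Points.ofChart p t = x)
    (A : (FibCat.overCat (Over.mk a)).obj) : Q (p.obj A) := by
  obtain ⟨hQiso, hQalg, -, -, hne, -, hQx⟩ := hQ
  have hK := isAlgStack_overCat (S := S) (Over.mk a)
  have hE := fpSubCmp_isEquivOver p Q hQiso
  have hR : AlgSt.IsAlgStack Scheme.fppfPrecoverage
      (AlgSt.fullSub (FibCat.overCat (Over.mk a)) (fun A => Q (p.obj A))) :=
    (isAlgStack_iff_of_isEquivOver _ (fpSubCmp p Q) hE).2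
      (isAlgStack_fp _ hK hQalg h𝒳 p (AlgSt.subIncl 𝒳 Q))
  have hRiso : ObjectProperty.IsClosedUnderIsomorphisms (fun A => Q (p.obj A)) :=
    ⟨fun {a b} e ha => hQiso.of_iso (p.toFunctor.mapIso e) ha⟩
  haveI : Nonempty (AlgSt.Points
      (AlgSt.fullSub (FibCat.overCat (Over.mk a)) (fun A => Q (p.obj A)))) := by
    obtain ⟨z₀⟩ := hne
    let t : ↥(Over.mk a).left := (show ↥(Spec (CommRingCat.of K)) from default)
    have h1 : AlgSt.Points.map p (ptEquiv _ t) = AlgSt.Points.map (AlgSt.subIncl 𝒳 Q) z₀ := by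
      rw [hQx]
      exact hp t
    obtain ⟨w, -, -⟩ := exists_points_fp_of_map_eq hQalg.isStack.1 h𝒳.isStack.1 hK.isStack.1
      (AlgSt.subIncl 𝒳 Q) p (ptEquiv _ t) z₀ h1
    obtain ⟨s, -⟩ := isSurjective_of_isEquivOver _ hE w
    exact ⟨s⟩
  exact forall_mem_of_fullSub_field a _ hRiso hR A

/-- `S16813`. -/
theorem factors_of_isResGerbe (h𝒳 : AlgSt.IsAlgStack Scheme.fppfPrecoverage 𝒳)
    (x : AlgSt.Points 𝒳) (Q : 𝒳.obj → Prop)
    (hQ : Gerb.IsResGerbe Scheme.fppfPrecoverage 𝒳 x Q)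
    {K : Type u} [Field K] (a : Spec (CommRingCat.of K) ⟶ S)
    (p : FibCat.overCat (Over.mk a) ⥤ᵇ 𝒳)
    (hp : ∀ t : ↥(Over.mk a).left, AlgSt.Points.ofChart p t = x) :
    ∃ q : FibCat.overCat (Over.mk a) ⥤ᵇ AlgSt.fullSub 𝒳 Q,
      Nonempty (BasedFunctor.comp q (AlgSt.subIncl 𝒳 Q) ≅ p) :=
  ⟨corestrict p Q (mem_of_isResGerbe h𝒳 x Q hQ a p hp), ⟨Iso.refl _⟩⟩


/-- If a strictly full substack contains a flat, locally finitely presented, surjective chart, it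
is everything. -/
theorem forall_mem_of_fppf_chart (h𝒳 : AlgSt.IsAlgStack Scheme.fppfPrecoverage 𝒳) (Q : 𝒳.obj → Prop)
    (hQiso : ObjectProperty.IsClosedUnderIsomorphisms Q)
    (hQst : Stk.IsStack (QuotSh.J Scheme.fppfPrecoverage S) (AlgSt.fullSub 𝒳 Q)) {V : Over S}
    (v : FibCat.overCat V ⥤ᵇ 𝒳) (hv1 : AlgSt.RepByAlgSpWith (AlgSp.LocP @Flat) v)
    (hv1' : AlgSt.RepByAlgSpWith (AlgSp.LocP @LocallyOfFinitePresentation) v) (hv2 : Sj v)
    (hv : Q (v.obj (Over.mk (𝟙 V)))) (y : 𝒳.obj) : Q y := by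
  have hfib := h𝒳.isStack.1
  have hhom : ∀ {a b : 𝒳.obj} (_ : b ⟶ a), Q a → Q b := fun φ ha =>
    of_hom_of_isFibGrpd_fullSub Q hQiso hfib hQst.1 φ ha
  haveI := isFibered_of_isFibGrpd 𝒳.p hfib
  let U : Over S := 𝒳.p.obj y
  let x : FibCat.overCat U ⥤ᵇ 𝒳 := yonedaFunctor (rfl : 𝒳.p.obj y = U)
  obtain ⟨e, he⟩ := yonedaFunctor_obj_id_iso (rfl : 𝒳.p.obj y = U)
  obtain ⟨V₀, c, h₀, ⟨θ⟩, -, hfl, hfp, hsurj⟩ := exists_chart_fp hfib v hv1 hv1' U x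
  haveI := hfl
  haveI := hfp
  haveI : Surjective h₀.left := hsurj hv2
  let R : Sieve U :=
    { arrows := fun A f => Q (x.obj (Over.mk f))
      downward_closed := fun {A B f} hf g =>
        hhom (x.map (Over.homMk g rfl : Over.mk (g ≫ f) ⟶ Over.mk f)) hf }
  have hR0 : R h₀ := by
    change Q (x.obj (Over.mk h₀))
    let ξ := c.obj (Over.mk (𝟙 V₀))
    have m5 : v.obj ξ.obj.snd ⟶ v.obj (Over.mk (𝟙 V)) := v.map (toId V ξ.obj.snd)
    have m4 : x.obj ξ.obj.fst ⟶ v.obj ξ.obj.snd := ξ.obj.iso.hom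
    have m3 : x.obj ((AlgSt.overMap h₀).obj (Over.mk (𝟙 V₀))) ⟶ x.obj ξ.obj.fst :=
      x.map (θ.inv.toNatTrans.app (Over.mk (𝟙 V₀)))
    have m2 : x.obj (Over.mk h₀) ⟶ x.obj ((AlgSt.overMap h₀).obj (Over.mk (𝟙 V₀))) :=
      x.map (Over.homMk (𝟙 V₀) (by
        change 𝟙 V₀ ≫ (𝟙 V₀ ≫ h₀) = h₀
        rw [Category.id_comp, Category.id_comp]))
    exact hhom m2 (hhom m3 (hhom m4 (hhom m5 hv)))
  have hR : R ∈ QuotSh.J Scheme.fppfPrecoverage S U := sieve_mem_J_of_fppf h₀ R hR0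
  refine mem_of_local_of_isStack_subCat _ h𝒳.isStack Q hQiso hQst R hR y rfl ?_
  intro A f hf y' φ hφ
  have h1 : 𝒳.p.IsHomLift f (x.map (toId U (Over.mk f))) :=
    isHomLift_map_over U x (toId U (Over.mk f))
  haveI h2 : 𝒳.p.IsHomLift f (x.map (toId U (Over.mk f)) ≫ e.hom) :=
    isHomLift_congr' 𝒳.p (Category.comp_id _) _
      (inferInstance : 𝒳.p.IsHomLift (f ≫ 𝟙 U) (x.map (toId U (Over.mk f)) ≫ e.hom))
  haveI := hφ
  obtain ⟨χ, -, -⟩ := IsFibGrpd.existsUnique 𝒳.p hfib (𝟙 A) f f (Category.id_comp _).symm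
    (x.map (toId U (Over.mk f)) ≫ e.hom) φ
  exact hhom χ hf


/-- A morphism of algebraic stacks maps the residual gerbe at a point into the residual gerbe at
the image point. -/
theorem map_mem_of_isResGerbe (h𝒳 : AlgSt.IsAlgStack Scheme.fppfPrecoverage 𝒳)
    (h𝒴 : AlgSt.IsAlgStack Scheme.fppfPrecoverage 𝒴) (f : 𝒳 ⥤ᵇ 𝒴) (x : AlgSt.Points 𝒳)
    (Q : 𝒳.obj → Prop) (hQ : Gerb.IsResGerbe Scheme.fppfPrecoverage 𝒳 x Q)
    (Q' : 𝒴.obj → Prop)
    (hQ' : Gerb.IsResGerbe Scheme.fppfPrecoverage 𝒴 (AlgSt.Points.map f x) Q')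
    (ξ : 𝒳.obj) (hξ : Q ξ) : Q' (f.obj ξ) := by
  obtain ⟨hQiso, hQalg, hred, hN, hne, hsub, hQx⟩ := hQ
  obtain ⟨k, hk, a, z, hz1, hz2, hz3⟩ :=
    (reduced_locNoeth_singleton_iff hQalg).1 ⟨hred, hN, hne, hsub⟩
  have hE := fpSubCmp_isEquivOver (BasedFunctor.comp (AlgSt.subIncl 𝒳 Q) f) Q' hQ'.1
  have hRalg : AlgSt.IsAlgStack Scheme.fppfPrecoverage (AlgSt.fullSub (AlgSt.fullSub 𝒳 Q)
      (fun ζ => Q' ((BasedFunctor.comp (AlgSt.subIncl 𝒳 Q) f).obj ζ))) :=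
    (isAlgStack_iff_of_isEquivOver _
      (fpSubCmp (BasedFunctor.comp (AlgSt.subIncl 𝒳 Q) f) Q') hE).2
      (isAlgStack_fp _ hQalg hQ'.2.1 h𝒴 _ (AlgSt.subIncl 𝒴 Q'))
  have hRiso : ObjectProperty.IsClosedUnderIsomorphisms
      (fun ζ : (AlgSt.fullSub 𝒳 Q).obj =>
        Q' ((BasedFunctor.comp (AlgSt.subIncl 𝒳 Q) f).obj ζ)) :=
    ⟨fun {a b} e ha =>
      hQ'.1.of_iso ((BasedFunctor.comp (AlgSt.subIncl 𝒳 Q) f).toFunctor.mapIso e) ha⟩
  have hv : Q' ((BasedFunctor.comp (AlgSt.subIncl 𝒳 Q) f).obj (z.obj (Over.mk (𝟙 _)))) := by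
    refine mem_of_isResGerbe h𝒴 _ Q' hQ' a
      (BasedFunctor.comp z (BasedFunctor.comp (AlgSt.subIncl 𝒳 Q) f)) (fun s => ?_)
      (Over.mk (𝟙 _))
    rw [ofChart_eq_map_ptEquiv, map_comp, map_comp, hQx]
  exact forall_mem_of_fppf_chart hQalg _ hRiso hRalg.isStack z hz3 hz1 hz2 hv ⟨ξ, hξ⟩

/-- `S16814`. -/
theorem exists_map_of_isResGerbe (h𝒳 : AlgSt.IsAlgStack Scheme.fppfPrecoverage 𝒳)
    (h𝒴 : AlgSt.IsAlgStack Scheme.fppfPrecoverage 𝒴) (f : 𝒳 ⥤ᵇ 𝒴) (x : AlgSt.Points 𝒳)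
    (Q : 𝒳.obj → Prop) (hQ : Gerb.IsResGerbe Scheme.fppfPrecoverage 𝒳 x Q)
    (Q' : 𝒴.obj → Prop)
    (hQ' : Gerb.IsResGerbe Scheme.fppfPrecoverage 𝒴 (AlgSt.Points.map f x) Q') :
    ∃ g : AlgSt.fullSub 𝒳 Q ⥤ᵇ AlgSt.fullSub 𝒴 Q',
      Nonempty (BasedFunctor.comp g (AlgSt.subIncl 𝒴 Q') ≅
        BasedFunctor.comp (AlgSt.subIncl 𝒳 Q) f) :=
  ⟨corestrict (BasedFunctor.comp (AlgSt.subIncl 𝒳 Q) f) Q'
    (fun ζ => map_mem_of_isResGerbe h𝒳 h𝒴 f x Q hQ Q' hQ' ζ.obj ζ.property), ⟨Iso.refl _⟩⟩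

end Groth.Agent.Helper2.AlgStLib.ResGerbe
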