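import Mathlib
import Groth.Prelude.Def_AlgSt4
import Groth.Agent.Lib.Helper2.AlgSt.FaithfulCrit
import Groth.Agent.Lib.Helper2.AlgSt.RelDiag
import Groth.Agent.Lib.Helper2.AlgSt.LocQ.Dict2
import Groth.Agent.Lib.Helper2.AlgSt.Cancel
import Groth.Agent.Lib.Helper2.AlgSt.FpAlg
import Groth.Agent.Lib.Helper2.AlgSt.Atlas
import Groth.Agent.Lib.Helper2.AlgSt.OpenCover.Setoid
import Groth.Agent.S12792
import Groth.Agent.S12765

/-!
# A stack with a smooth surjective cover by an algebraic space is algebraic (helper2)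

Uses the smooth bootstrap for algebraic spaces.
-/

set_option autoImplicit false
set_option synthInstance.maxHeartbeats 400000
set_option maxHeartbeats 4000000
set_option linter.style.haveILetI false
set_option linter.unusedSectionVars false
set_option linter.unusedVariables false
set_option linter.unusedSimpArgs false
set_option linter.unnecessarySimpa false

open CategoryTheory CategoryTheory.Functor CategoryTheory.Limits AlgebraicGeometry Opposite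

universe v₄ u₄ v₃ u₃ v₂ u₂ v w u

namespace Groth.Agent.Helper2.AlgStLib.SmoothCoverAlg

open Groth.Agent.Helper2 Groth.Agent.Helper2.FibCatLib Groth.Agent.Helper2.StkLib
open Groth.Agent.Helper2.AlgSpBasic Groth.Agent.Helper2.EtaleLocal
open Groth.Agent.Helper2.AlgStLib Groth.Agent.Helper2.AlgStLib.Pts
open Groth.Agent.Helper2.AlgStLib.LocQ Groth.Agent.Helper2.AlgStLib.Substack
open Groth.Agent.Helper2.AlgStLib.OpenCover

section General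

variable {C : Type u} [Category.{v} C]
variable {𝒳 : BasedCategory.{v₂, u₂} C} {𝒴 : BasedCategory.{v₃, u₃} C}

/-- The 2-fibre product of two categories fibred in setoids is fibred in setoids. -/
theorem isFibSetoid_fp_of_setoid {𝒮 : BasedCategory.{v₄, u₄} C}
    (h𝒮 : FibCat.IsFibGrpd 𝒮.p) (h𝒳 : FibCat.IsFibSetoid 𝒳.p) (h𝒴 : FibCat.IsFibSetoid 𝒴.p)
    (g : 𝒳 ⥤ᵇ 𝒮) (k : 𝒴 ⥤ᵇ 𝒮) : FibCat.IsFibSetoid (FibCat.fp g k).p := by
  refine ⟨isFibGrpd_fp g k h𝒳.1 h𝒴.1 h𝒮, fun U A B => ⟨fun m m' => ?_⟩⟩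
  apply Subtype.ext
  have hm : (FibCat.fp g k).p.IsHomLift (𝟙 U) m.1 := m.2
  have hm' : (FibCat.fp g k).p.IsHomLift (𝟙 U) m'.1 := m'.2
  have hs : 𝒳.p.IsHomLift (𝟙 U) m.1.hom.fst :=
    BasedFunctor.preserves_isHomLift (FibCat.fpFst g k) (𝟙 U) m.1
  have hs' : 𝒳.p.IsHomLift (𝟙 U) m'.1.hom.fst :=
    BasedFunctor.preserves_isHomLift (FibCat.fpFst g k) (𝟙 U) m'.1
  have ht : 𝒴.p.IsHomLift (𝟙 U) m.1.hom.snd :=
    BasedFunctor.preserves_isHomLift (FibCat.fpSnd g k) (𝟙 U) m.1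
  have ht' : 𝒴.p.IsHomLift (𝟙 U) m'.1.hom.snd :=
    BasedFunctor.preserves_isHomLift (FibCat.fpSnd g k) (𝟙 U) m'.1
  have e1 : m.1.hom.fst = m'.1.hom.fst := eq_of_isThin_fiber 𝒳.p (h𝒳.2 U) _ _
  have e2 : m.1.hom.snd = m'.1.hom.snd := eq_of_isThin_fiber 𝒴.p (h𝒴.2 U) _ _
  apply ObjectProperty.hom_ext
  exact CategoricalPullback.hom_ext e1 e2

end General

variable {S : Scheme.{u}} {𝒳 𝒴 𝒲 𝒰 : BasedCategory.{u, u + 1} (Over S)}

/-- A stack fibred in setoids is equivalent to the category of a sheaf. -/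
theorem exists_sheaf_equiv' (hst : Stk.IsStack (QuotSh.J Scheme.fppfPrecoverage S) 𝒳)
    (hset : FibCat.IsFibSetoid 𝒳.p) :
    ∃ (F : AlgSp.Sp S) (e : AlgSt.ofSp F ⥤ᵇ 𝒳), FibCat.IsEquivOver e := by
  obtain ⟨P, e, he⟩ := FibSetPsh.exists_equiv_ofPsh_of_isFibSetoid 𝒳 hset
  have hst' : Stk.IsStack (QuotSh.J Scheme.fppfPrecoverage S) (Stk.ofPsh P) :=
    (isStack_iff_of_isEquivOver _ e he).2 hst
  have hP : Presheaf.IsSheaf (AlgSp.J S) P := by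
    rw [isSheaf_iff_isSheaf_of_type]
    intro U R hR
    exact (isStackFor_ofPsh_iff P R).1 (hst'.2 R hR)
  exact ⟨⟨P, hP⟩, e, he⟩

/-- A stack in setoids with a smooth surjective atlas is representable by an algebraic space. -/
theorem repByAlgSp_of_isFibSetoid' (hst : Stk.IsStack (QuotSh.J Scheme.fppfPrecoverage S) 𝒳)
    (hset : FibCat.IsFibSetoid 𝒳.p) (hat : AlgSt.HasAtlas (AlgSp.LocP @Smooth) 𝒳) :
    AlgSt.RepByAlgSp 𝒳 := by
  obtain ⟨F, e, he⟩ := exists_sheaf_equiv' hst hset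
  obtain ⟨U, x, hxsm, hxsurj⟩ := hat
  obtain ⟨c₀, hc₀⟩ := SmBootApp.exists_map_of_chart F e he x
  have h1 := hc₀ _ SmBootApp.respectsIsoSp_locP_smooth hxsm
  have h2 := hc₀ _ SmBootApp.respectsIsoSp_isSurjectiveMor hxsurj
  have h3 : AlgSp.RepBySpWith (AlgSp.IsSurjectiveMor ⊓ AlgSp.LocP @Smooth) c₀.hom := by
    rw [AlgSp.repBySpWith_hom_iff] at h1 h2 ⊢
    intro T ξ F' fst snd sq
    exact ⟨(h1 ξ fst snd sq).1, (h2 ξ fst snd sq).2, (h1 ξ fst snd sq).2⟩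
  have hF : AlgSp.IsAlgSpace F :=
    SmBoot.isAlgSpace_of_smooth_cover (AlgSp.IsAlgSpace.yon_obj U) c₀ h3
  exact ⟨⟨F, hF⟩, e, he⟩

/-- **Descent of representability along a smooth surjective cover of the target.** -/
theorem repByAlgSp_fp_of_smooth_cover
    (h𝒳 : Stk.IsStack (QuotSh.J Scheme.fppfPrecoverage S) 𝒳)
    (h𝒴 : Stk.IsStack (QuotSh.J Scheme.fppfPrecoverage S) 𝒴) (h𝒲 : FibCat.IsFibGrpd 𝒲.p)
    (f : 𝒳 ⥤ᵇ 𝒴) (w : 𝒲 ⥤ᵇ 𝒴)
    (hw₁ : AlgSt.RepByAlgSpWith (AlgSp.LocP @Smooth) w)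
    (hw₂ : AlgSt.RepByAlgSpWith AlgSp.IsSurjectiveMor w)
    (hrep : AlgSt.RepByAlgSp1 (FibCat.fpFst w f))
    {U : Over S} (y : FibCat.overCat U ⥤ᵇ 𝒴) (hset : FibCat.IsFibSetoid (FibCat.fp y f).p) :
    AlgSt.RepByAlgSp (FibCat.fp y f) := by
  have hstU : Stk.IsStack (QuotSh.J Scheme.fppfPrecoverage S) (FibCat.overCat U) :=
    (isAlgStack_overCat U).isStack
  have hst : Stk.IsStack (QuotSh.J Scheme.fppfPrecoverage S) (FibCat.fp y f) :=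
    Groth.Agent.S12792.result _ y f hstU h𝒳 (isPrestack_of_isStack h𝒴)
  refine repByAlgSp_of_isFibSetoid' hst hset ?_
  have hw1 : AlgSt.RepByAlgSp1 w := repByAlgSp1_of_repByAlgSpWith w hw₁
  have hT' : AlgSt.RepByAlgSp (FibCat.fp y w) := hw1 U y
  have hgU : FibCat.IsFibGrpd (FibCat.overCat U).p := isFibGrpd_overCat U
  have hgT' : FibCat.IsFibGrpd (FibCat.fp y w).p := isFibGrpd_fp y w hgU h𝒲 h𝒴.1
  have hg𝒫 : FibCat.IsFibGrpd (FibCat.fp y f).p := isFibGrpd_fp y f hgU h𝒳.1 h𝒴.1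
  have hgWf : FibCat.IsFibGrpd (FibCat.fp w f).p := isFibGrpd_fp w f h𝒲 h𝒳.1 h𝒴.1
  have hA₁ : AlgSt.RepByAlgSp (FibCat.fp (FibCat.fpSnd y w) (FibCat.fpFst w f)) :=
    repByAlgSp_fp_of_repByAlgSp hgWf h𝒲 (FibCat.fpFst w f) (FibCat.fpSnd y w) hrep hT'
  have hA₂ : AlgSt.RepByAlgSp (FibCat.fp (BasedFunctor.comp (FibCat.fpSnd y w) w) f) :=
    repByAlgSp_of_isEquivOver (Paste.pasteB (FibCat.fpSnd y w) w f)
      (Paste.pasteB_isEquivOver _ _ _) hA₁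
  obtain ⟨Φ, hΦ, -, -⟩ := exists_equiv_fp_congr_both
    (BasedFunctor.comp (FibCat.fpFst y w) y) (BasedFunctor.comp (FibCat.fpSnd y w) w) f
    (FibCat.fpIso y w)
  obtain ⟨Φ', hΦ', -, -⟩ := isEquivOver_inverse hΦ
  have hA₃ : AlgSt.RepByAlgSp (FibCat.fp (BasedFunctor.comp (FibCat.fpFst y w) y) f) :=
    repByAlgSp_of_isEquivOver Φ' hΦ' hA₂
  obtain ⟨Ψ', hΨ', -, -⟩ := isEquivOver_inverse
    (Paste.pasteB_isEquivOver (FibCat.fpFst y w) y f)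
  have hA₄ : AlgSt.RepByAlgSp (FibCat.fp (FibCat.fpFst y w) (FibCat.fpFst y f)) :=
    repByAlgSp_of_isEquivOver Ψ' hΨ' hA₃
  have hgA₄ : FibCat.IsFibGrpd (FibCat.fp (FibCat.fpFst y w) (FibCat.fpFst y f)).p :=
    isFibGrpd_fp _ _ hgT' hg𝒫 hgU
  have hπ : ∀ P : MorphismProperty (AlgSp.Sp S), AlgSt.RepByAlgSpWith P w →
      AlgSt.RepByAlgSpWith P (FibCat.fpSnd (FibCat.fpFst y w) (FibCat.fpFst y f)) :=
    fun P hP => AlgStLib.repByAlgSpWith_fpSnd P (FibCat.fpFst y w) (FibCat.fpFst y f)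
      (repByAlgSpWith_fpFst P w y hP)
  exact hasAtlas_smooth_of_cover hgA₄ hA₄
    (FibCat.fpSnd (FibCat.fpFst y w) (FibCat.fpFst y f)) (hπ _ hw₁) (hπ _ hw₂)

/-- **A stack with a smooth surjective cover, representable by algebraic spaces, from an
algebraic space is an algebraic stack.** -/
theorem isAlgStack_of_smooth_cover
    (h𝒰 : Stk.IsStack (QuotSh.J Scheme.fppfPrecoverage S) 𝒰)
    (h𝒳 : Stk.IsStack (QuotSh.J Scheme.fppfPrecoverage S) 𝒳)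
    (hU : AlgSt.RepByAlgSp 𝒰) (u : 𝒰 ⥤ᵇ 𝒳)
    (hsm : AlgSt.RepByAlgSpWith (AlgSp.LocP @Smooth) u)
    (hsurj : AlgSt.RepByAlgSpWith AlgSp.IsSurjectiveMor u) :
    AlgSt.IsAlgStack Scheme.fppfPrecoverage 𝒳 := by
  refine ⟨h𝒳, ?_, hasAtlas_smooth_of_cover h𝒰.1 hU u hsm hsurj⟩
  rw [Groth.Agent.S12765.result h𝒳.1]
  intro U x V y
  have hu1 : AlgSt.RepByAlgSp1 u := repByAlgSp1_of_repByAlgSpWith u hsm
  have h1 : AlgSt.RepByAlgSp (FibCat.fp u x) :=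
    repByAlgSp_of_isEquivOver (FpSwap.fpSwap x u) (FpSwap.fpSwap_isEquivOver x u) (hu1 U x)
  have hrep : AlgSt.RepByAlgSp1 (FibCat.fpFst u x) :=
    repByAlgSp1_of_repByAlgSp h1 hU (FibCat.fpFst u x)
  have hstU : Stk.IsStack (QuotSh.J Scheme.fppfPrecoverage S) (FibCat.overCat U) :=
    (isAlgStack_overCat U).isStack
  have hset : FibCat.IsFibSetoid (FibCat.fp y x).p :=
    isFibSetoid_fp_of_setoid h𝒳.1 (isFibSetoid_of_repByAlgSp (repByAlgSp_overCat V))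
      (isFibSetoid_of_repByAlgSp (repByAlgSp_overCat U)) y x
  exact repByAlgSp_fp_of_smooth_cover hstU h𝒳 h𝒰.1 x u hsm hsurj hrep y hset

/-- If the base change of `𝒳 ⟶ 𝒴` along a smooth surjective cover of `𝒴` by an algebraic space
is an algebraic stack, so is `𝒳`. -/
theorem isAlgStack_of_fp_cover (h𝒳 : Stk.IsStack (QuotSh.J Scheme.fppfPrecoverage S) 𝒳)
    (f : 𝒳 ⥤ᵇ 𝒴) (Z : AlgSp.Space S) (z : AlgSt.ofSp Z.obj ⥤ᵇ 𝒴)
    (hsm : AlgSt.RepByAlgSpWith (AlgSp.LocP @Smooth) z)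
    (hsurj : AlgSt.RepByAlgSpWith AlgSp.IsSurjectiveMor z)
    (hfp : AlgSt.IsAlgStack Scheme.fppfPrecoverage (FibCat.fp z f)) :
    AlgSt.IsAlgStack Scheme.fppfPrecoverage 𝒳 := by
  obtain ⟨V, a, ha1, ha2⟩ := hfp.atlas
  have hpr : ∀ P : MorphismProperty (AlgSp.Sp S), AlgSt.RepByAlgSpWith P z →
      AlgSt.RepByAlgSpWith P (FibCat.fpSnd z f) :=
    fun P h => AlgStLib.repByAlgSpWith_fpSnd P z f h
  have hc := smooth_surjective_comp (isFibGrpd_overCat V) hfp.isStack.1 a (FibCat.fpSnd z f)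
    ⟨ha1, ha2⟩ ⟨hpr _ hsm, hpr _ hsurj⟩
  exact isAlgStack_of_smooth_cover (isAlgStack_overCat V).isStack h𝒳 (repByAlgSp_overCat V)
    (BasedFunctor.comp a (FibCat.fpSnd z f)) hc.1 hc.2

end Groth.Agent.Helper2.AlgStLib.SmoothCoverAlg
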