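import Mathlib
import Groth.Prelude.Def_AlgSt4
import Groth.Agent.Lib.Helper2.AlgSt.SmoothCoverAlg
import Groth.Agent.Lib.Helper2.AlgSt.SmBootApp
import Groth.Agent.Lib.Helper2.SmBoot.PshMain

/-!
# An étale stack with a smooth surjective atlas is algebraic (helper2)

Étale-topology version of `SmoothCoverAlg`, using the smooth bootstrap for étale sheaves.
-/

set_option autoImplicit false
set_option synthInstance.maxHeartbeats 400000
set_option maxHeartbeats 4000000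
set_option linter.style.haveILetI false
set_option linter.unusedSectionVars false
set_option linter.unusedVariables false
set_option linter.unusedSimpArgs false
set_option linter.unnecessarySimpa false

open CategoryTheory CategoryTheory.Functor CategoryTheory.Limits AlgebraicGeometry Opposite

universe v₄ u₄ v₃ u₃ v₂ u₂ v w u

namespace Groth.Agent.Helper2.AlgStLib.SmoothCoverAlgEt

open Groth.Agent.Helper2 Groth.Agent.Helper2.FibCatLib Groth.Agent.Helper2.StkLib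
open Groth.Agent.Helper2.AlgSpBasic Groth.Agent.Helper2.EtaleLocal
open Groth.Agent.Helper2.AlgStLib Groth.Agent.Helper2.AlgStLib.Pts
open Groth.Agent.Helper2.AlgStLib.LocQ Groth.Agent.Helper2.AlgStLib.Substack
open Groth.Agent.Helper2.AlgStLib.OpenCover Groth.Agent.Helper2.AlgStLib.SmoothCoverAlg

variable {S : Scheme.{u}} {𝒳 𝒴 𝒲 𝒰 : BasedCategory.{u, u + 1} (Over S)}

/-- An fppf stack is an étale stack. -/
theorem isStack_et_of_fppf (h : Stk.IsStack (QuotSh.J Scheme.fppfPrecoverage S) 𝒳) :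
    Stk.IsStack (QuotSh.J Scheme.etalePrecoverage S) 𝒳 :=
  ⟨h.1, fun U R hR => h.2 R (EtSheafSpace.Jet_le_J _ hR)⟩

/-- An étale stack fibred in setoids is equivalent to the category of an étale sheaf. -/
theorem exists_etSheaf_equiv (hst : Stk.IsStack (QuotSh.J Scheme.etalePrecoverage S) 𝒳)
    (hset : FibCat.IsFibSetoid 𝒳.p) :
    ∃ (P : AlgSp.PSp S) (e : Stk.ofPsh P ⥤ᵇ 𝒳), FibCat.IsEquivOver e ∧
      Presheaf.IsSheaf (QuotSh.J Scheme.etalePrecoverage S) P := by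
  obtain ⟨P, e, he⟩ := FibSetPsh.exists_equiv_ofPsh_of_isFibSetoid 𝒳 hset
  have hst' : Stk.IsStack (QuotSh.J Scheme.etalePrecoverage S) (Stk.ofPsh P) :=
    (isStack_iff_of_isEquivOver _ e he).2 hst
  have hP : Presheaf.IsSheaf (QuotSh.J Scheme.etalePrecoverage S) P := by
    rw [isSheaf_iff_isSheaf_of_type]
    intro U R hR
    exact (isStackFor_ofPsh_iff P R).1 (hst'.2 R hR)
  exact ⟨P, e, he, hP⟩

/-- A chart of a category equivalent to the category of a presheaf gives a map of presheaves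
with the same properties. -/
theorem exists_map_of_chart_psh (P : AlgSp.PSp S) (e : Stk.ofPsh P ⥤ᵇ 𝒳)
    (he : FibCat.IsEquivOver e) {U : Over S} (x : FibCat.overCat U ⥤ᵇ 𝒳) :
    ∃ c₀ : (AlgSp.pyon S).obj U ⟶ P, ∀ (Q : MorphismProperty (AlgSp.Sp S)), RespectsIsoSp Q →
      AlgSt.RepByAlgSpWith Q x → AlgSp.RepBySpWith Q c₀ := by
  have he0 := he
  obtain ⟨e', ⟨ε⟩, ⟨β⟩⟩ := he0
  obtain ⟨c₀, hc0⟩ : ∃ c₀ : (AlgSp.pyon S).obj U ⟶ P, c₀ = mapOfFunctor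
      (BasedFunctor.comp (BasedFunctor.comp (AlgSt.toOverCat U) x) e') :=
    ⟨_, rfl⟩
  obtain ⟨κ⟩ := ofPshMap_mapOfFunctor_iso
    (BasedFunctor.comp (BasedFunctor.comp (AlgSt.toOverCat U) x) e')
  rw [← hc0] at κ
  have θ : BasedFunctor.comp (Stk.ofPshMap c₀) e ≅
      BasedFunctor.comp (AlgSt.toOverCat U) x :=
    (PushPull.whiskerRightIso κ e) ≪≫
      (whiskerLeftIso (BasedFunctor.comp (AlgSt.toOverCat U) x) β)
  refine ⟨c₀, fun Q hQ hx => ?_⟩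
  have h1 : AlgSt.RepByAlgSpWith Q (Stk.ofPshMap c₀) :=
    (repByAlgSpWith_of_square Q x (Stk.ofPshMap c₀) (AlgSt.toOverCat U) e
      (toOverCat_isEquivOver U) he θ).1 hx
  have hrep1 : AlgSt.RepByAlgSp1 (Stk.ofPshMap c₀) := repByAlgSp1_of_repByAlgSpWith _ h1
  have hrepSp : AlgSp.RepBySp c₀ := (repBySp_iff_repByAlgSp1_ofPshMap c₀).2 hrep1
  exact (repBySpWith_iff_repByAlgSpWith_ofPshMap' Q hQ c₀ hrepSp).2 h1

/-- An étale stack in setoids with a smooth surjective atlas is representable by an algebraic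
space. -/
theorem repByAlgSp_of_isFibSetoid_et
    (hst : Stk.IsStack (QuotSh.J Scheme.etalePrecoverage S) 𝒳)
    (hset : FibCat.IsFibSetoid 𝒳.p) (hat : AlgSt.HasAtlas (AlgSp.LocP @Smooth) 𝒳) :
    AlgSt.RepByAlgSp 𝒳 := by
  obtain ⟨P, e, he, hP⟩ := exists_etSheaf_equiv hst hset
  obtain ⟨U, x, hxsm, hxsurj⟩ := hat
  obtain ⟨c₀, hc₀⟩ := exists_map_of_chart_psh P e he x
  have h1 := hc₀ _ SmBootApp.respectsIsoSp_locP_smooth hxsm
  have h2 := hc₀ _ SmBootApp.respectsIsoSp_isSurjectiveMor hxsurj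
  have h3 : AlgSp.RepBySpWith (AlgSp.IsSurjectiveMor ⊓ AlgSp.LocP @Smooth) c₀ := by
    intro T ξ F' fst snd sq
    obtain ⟨hs1, hA1, hq1⟩ := h1 ξ fst snd sq
    obtain ⟨hs2, hA2, hq2⟩ := h2 ξ fst snd sq
    exact ⟨hs1, hA1, hq2, hq1⟩
  obtain ⟨hsh, hF⟩ := SmBootP.isAlgSpaceP_of_repBySpWith_smooth_surj P hP
    (AlgSp.IsAlgSpace.yon_obj U) c₀ h3
  exact ⟨⟨⟨P, hsh⟩, hF⟩, e, he⟩

/-- **Descent of representability along a smooth surjective cover of the target (étale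
stacks).** -/
theorem repByAlgSp_fp_of_smooth_cover_et
    (h𝒳 : Stk.IsStack (QuotSh.J Scheme.etalePrecoverage S) 𝒳)
    (h𝒴 : Stk.IsStack (QuotSh.J Scheme.etalePrecoverage S) 𝒴) (h𝒲 : FibCat.IsFibGrpd 𝒲.p)
    (f : 𝒳 ⥤ᵇ 𝒴) (w : 𝒲 ⥤ᵇ 𝒴)
    (hw₁ : AlgSt.RepByAlgSpWith (AlgSp.LocP @Smooth) w)
    (hw₂ : AlgSt.RepByAlgSpWith AlgSp.IsSurjectiveMor w)
    (hrep : AlgSt.RepByAlgSp1 (FibCat.fpFst w f))
    {U : Over S} (y : FibCat.overCat U ⥤ᵇ 𝒴) (hset : FibCat.IsFibSetoid (FibCat.fp y f).p) :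
    AlgSt.RepByAlgSp (FibCat.fp y f) := by
  have hstU : Stk.IsStack (QuotSh.J Scheme.etalePrecoverage S) (FibCat.overCat U) :=
    isStack_et_of_fppf (isAlgStack_overCat U).isStack
  have hst : Stk.IsStack (QuotSh.J Scheme.etalePrecoverage S) (FibCat.fp y f) :=
    Groth.Agent.S12792.result _ y f hstU h𝒳 (isPrestack_of_isStack h𝒴)
  refine repByAlgSp_of_isFibSetoid_et hst hset ?_
  have hw1 : AlgSt.RepByAlgSp1 w := repByAlgSp1_of_repByAlgSpWith w hw₁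
  have hT' : AlgSt.RepByAlgSp (FibCat.fp y w) := hw1 U y
  have hgU : FibCat.IsFibGrpd (FibCat.overCat U).p := isFibGrpd_overCat U
  have hgT' : FibCat.IsFibGrpd (FibCat.fp y w).p := isFibGrpd_fp y w hgU h𝒲 h𝒴.1
  have hg𝒫 : FibCat.IsFibGrpd (FibCat.fp y f).p := isFibGrpd_fp y f hgU h𝒳.1 h𝒴.1
  have hgWf : FibCat.IsFibGrpd (FibCat.fp w f).p := isFibGrpd_fp w f h𝒲 h𝒳.1 h𝒴.1
  have hA₁ : AlgSt.RepByAlgSp (FibCat.fp (FibCat.fpSnd y w) (FibCat.fpFst w f)) :=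
    repByAlgSp_fp_of_repByAlgSp hgWf h𝒲 (FibCat.fpFst w f) (FibCat.fpSnd y w) hrep hT'
  have hA₂ : AlgSt.RepByAlgSp (FibCat.fp (BasedFunctor.comp (FibCat.fpSnd y w) w) f) :=
    repByAlgSp_of_isEquivOver (Paste.pasteB (FibCat.fpSnd y w) w f)
      (Paste.pasteB_isEquivOver _ _ _) hA₁
  obtain ⟨Φ, hΦ, -, -⟩ := exists_equiv_fp_congr_both
    (BasedFunctor.comp (FibCat.fpFst y w) y) (BasedFunctor.comp (FibCat.fpSnd y w) w) f
    (FibCat.fpIso y w)
  obtain ⟨Φ', hΦ', -, -⟩ := isEquivOver_inverse hΦ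
  have hA₃ : AlgSt.RepByAlgSp (FibCat.fp (BasedFunctor.comp (FibCat.fpFst y w) y) f) :=
    repByAlgSp_of_isEquivOver Φ' hΦ' hA₂
  obtain ⟨Ψ', hΨ', -, -⟩ := isEquivOver_inverse
    (Paste.pasteB_isEquivOver (FibCat.fpFst y w) y f)
  have hA₄ : AlgSt.RepByAlgSp (FibCat.fp (FibCat.fpFst y w) (FibCat.fpFst y f)) :=
    repByAlgSp_of_isEquivOver Ψ' hΨ' hA₃
  have hgA₄ : FibCat.IsFibGrpd (FibCat.fp (FibCat.fpFst y w) (FibCat.fpFst y f)).p :=
    isFibGrpd_fp _ _ hgT' hg𝒫 hgU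
  have hπ : ∀ P : MorphismProperty (AlgSp.Sp S), AlgSt.RepByAlgSpWith P w →
      AlgSt.RepByAlgSpWith P (FibCat.fpSnd (FibCat.fpFst y w) (FibCat.fpFst y f)) :=
    fun P hP => AlgStLib.repByAlgSpWith_fpSnd P (FibCat.fpFst y w) (FibCat.fpFst y f)
      (repByAlgSpWith_fpFst P w y hP)
  exact hasAtlas_smooth_of_cover hgA₄ hA₄
    (FibCat.fpSnd (FibCat.fpFst y w) (FibCat.fpFst y f)) (hπ _ hw₁) (hπ _ hw₂)

/-- **An étale stack with a smooth surjective atlas from a scheme is an algebraic stack for the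
étale topology.** -/
theorem isAlgStack_et_of_hasAtlas
    (h𝒳 : Stk.IsStack (QuotSh.J Scheme.etalePrecoverage S) 𝒳)
    (hat : AlgSt.HasAtlas (AlgSp.LocP @Smooth) 𝒳) :
    AlgSt.IsAlgStack Scheme.etalePrecoverage 𝒳 := by
  refine ⟨h𝒳, ?_, hat⟩
  obtain ⟨W, u, hsm, hsurj⟩ := hat
  rw [Groth.Agent.S12765.result h𝒳.1]
  intro U x V y
  have hu1 : AlgSt.RepByAlgSp1 u := repByAlgSp1_of_repByAlgSpWith u hsm
  have h1 : AlgSt.RepByAlgSp (FibCat.fp u x) :=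
    repByAlgSp_of_isEquivOver (FpSwap.fpSwap x u) (FpSwap.fpSwap_isEquivOver x u) (hu1 U x)
  have hrep : AlgSt.RepByAlgSp1 (FibCat.fpFst u x) :=
    repByAlgSp1_of_repByAlgSp h1 (repByAlgSp_overCat W) (FibCat.fpFst u x)
  have hstU : Stk.IsStack (QuotSh.J Scheme.etalePrecoverage S) (FibCat.overCat U) :=
    isStack_et_of_fppf (isAlgStack_overCat U).isStack
  have hset : FibCat.IsFibSetoid (FibCat.fp y x).p :=
    isFibSetoid_fp_of_setoid h𝒳.1 (isFibSetoid_of_repByAlgSp (repByAlgSp_overCat V))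
      (isFibSetoid_of_repByAlgSp (repByAlgSp_overCat U)) y x
  exact repByAlgSp_fp_of_smooth_cover_et hstU h𝒳 (isFibGrpd_overCat W) x u hsm hsurj hrep y hset

end Groth.Agent.Helper2.AlgStLib.SmoothCoverAlgEt
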